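import Groth.Agent.LefPenLib.Coord
import Groth.Agent.GrpSchLib.SmoothReduced
import Groth.Agent.CurveFin.RelDim

/-!
# Smoothness of hypersurface sections chart by chart
-/

set_option backward.isDefEq.respectTransparency false
set_option backward.isDefEq.respectTransparency.types false
set_option linter.unusedSectionVars false
set_option linter.style.haveILetI false

universe u

open CategoryTheory CategoryTheory.Limits AlgebraicGeometry TopologicalSpace Opposite

namespace Groth.Agent.LefPenLib

variable {r : ℕ} {k : Type u} [Field k]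

noncomputable section

/-- A smooth morphism from an affine scheme can be checked near each prime. -/
theorem smoothRelDim_Spec_of_forall_prime {B : Type u} [CommRing B] [Algebra k B] {m : ℕ}
    (h : ∀ (q : Ideal B), q.IsPrime → ∃ f : B, f ∉ q ∧ SmoothOfRelativeDimension m
      (Spec.map (CommRingCat.ofHom (algebraMap k (Localization.Away f))))) :
    SmoothOfRelativeDimension m (Spec.map (CommRingCat.ofHom (algebraMap k B))) := by
  choose f hf hs using h
  let 𝒰 : (Spec (CommRingCat.of B)).OpenCover :=
    Scheme.Cover.mkOfCovers (PrimeSpectrum B)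
      (fun q => Spec (CommRingCat.of (Localization.Away (f q.asIdeal q.2))))
      (fun q => Spec.map (CommRingCat.ofHom (algebraMap B (Localization.Away (f q.asIdeal q.2)))))
      (fun q => by
        refine ⟨q, ?_⟩
        have h2 : q ∈ (PrimeSpectrum.basicOpen (f q.asIdeal q.2) : Set (PrimeSpectrum B)) := hf _ _
        rw [← PrimeSpectrum.localization_away_comap_range (Localization.Away (f q.asIdeal q.2)) (f q.asIdeal q.2)] at h2
        exact h2)
      (fun q => inferInstance)
  refine IsZariskiLocalAtSource.of_openCover (P := @SmoothOfRelativeDimension m) 𝒰 fun q => ?_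
  show SmoothOfRelativeDimension m (Spec.map _ ≫ Spec.map _)
  rw [← Spec.map_comp]
  convert hs q.asIdeal q.2 using 2
  rw [← CommRingCat.ofHom_comp, ← IsScalarTower.algebraMap_eq]

theorem fromSpec_comp {X : Scheme.{u}} (f : X ⟶ Spec (CommRingCat.of k)) {V : X.Opens} (hV : IsAffineOpen V) :
    hV.fromSpec ≫ f = Spec.map (CommRingCat.ofHom (SmoothReg.affMap f V)) := by
  rw [← IsAffineOpen.SpecMap_appLE_fromSpec f (isAffineOpen_top _) hV (by simp), IsAffineOpen.fromSpec_top,
    Scheme.isoSpec_Spec_inv, ← Spec.map_comp]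
  rfl

variable {X : Scheme.{u}} (ι : X ⟶ CohB1.ProjSpace r k) {d : ℕ}

attribute [local instance] wAlgebra

/-- Transversality of a hypersurface section is checked on the charts. -/
theorem smoothRelDim_secToSpec [IsAffineHom ι] (G : LefPen.Form r k d) (m : ℕ)
    (h : ∀ i, SmoothOfRelativeDimension m (Spec.map (CommRingCat.ofHom
      (algebraMap k (Γ(X, wOpen ι i) ⧸ Ideal.span {pullForm ι i G}))))) :
    SmoothOfRelativeDimension m (LefPen.secToSpec ι ({G} : Set (LefPen.Form r k d))) := by
  let I := LefPen.secIdeal ι ({G} : Set (LefPen.Form r k d))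
  let U : Fin (r + 1) → X.affineOpens := fun i => ⟨wOpen ι i, isAffine_wOpen ι i⟩
  let 𝒰 : I.subscheme.OpenCover :=
    Scheme.Cover.mkOfCovers (Fin (r + 1))
      (fun i => Spec (CommRingCat.of (Γ(X, U i) ⧸ I.ideal (U i)))) (fun i => I.subschemeCover.f (U i))
      (fun y => by
        have hy : ι (I.subschemeι y) ∈ (⨆ i, LefPen.chart r k i : (CohB1.ProjSpace r k).Opens) := by
          rw [iSup_chart]; trivial
        obtain ⟨i, hi⟩ := Opens.mem_iSup.1 hy
        refine ⟨i, ?_⟩
        have h2 : y ∈ (I.subschemeCover.f (U i)).opensRange := by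
          rw [Scheme.IdealSheafData.opensRange_subschemeCover_map]; exact hi
        exact h2)
      (fun i => by exact I.subschemeCover.map_prop (U i))
  refine IsZariskiLocalAtSource.of_openCover (P := @SmoothOfRelativeDimension m) 𝒰 fun i => ?_
  show SmoothOfRelativeDimension m (I.subschemeCover.f (U i) ≫ I.subschemeι ≫ ι ≫ CohB1.ProjSpace.toSpec r k)
  rw [← Category.assoc, Scheme.IdealSheafData.subschemeCover_map_subschemeι]
  unfold Scheme.IdealSheafData.glueDataObjι
  rw [Category.assoc, Category.assoc, IsAffineOpen.isoSpec_inv_ι_assoc, fromSpec_comp, ← Spec.map_comp]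
  have hI : I.ideal (U i) = Ideal.span {pullForm ι i G} := secIdeal_singleton ι G i
  have key : ∀ J : Ideal Γ(X, wOpen ι i),
      SmoothOfRelativeDimension m (Spec.map (CommRingCat.ofHom (algebraMap k (Γ(X, wOpen ι i) ⧸ J)))) →
      SmoothOfRelativeDimension m (Spec.map (CommRingCat.ofHom (SmoothReg.affMap (ι ≫ CohB1.ProjSpace.toSpec r k)
        (wOpen ι i)) ≫ CommRingCat.ofHom (Ideal.Quotient.mk J))) := fun J hJ => hJ
  exact key (I.ideal (U i)) (hI ▸ h i)

end

end Groth.Agent.LefPenLib
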