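import Groth.Agent.LefPenLib.Coeff
import Groth.Agent.LefPenLib.SecChart
import Groth.Agent.S4228

/-!
# Bertini for hypersurface sections
-/

set_option backward.isDefEq.respectTransparency false
set_option backward.isDefEq.respectTransparency.types false
set_option linter.unusedSectionVars false
set_option linter.style.haveILetI false

universe u

open CategoryTheory CategoryTheory.Limits AlgebraicGeometry TopologicalSpace Opposite

namespace Groth.Agent.LefPenLib

noncomputable section

variable {r : ℕ} {k : Type u} [Field k] {X : Scheme.{u}} (ι : X ⟶ CohB1.ProjSpace r k)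

attribute [local instance] wAlgebra

theorem topologicalKrullDim_eq_of_smoothRelDim [IrreducibleSpace X] (f : X ⟶ Spec (CommRingCat.of k)) {n : ℕ}
    [SmoothOfRelativeDimension n f] : topologicalKrullDim X = n := by
  haveI : Smooth f := SmoothOfRelativeDimension.smooth n f
  obtain ⟨x⟩ : Nonempty X := inferInstance
  obtain ⟨U, hU, V, hV, hxV, e, h⟩ := SmoothOfRelativeDimension.exists_isStandardSmoothOfRelativeDimension (n := n) (f := f) x
  have hUt : U = ⊤ := top_le_iff.1 fun p _ => by
    rw [Subsingleton.elim p (f x)]; exact e hxV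
  subst hUt
  let ψ := (Scheme.ΓSpecIso (CommRingCat.of k)).inv ≫ f.appLE ⊤ V e
  have h' : RingHom.IsStandardSmoothOfRelativeDimension n ψ.hom :=
    RingHom.isStandardSmoothOfRelativeDimension_respectsIso.2 _
      (Scheme.ΓSpecIso (CommRingCat.of k)).symm.commRingCatIsoToRingEquiv h
  let _ := ψ.hom.toAlgebra
  have : Algebra.IsStandardSmoothOfRelativeDimension n k Γ(X, V) := h'
  have : Nonempty V := ⟨⟨x, hxV⟩⟩
  haveI : Nontrivial Γ(X, V) := inferInstance
  have h2 := SmoothDim.ringKrullDim_eq k Γ(X, V) n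
  rw [CurveFin.ringKrullDim_affine_eq f hV ⟨x, hxV⟩] at h2
  exact h2

theorem pullPoly_monomial_self (i : Fin (r + 1)) (d : ℕ) :
    pullPoly ι i (MvPolynomial.monomial (Finsupp.single i d) 1) = 1 := by
  rw [← MvPolynomial.X_pow_eq_monomial, map_pow, pullPoly_X_self, one_pow]

/-- Bertini on a chart. -/
theorem exists_generic_chart [Infinite k] [IsClosedImmersion ι] [IrreducibleSpace X] {n : ℕ}
    [SmoothOfRelativeDimension n (ι ≫ CohB1.ProjSpace.toSpec r k)] {d : ℕ} (hd : 1 ≤ d) (i : Fin (r + 1)) :
    ∃ g : MvPolynomial (Expo r d) k, g ≠ 0 ∧ ∀ H : LefPen.Form r k d,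
      MvPolynomial.eval (fun e => coeffL e H) g ≠ 0 →
      SmoothOfRelativeDimension (n - 1) (Spec.map (CommRingCat.ofHom
        (algebraMap k (Γ(X, wOpen ι i) ⧸ Ideal.span {pullForm ι i H})))) := by
  let W := wOpen ι i
  let f := ι ≫ CohB1.ProjSpace.toSpec r k
  have hW : IsAffineOpen W := isAffine_wOpen ι i
  rcases isEmpty_or_nonempty W with hE | hne
  · refine ⟨1, one_ne_zero, fun H _ => smoothRelDim_Spec_of_forall_prime fun q hq => ?_⟩
    exfalso
    haveI : Subsingleton Γ(X, W) := by
      have hb : W = ⊥ := eq_bot_iff.2 fun x hx => hE.elim ⟨x, hx⟩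
      rw [hb]; infer_instance
    exact hq.ne_top ((Ideal.eq_top_iff_one q).2 (by
      have : (1 : Γ(X, W) ⧸ Ideal.span {pullForm ι i H}) = 0 := by
        rw [← map_one (Ideal.Quotient.mk _), Subsingleton.elim (1 : Γ(X, W)) 0, map_zero]
      rw [this]; exact q.zero_mem))
  · haveI : Smooth f := SmoothOfRelativeDimension.smooth n f
    haveI : AlgebraicGeometry.IsReduced X := GrpSchLib.isReduced_of_smooth_field f
    haveI : IsIntegral X := isIntegral_of_irreducibleSpace_of_isReduced X
    haveI : IsDomain Γ(X, W) := @IsIntegral.component_integral X _ W hne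
    classical
    let e0 : Expo r d := ⟨Finsupp.single i d, Finsupp.degree_single i d⟩
    let N := Fintype.card {e : Expo r d // e ≠ e0}
    let σ : Fin (N + 1) ≃ Expo r d :=
      (finSuccEquiv N).trans ((Equiv.optionCongr (Fintype.equivFin {e : Expo r d // e ≠ e0}).symm).trans
        (Equiv.optionSubtypeNe e0))
    have hσ0 : σ 0 = e0 := by
      show Equiv.optionSubtypeNe e0 ((Equiv.optionCongr (Fintype.equivFin {e : Expo r d // e ≠ e0}).symm) (finSuccEquiv N 0)) = e0
      rw [finSuccEquiv_zero, Equiv.optionCongr_apply, Option.map_none, Equiv.optionSubtypeNe_none]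
    let x : Fin N → Γ(X, W) := fun j => pullPoly ι i (MvPolynomial.monomial (σ j.succ).1 1)
    have hx : Function.Surjective (MvPolynomial.aeval x : MvPolynomial (Fin N) k →ₐ[k] Γ(X, W)) := by
      rw [← AlgHom.range_eq_top, eq_top_iff, ← (AlgHom.range_eq_top _).2 (pullPoly_surjective ι i),
        ← Algebra.map_top, ← MvPolynomial.adjoin_range_X, AlgHom.map_adjoin, Algebra.adjoin_le_iff]
      rintro _ ⟨_, ⟨j, rfl⟩, rfl⟩
      let ej : Expo r d := ⟨Finsupp.single j 1 + Finsupp.single i (d - 1), by
        rw [map_add, Finsupp.degree_single, Finsupp.degree_single]; omega⟩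
      have hj : pullPoly ι i (MvPolynomial.X j) = pullPoly ι i (MvPolynomial.monomial ej.1 1) := by
        rw [show (MvPolynomial.monomial ej.1 (1 : k)) = MvPolynomial.X j * MvPolynomial.monomial (Finsupp.single i (d - 1)) 1 by
          rw [MvPolynomial.X, MvPolynomial.monomial_mul, one_mul], map_mul, pullPoly_monomial_self, mul_one]
      rw [hj]
      obtain ⟨a, ha⟩ := σ.surjective ej
      rw [← ha]
      rcases Fin.eq_zero_or_eq_succ a with rfl | ⟨a, rfl⟩
      · rw [hσ0, pullPoly_monomial_self]; exact one_mem _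
      · exact ⟨MvPolynomial.X a, MvPolynomial.aeval_X x a⟩
    have hdim : ∀ P ∈ minimalPrimes Γ(X, W), ringKrullDim (Γ(X, W) ⧸ P) = n := by
      intro P hP
      rw [IsDomain.minimalPrimes_eq_singleton_bot, Set.mem_singleton_iff] at hP
      subst hP
      rw [ringKrullDim_eq_of_ringEquiv (RingEquiv.quotientBot _),
        CurveFin.ringKrullDim_affine_eq f hW ⟨_, hne.some.2⟩, topologicalKrullDim_eq_of_smoothRelDim f (n := n)]
    obtain ⟨g, hg0, hg⟩ := S4228.result k N n Γ(X, W) x hx hdim
    refine ⟨MvPolynomial.rename σ g, fun h => hg0 (MvPolynomial.rename_injective _ σ.injective (by rw [h, map_zero])),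
      fun H hH => ?_⟩
    rw [MvPolynomial.eval_rename] at hH
    let a : Fin (N + 1) → k := fun j => coeffL (σ j) H
    have key : pullForm ι i H = algebraMap k Γ(X, W) (a 0) + ∑ j : Fin N, algebraMap k Γ(X, W) (a j.succ) * x j := by
      rw [pullForm_eq, eq_sum_coeff H, map_sum, ← σ.sum_comp, Fin.sum_univ_succ]
      congr 1
      · rw [show MvPolynomial.monomial (σ 0).1 (coeffL (σ 0) H) = MvPolynomial.C (a 0) * MvPolynomial.monomial (σ 0).1 1 by
          rw [MvPolynomial.C_mul_monomial, mul_one], map_mul, hσ0, pullPoly_monomial_self, mul_one,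
          ← MvPolynomial.algebraMap_eq, AlgHom.commutes]
      · refine Finset.sum_congr rfl fun j _ => ?_
        rw [show MvPolynomial.monomial (σ j.succ).1 (coeffL (σ j.succ) H) = MvPolynomial.C (a j.succ) * MvPolynomial.monomial (σ j.succ).1 1 by
          rw [MvPolynomial.C_mul_monomial, mul_one], map_mul, ← MvPolynomial.algebraMap_eq, AlgHom.commutes]
    rw [key]
    refine smoothRelDim_Spec_of_forall_prime fun q hq => hg a hH q hq ⟨1, ?_, ?_⟩
    · exact (Ideal.ne_top_iff_one _).1 (Ideal.IsPrime.ne_top inferInstance)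
    · have hA : Smooth (Spec.map (CommRingCat.ofHom (algebraMap k Γ(X, W)))) := by
        rw [show algebraMap k Γ(X, W) = SmoothReg.affMap f W from rfl, ← fromSpec_comp f hW]
        infer_instance
      rw [IsScalarTower.algebraMap_eq k Γ(X, W) (Localization.Away (1 : Γ(X, W))), CommRingCat.ofHom_comp, Spec.map_comp]
      infer_instance

end

end Groth.Agent.LefPenLib
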