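import Groth.Agent.LefPenLib.QuadCone
import Groth.Agent.PSQuad.Vars
import Mathlib.RingTheory.MvPolynomial.EulerIdentity
import Groth.Prelude.Def_LefPen

/-!
# The quadratic cone of a power series at the origin
-/

set_option backward.isDefEq.respectTransparency false
set_option backward.isDefEq.respectTransparency.types false

universe u

open MvPolynomial

namespace Groth.Agent.LefPenLib

noncomputable section

variable {k : Type u} [Field k] {m : ℕ}

/-- The origin of the formal affine space. -/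
def psOrigin (k : Type u) [Field k] (m : ℕ) : MvPowerSeries (Fin m) k →ₐ[k] k :=
  { (MvPowerSeries.constantCoeff : MvPowerSeries (Fin m) k →+* k) with
    commutes' := fun c => by simp [MvPowerSeries.algebraMap_apply] }

theorem psOrigin_apply (f : MvPowerSeries (Fin m) k) : psOrigin k m f = MvPowerSeries.constantCoeff f := rfl

/-- The origin of affine space. -/
def polyOrigin (k : Type u) [Field k] (m : ℕ) : MvPolynomial (Fin m) k →ₐ[k] k := MvPolynomial.aeval fun _ => 0

theorem aeval_T3 (u v : Fin m → k) (p : MvPolynomial (Fin m) k) :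
    aeval (fun l => (⟨0, u l, v l⟩ : T3 k)) p =
      ⟨partAt (RingHom.id k) 0 u p, partAt (RingHom.id k) 1 u p,
        partAt (RingHom.id k) 2 u p + partAt (RingHom.id k) 1 v p⟩ := by
  induction p using MvPolynomial.induction_on with
  | C c => rw [aeval_C]; ext <;> simp [partAt_C_zero, partAt_C_succ]
  | add p q hp hq => rw [map_add, hp, hq]; ext <;> simp [partAt_add, add_add_add_comm]
  | mul_X p s hp =>
    rw [map_mul, hp, aeval_X]
    have h0 : partAt (RingHom.id k) 0 v p = partAt (RingHom.id k) 0 u p := by simp [partAt, homogeneousComponent_zero]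
    ext <;> simp [partAt_mul_X_zero, partAt_mul_X_succ, h0] <;> ring

theorem aeval_dualDual (u w z : Fin m → k) (p : MvPolynomial (Fin m) k) :
    aeval (fun l => (TrivSqZeroExt.inl (TrivSqZeroExt.inr (u l)) +
        TrivSqZeroExt.inr (TrivSqZeroExt.inl (w l) + TrivSqZeroExt.inr (z l)) : DualNumber (DualNumber k))) p =
      TrivSqZeroExt.inl (TrivSqZeroExt.inl (partAt (RingHom.id k) 0 u p) + TrivSqZeroExt.inr (partAt (RingHom.id k) 1 u p)) +
        TrivSqZeroExt.inr (TrivSqZeroExt.inl (partAt (RingHom.id k) 1 w p) +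
          TrivSqZeroExt.inr (polarAt (RingHom.id k) u w p + partAt (RingHom.id k) 1 z p)) := by
  induction p using MvPolynomial.induction_on with
  | C c => rw [aeval_C]; ext <;> simp [partAt_C_zero, partAt_C_succ, polarAt_C, TrivSqZeroExt.algebraMap_eq_inl']
  | add p q hp hq => rw [map_add, hp, hq]; ext <;> simp [partAt_add, polarAt_add, add_add_add_comm]
  | mul_X p s hp =>
    rw [map_mul, hp, aeval_X]
    have h0 : ∀ v, partAt (RingHom.id k) 0 v p = partAt (RingHom.id k) 0 u p := fun v => by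
      simp [partAt, homogeneousComponent_zero]
    ext <;> simp [partAt_mul_X_zero, partAt_mul_X_succ, polarAt_mul_X, h0 w, h0 z] <;> ring

theorem partAt_of_isHomogeneous {d : ℕ} {p : MvPolynomial (Fin m) k} (hp : p.IsHomogeneous d) (n : ℕ)
    (u : Fin m → k) : partAt (RingHom.id k) n u p = if n = d then eval u p else 0 := by
  rw [partAt, homogeneousComponent_of_mem hp, map_id]
  split_ifs <;> simp

/-- The quadratic cone of a quadratic form at the origin. -/
theorem degPt_poly_iff (p : MvPolynomial (Fin m) k) (hp : p.IsHomogeneous 2) :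
    DegPt (polyOrigin k m) p ↔ ∃ u : Fin m → k, u ≠ 0 ∧ eval u p = 0 ∧ ∀ l, eval u (pderiv l p) = 0 := by
  have hpolar : ∀ u w, polarAt (RingHom.id k) u w p = ∑ l, w l * eval u (pderiv l p) := fun u w => by
    simp [polarAt, homogeneousComponent_of_mem hp]
  have hfst : ∀ (φ : MvPolynomial (Fin m) k →ₐ[k] DualNumber k),
      (TrivSqZeroExt.fstHom k k k).comp φ = polyOrigin k m → ∀ l, (φ (X l)).fst = 0 := fun φ hφ l => by
    rw [show (φ (X l)).fst = polyOrigin k m (X l) from DFunLike.congr_fun hφ (X l), polyOrigin, aeval_X]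
  constructor
  · rintro ⟨φ, hφ, -, ⟨a, ha⟩, ⟨ψ, hψ, hψh⟩, hall⟩
    let u : Fin m → k := fun l => (φ (X l)).snd
    have hψX : ψ = aeval (fun l => (⟨0, u l, (ψ (X l)).c2⟩ : T3 k)) := algHom_ext fun l => by
      rw [aeval_X]
      ext
      · have := hfst φ hφ l
        rw [← hψ] at this
        simpa [T3.dualHom] using this
      · show (ψ (X l)).c1 = (φ (X l)).snd
        rw [← hψ]; simp [T3.dualHom]
      · rfl
    refine ⟨u, fun hu => ha ?_, ?_, fun l₀ => ?_⟩
    · have h1 : φ = (Algebra.ofId k (DualNumber k)).comp (polyOrigin k m) := algHom_ext fun l => by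
        refine TrivSqZeroExt.ext ?_ ?_
        · rw [hfst φ hφ l]; simp [polyOrigin, Algebra.ofId_apply, TrivSqZeroExt.algebraMap_eq_inl]
        · rw [show (φ (X l)).snd = 0 from congrFun hu l]
          simp [polyOrigin, Algebra.ofId_apply, TrivSqZeroExt.algebraMap_eq_inl]
      rw [h1]; simp [Algebra.ofId_apply, TrivSqZeroExt.algebraMap_eq_inl]
    · have h2 := congrArg T3.c2 hψh
      rw [hψX, aeval_T3] at h2
      simpa [partAt_of_isHomogeneous hp] using h2
    · classical
      let w : Fin m → k := Pi.single l₀ 1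
      let χ : MvPolynomial (Fin m) k →ₐ[k] DualNumber k :=
        T3.dualHom.comp (aeval fun l => (⟨0, w l, 0⟩ : T3 k))
      have hχ : (TrivSqZeroExt.fstHom k k k).comp χ = polyOrigin k m := algHom_ext fun l => by
        simp [χ, T3.dualHom, polyOrigin]
      obtain ⟨Φ, ⟨hP1, hP2⟩, hP3⟩ := hall χ hχ (by
        simp [χ, aeval_T3, T3.dualHom, partAt_of_isHomogeneous hp])
      have hΦX : Φ = aeval (fun l => (TrivSqZeroExt.inl (TrivSqZeroExt.inr (u l)) +
          TrivSqZeroExt.inr (TrivSqZeroExt.inl (w l) + TrivSqZeroExt.inr (Φ (X l)).snd.snd) : DualNumber (DualNumber k))) :=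
        algHom_ext fun l => by
          rw [aeval_X]
          refine TrivSqZeroExt.ext (TrivSqZeroExt.ext ?_ ?_) (TrivSqZeroExt.ext ?_ ?_)
          · have := hfst φ hφ l
            rw [← hP1] at this
            simpa [fstProj] using this
          · have : u l = (φ (X l)).snd := rfl
            rw [← hP1] at this
            simpa [fstProj] using this.symm
          · have : (χ (X l)).snd = w l := by simp [χ, T3.dualHom]
            rw [← hP2] at this
            simpa [sndProj] using this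
          · simp
      have h2 := congrArg (fun z : DualNumber (DualNumber k) => z.snd.snd) hP3
      rw [hΦX, aeval_dualDual] at h2
      simpa [partAt_of_isHomogeneous hp, hpolar, w, Pi.single_apply] using h2
  · rintro ⟨u, hu, hq, hd⟩
    let ψ : MvPolynomial (Fin m) k →ₐ[k] T3 k := aeval fun l => (⟨0, u l, 0⟩ : T3 k)
    let φ := T3.dualHom.comp ψ
    have hφ : (TrivSqZeroExt.fstHom k k k).comp φ = polyOrigin k m := algHom_ext fun l => by
      simp [φ, ψ, T3.dualHom, polyOrigin]
    obtain ⟨l, hl⟩ := Function.ne_iff.1 hu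
    refine ⟨φ, hφ, by simp [φ, ψ, aeval_T3, T3.dualHom, partAt_of_isHomogeneous hp],
      ⟨X l, by simpa [φ, ψ, T3.dualHom] using hl⟩, ⟨ψ, rfl, ?_⟩, fun χ hχ hχh => ?_⟩
    · rw [aeval_T3]
      ext <;> simp [partAt_of_isHomogeneous hp, hq]
    · let w : Fin m → k := fun l => (χ (X l)).snd
      refine ⟨aeval fun l => (TrivSqZeroExt.inl (TrivSqZeroExt.inr (u l)) +
          TrivSqZeroExt.inr (TrivSqZeroExt.inl (w l) + TrivSqZeroExt.inr 0) : DualNumber (DualNumber k)),
        ⟨algHom_ext fun l => ?_, algHom_ext fun l => ?_⟩, ?_⟩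
      · refine TrivSqZeroExt.ext ?_ ?_ <;> simp [φ, ψ, T3.dualHom, fstProj]
      · refine TrivSqZeroExt.ext ?_ ?_
        · rw [hfst χ hχ l]; simp [sndProj]
        · simp [sndProj, w]
      · rw [aeval_dualDual]
        ext <;> simp [partAt_of_isHomogeneous hp, hpolar, hd]

theorem psVars_pow_three_kill {R : Type u} [CommRing R] [Algebra k R] {π : R →ₐ[k] k} (hπ : IsTestRing π)
    (χ : MvPowerSeries (Fin m) k →ₐ[k] R) (hχ : π.comp χ = psOrigin k m) {f : MvPowerSeries (Fin m) k}
    (hf : f ∈ PSQuad.vars (Fin m) k ^ 3) : χ f = 0 := by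
  have h : ∀ y ∈ PSQuad.vars (Fin m) k, π (χ y) = 0 := fun y hy => by
    rw [← AlgHom.comp_apply, hχ, psOrigin_apply, ← MvPowerSeries.coeff_zero_eq_constantCoeff_apply]
    exact PSQuad.mem_vars_iff.1 hy
  rw [pow_three, ← mul_assoc] at hf
  refine Submodule.mul_induction_on hf (fun ab hab c hc => ?_) (fun x y hx hy => by rw [map_add, hx, hy, add_zero])
  refine Submodule.mul_induction_on hab (fun a ha b hb => ?_) (fun x y hx hy => by rw [add_mul, map_add, hx, hy, add_zero])
  rw [map_mul, map_mul]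
  exact hπ.cube _ _ _ (h a ha) (h b hb) (h c hc)

theorem isTestEquiv_psCoe :
    IsTestEquiv (coeToMvPowerSeries.algHom (σ := Fin m) (R := k) k) (polyOrigin k m) (psOrigin k m) where
  comp_eq := algHom_ext fun l => by simp [polyOrigin, psOrigin_apply, coeToMvPowerSeries.algHom]
  lift R _ _ π hπ φ hφ := by
    classical
    have hφX : ∀ p : MvPolynomial (Fin m) k, p ∈ idealOfVars (Fin m) k → π (φ p) = 0 := by
      intro p hp
      rw [← AlgHom.comp_apply, hφ]
      refine (Ideal.span_le.2 (Set.range_subset_iff.2 fun l => ?_) : idealOfVars (Fin m) k ≤ RingHom.ker (polyOrigin k m)) hp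
      simp [polyOrigin]
    have hkill : ∀ p ∈ idealOfVars (Fin m) k ^ 3, φ p = 0 := by
      intro p hp
      rw [pow_three, ← mul_assoc] at hp
      refine Submodule.mul_induction_on hp (fun ab hab c hc => ?_) (fun x y hx hy => by rw [map_add, hx, hy, add_zero])
      refine Submodule.mul_induction_on hab (fun a ha b hb => ?_) (fun x y hx hy => by rw [add_mul, map_add, hx, hy, add_zero])
      rw [map_mul, map_mul]
      exact hπ.cube _ _ _ (hφX a ha) (hφX b hb) (hφX c hc)
    let S : Finset (Fin m →₀ ℕ) := (Finset.range 3).biUnion fun n => (Finset.univ : Finset (Fin m)).finsuppAntidiag n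
    have hS : ∀ d : Fin m →₀ ℕ, d ∈ S ↔ d.degree < 3 := fun d => by
      simp [S, Finset.mem_finsuppAntidiag, Finsupp.degree_eq_sum]
    let tr : MvPowerSeries (Fin m) k → MvPolynomial (Fin m) k := fun f => ∑ d ∈ S, monomial d (MvPowerSeries.coeff d f)
    have htr : ∀ f d, d.degree < 3 → (tr f).coeff d = MvPowerSeries.coeff d f := fun f d hd => by
      simp [tr, coeff_sum, coeff_monomial, hS, hd]
    have hsame : ∀ p q : MvPolynomial (Fin m) k, (∀ d, d.degree < 3 → p.coeff d = q.coeff d) → φ p = φ q := by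
      intro p q h
      rw [← sub_eq_zero, ← map_sub]
      exact hkill _ ((mem_pow_idealOfVars_iff' 3 _).2 fun d hd => by rw [coeff_sub, h d hd, sub_self])
    have hmul : ∀ f g : MvPowerSeries (Fin m) k, φ (tr (f * g)) = φ (tr f * tr g) := fun f g => hsame _ _ fun d hd => by
      rw [htr _ _ hd, MvPowerSeries.coeff_mul, coeff_mul]
      refine Finset.sum_congr rfl fun x hx => ?_
      have hx' : x.1 + x.2 = d := Finset.HasAntidiagonal.mem_antidiagonal.1 hx
      have : x.1.degree + x.2.degree = d.degree := by rw [← hx', map_add]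
      rw [htr _ _ (by omega), htr _ _ (by omega)]
    let φ' : MvPowerSeries (Fin m) k →ₐ[k] R :=
      { toFun := fun f => φ (tr f)
        map_one' := by
          rw [← map_one φ]
          exact hsame _ _ fun d hd => by rw [htr _ _ hd, MvPowerSeries.coeff_one, coeff_one]; simp [eq_comm]
        map_mul' := fun f g => by rw [hmul, map_mul]
        map_zero' := by simp [tr]
        map_add' := fun f g => by simp [tr, Finset.sum_add_distrib]
        commutes' := fun c => by
          refine Eq.trans ?_ (φ.commutes c)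
          exact hsame _ _ fun d hd => by
            rw [htr _ _ hd, MvPowerSeries.algebraMap_apply, MvPowerSeries.coeff_C, MvPolynomial.algebraMap_eq, coeff_C]
            simp [eq_comm] }
    refine ⟨φ', AlgHom.ext fun f => ?_, AlgHom.ext fun p => ?_⟩
    · show π (φ (tr f)) = psOrigin k m f
      rw [← AlgHom.comp_apply, hφ, psOrigin_apply, ← MvPowerSeries.coeff_zero_eq_constantCoeff_apply, ← htr f 0 (by simp),
        polyOrigin, MvPolynomial.aeval_zero', Algebra.algebraMap_self_apply, constantCoeff_eq]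
    · exact hsame _ _ fun d hd => by rw [htr _ _ hd]; exact MvPolynomial.coeff_coe p d
  unique R _ _ π hπ φ ψ hφ hψ he := AlgHom.ext fun f => by
    classical
    let S : Finset (Fin m →₀ ℕ) := (Finset.range 3).biUnion fun n => (Finset.univ : Finset (Fin m)).finsuppAntidiag n
    let p : MvPolynomial (Fin m) k := ∑ d ∈ S, monomial d (MvPowerSeries.coeff d f)
    have hd3 : f - (p : MvPowerSeries (Fin m) k) ∈ PSQuad.vars (Fin m) k ^ 3 := PSQuad.mem_pow_iff.2 fun d hd => by
      have hdS : d ∈ S := by simp [S, Finset.mem_finsuppAntidiag, ← Finsupp.degree_eq_sum, hd]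
      rw [map_sub, MvPolynomial.coeff_coe]
      simp [p, coeff_sum, coeff_monomial, hdS]
    have h1 : ∀ χ : MvPowerSeries (Fin m) k →ₐ[k] R, π.comp χ = psOrigin k m → χ f = χ p := fun χ hχ => by
      rw [← sub_eq_zero, ← map_sub]; exact psVars_pow_three_kill hπ χ hχ hd3
    rw [h1 φ hφ, h1 ψ hψ]
    exact DFunLike.congr_fun he p

theorem fst2_eq (Φ : MvPowerSeries (Fin m) k →ₐ[k] DualNumber (DualNumber k))
    {χ : MvPowerSeries (Fin m) k →ₐ[k] DualNumber k} (h : sndProj.comp Φ = χ)
    (hχ : (TrivSqZeroExt.fstHom k k k).comp χ = psOrigin k m) : fst2.comp Φ = psOrigin k m := by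
  rw [← fst_sndProj, h, hχ]

/-- The quadratic cone of a series starting in degree two is that of its quadratic part. -/
theorem degPt_ps_iff {n : ℕ} (Q : MvPowerSeries (Fin (n + 1)) k) (Q₂ : LefPen.Form n k 2)
    (hs : LefPen.StartsInDegTwo k Q) (hq : LefPen.IsQuadPart k Q Q₂) :
    DegPt (psOrigin k (n + 1)) Q ↔
      ∃ u : Fin (n + 1) → k, u ≠ 0 ∧ eval u Q₂.1 = 0 ∧ ∀ l, eval u (pderiv l Q₂.1) = 0 := by
  have hhom : Q₂.1.IsHomogeneous 2 := (mem_homogeneousSubmodule 2 _).1 Q₂.2
  have hd3 : Q - (Q₂.1 : MvPowerSeries (Fin (n + 1)) k) ∈ PSQuad.vars (Fin (n + 1)) k ^ 3 :=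
    PSQuad.mem_pow_iff.2 fun d hd => by
      rw [map_sub, MvPolynomial.coeff_coe]
      by_cases h2 : d.degree = 2
      · rw [hq d h2, sub_self]
      · rw [hs d (by omega), hhom.coeff_eq_zero (by simpa [Finsupp.degree] using h2), sub_self]
  rw [← degPt_poly_iff _ hhom, isTestEquiv_psCoe.degPt]
  have hswap : ∀ {R : Type u} [CommRing R] [Algebra k R] {π : R →ₐ[k] k}, IsTestRing π →
      ∀ χ : MvPowerSeries (Fin (n + 1)) k →ₐ[k] R, π.comp χ = psOrigin k (n + 1) →
        χ Q = χ (Q₂.1 : MvPowerSeries (Fin (n + 1)) k) := fun {R} _ _ {π} hπ χ hχ => by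
    rw [← sub_eq_zero, ← map_sub]; exact psVars_pow_three_kill hπ χ hχ hd3
  show DegPt (psOrigin k (n + 1)) Q ↔ DegPt (psOrigin k (n + 1)) (Q₂.1 : MvPowerSeries (Fin (n + 1)) k)
  have e3 : ∀ (φ : MvPowerSeries (Fin (n + 1)) k →ₐ[k] DualNumber k) (ψ : MvPowerSeries (Fin (n + 1)) k →ₐ[k] T3 k),
      (TrivSqZeroExt.fstHom k k k).comp φ = psOrigin k (n + 1) → T3.dualHom.comp ψ = φ →
      ψ Q = ψ (Q₂.1 : MvPowerSeries (Fin (n + 1)) k) := fun φ ψ hφ h2 =>
    hswap isTestRing_T3 ψ (by rw [← fst_dualHom, AlgHom.comp_assoc, h2, hφ])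
  constructor <;> rintro ⟨φ, hφ, h1, ha, ⟨ψ, h2, h3⟩, hall⟩
  · refine ⟨φ, hφ, by rw [← hswap isTestRing_dualNumber φ hφ, h1], ha, ⟨ψ, h2, by rw [← e3 φ ψ hφ h2, h3]⟩,
      fun χ hχ hχh => ?_⟩
    obtain ⟨Φ, ⟨h4, h5⟩, h6⟩ := hall χ hχ (by rw [hswap isTestRing_dualNumber χ hχ, hχh])
    exact ⟨Φ, ⟨h4, h5⟩, by rw [← hswap (R := DualNumber (DualNumber k)) isTestRing_dualDual Φ (fst2_eq Φ h5 hχ), h6]⟩
  · refine ⟨φ, hφ, by rw [hswap isTestRing_dualNumber φ hφ, h1], ha, ⟨ψ, h2, by rw [e3 φ ψ hφ h2, h3]⟩,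
      fun χ hχ hχh => ?_⟩
    obtain ⟨Φ, ⟨h4, h5⟩, h6⟩ := hall χ hχ (by rw [← hswap isTestRing_dualNumber χ hχ, hχh])
    exact ⟨Φ, ⟨h4, h5⟩, by rw [hswap (R := DualNumber (DualNumber k)) isTestRing_dualDual Φ (fst2_eq Φ h5 hχ), h6]⟩

end

end Groth.Agent.LefPenLib
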