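import Groth.Agent.LefPenLib.Open
import Groth.Agent.LefPenLib.PSPoint
import Groth.Agent.H23.PnChart
import Groth.Agent.CurveFin.RelDim
import Groth.Agent.S10829

/-!
# Smooth projective quadrics
-/

set_option backward.isDefEq.respectTransparency false
set_option backward.isDefEq.respectTransparency.types false
set_option linter.unusedSectionVars false
set_option linter.style.haveILetI false

universe u

open CategoryTheory AlgebraicGeometry

namespace Groth.Agent.LefPenLib

noncomputable section

variable {m : ℕ} {k : Type u} [Field k]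

attribute [local instance] wAlgebra

theorem isIntegral_ps : IsIntegral (CohB1.ProjSpace m k) := H23.PnChart.isIntegral_projSpace m k

theorem smooth_toSpec (n : ℕ) (k : Type u) [Field k] : Smooth (CohB1.ProjSpace.toSpec n k) := by
  refine IsZariskiLocalAtSource.of_iSup_eq_top (fun i => (ZetaLib.chart n k i).opensRange) ?_ fun i => ?_
  · refine top_le_iff.1 fun x _ => ?_
    obtain ⟨i, hi⟩ := TopologicalSpace.Opens.mem_iSup.1
      ((iSup_chart (r := n) (k := k)).ge (trivial : x ∈ (⊤ : (CohB1.ProjSpace n k).Opens)))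
    exact TopologicalSpace.Opens.mem_iSup.2 ⟨i, (ZetaLib.mem_range_chart i x).2 hi⟩
  rw [← Scheme.Hom.isoOpensRange_inv_comp, Category.assoc, ZetaLib.chart_toSpec]
  haveI : Smooth (Spec.map (CommRingCat.ofHom (ZetaLib.base n k i))) := by
    rw [HasRingHomProperty.Spec_iff (P := @Smooth)]
    show (ZetaLib.base n k i).Smooth
    have h : ZetaLib.base n k i = (H23.PnChart.fromChart n k i).comp MvPolynomial.C :=
      RingHom.ext fun c => (MvPolynomial.eval₂Hom_C _ _ c).symm
    rw [h]
    refine RingHom.Smooth.stableUnderComposition _ _ ?_ (RingHom.Smooth.of_bijective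
      ⟨H23.PnChart.fromChart_injective n k i, H23.PnChart.fromChart_surjective n k i⟩)
    exact RingHom.smooth_algebraMap.2
      (⟨inferInstance, inferInstance⟩ : Algebra.Smooth k (MvPolynomial (H23.PnChart.Idx n i) k))
  infer_instance


theorem smoothRelDim_toSpec : SmoothOfRelativeDimension m (CohB1.ProjSpace.toSpec m k) := by
  haveI := isIntegral_ps (m := m) (k := k)
  haveI := smooth_toSpec m k
  exact CurveFin.smoothOfRelativeDimension_of_dim _ (S10829.result k m)

theorem smoothRelDim_id_toSpec :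
    SmoothOfRelativeDimension m (𝟙 (CohB1.ProjSpace m k) ≫ CohB1.ProjSpace.toSpec m k) := by
  rw [Category.id_comp]; exact smoothRelDim_toSpec

theorem transversal_of_comap_id {I J : (CohB1.ProjSpace m k).IdealSheafData} (h : J = I) (n : ℕ) :
    SmoothOfRelativeDimension n (J.subschemeι ≫ 𝟙 _ ≫ CohB1.ProjSpace.toSpec m k) ↔
      SmoothOfRelativeDimension n (I.subschemeι ≫ CohB1.ProjSpace.toSpec m k) := by
  subst h
  rw [Category.id_comp]

theorem secIdeal_id {d : ℕ} (G : LefPen.Form m k d) :
    LefPen.secIdeal (𝟙 (CohB1.ProjSpace m k)) ({G} : Set (LefPen.Form m k d)) = LefPen.hypIdeal G := by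
  rw [LefPen.secIdeal, iSup_singleton, Scheme.IdealSheafData.comap_id]

/-- A point of the standard chart with given coordinates and velocity. -/
theorem exists_hom_chart (j : Fin (m + 1)) {R : Type u} [CommRing R] [Algebra k R] (v : Fin (m + 1) → R)
    (hv : v j = 1) :
    ∃ φ : Γ(CohB1.ProjSpace m k, wOpen (𝟙 (CohB1.ProjSpace m k)) j) →ₐ[k] R,
      ∀ p, φ (pullPoly (𝟙 (CohB1.ProjSpace m k)) j p) = MvPolynomial.aeval v p := by
  let e : MvPolynomial (Fin (m + 1)) k →+* R := (MvPolynomial.aeval v).toRingHom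
  have hu : IsUnit (e (MvPolynomial.X j)) := by
    show IsUnit (MvPolynomial.aeval v (MvPolynomial.X j))
    rw [MvPolynomial.aeval_X, hv]; exact isUnit_one
  let L : Localization (Submonoid.powers (MvPolynomial.X j : MvPolynomial (Fin (m + 1)) k)) →+* R :=
    IsLocalization.Away.lift (MvPolynomial.X j) hu
  let val : HomogeneousLocalization.Away (CohB1.polyGrading m k) (MvPolynomial.X j : MvPolynomial (Fin (m + 1)) k) →+*
      Localization (Submonoid.powers (MvPolynomial.X j : MvPolynomial (Fin (m + 1)) k)) := algebraMap _ _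
  let iso := Proj.basicOpenIsoAway (CohB1.polyGrading m k) (MvPolynomial.X j) (LefPen.X_mem m k j) Nat.one_pos
  let ψ : Γ(CohB1.ProjSpace m k, wOpen (𝟙 (CohB1.ProjSpace m k)) j) →+* R :=
    (L.comp val).comp iso.inv.hom
  have hψ : ∀ p, ψ (pullPoly (𝟙 (CohB1.ProjSpace m k)) j p) = MvPolynomial.aeval v p := by
    have h : ψ.comp (pullPoly (𝟙 (CohB1.ProjSpace m k)) j).toRingHom = e := by
      refine MvPolynomial.ringHom_ext (fun c => ?_) (fun l => ?_)
      all_goals show L (val (iso.inv.hom (iso.hom.hom (ZetaLib.dehom m k j _)))) = _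
      all_goals rw [Iso.hom_inv_id_apply, ZetaLib.dehom]
      · rw [MvPolynomial.eval₂Hom_C]
        show L ((ZetaLib.base m k j c).val) = _
        rw [ZetaLib.val_base, IsLocalization.Away.lift_eq]
      · rw [MvPolynomial.eval₂Hom_X']
        have h := congrArg L (ZetaLib.val_coord m k j l)
        rw [map_mul, IsLocalization.Away.lift_eq, IsLocalization.Away.lift_eq,
          show e (MvPolynomial.X j) = 1 by
            show MvPolynomial.aeval v (MvPolynomial.X j) = 1
            rw [MvPolynomial.aeval_X, hv], _root_.mul_one] at h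
        exact h
    exact fun p => DFunLike.congr_fun h p
  refine ⟨{ ψ with commutes' := fun c => ?_ }, hψ⟩
  show ψ (algebraMap k _ c) = _
  rw [← AlgHom.commutes (pullPoly (𝟙 (CohB1.ProjSpace m k)) j) c, hψ, AlgHom.commutes]

theorem aeval_dual (v u : Fin (m + 1) → k) (p : MvPolynomial (Fin (m + 1)) k) :
    MvPolynomial.aeval (fun l => (TrivSqZeroExt.inl (v l) + TrivSqZeroExt.inr (u l) : DualNumber k)) p =
      TrivSqZeroExt.inl (MvPolynomial.eval v p) +
        TrivSqZeroExt.inr (∑ l, u l * MvPolynomial.eval v (MvPolynomial.pderiv l p)) := by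
  classical
  induction p using MvPolynomial.induction_on with
  | C c => rw [MvPolynomial.aeval_C]; ext <;> simp [TrivSqZeroExt.algebraMap_eq_inl]
  | add p q hp hq => rw [map_add, hp, hq]; ext <;> simp [mul_add, Finset.sum_add_distrib]
  | mul_X p s hp =>
    rw [map_mul, hp, MvPolynomial.aeval_X]
    ext
    · simp
    · simp [MvPolynomial.pderiv_mul, mul_add, Finset.sum_add_distrib, MvPolynomial.pderiv_X, Pi.single_apply,
        apply_ite]
      rw [Finset.sum_mul, add_comm]
      congr 1
      exact Finset.sum_congr rfl fun l _ => by ring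

theorem exists_snd_eq {j : Fin (m + 1)} (ev : Γ(CohB1.ProjSpace m k, wOpen (𝟙 (CohB1.ProjSpace m k)) j) →ₐ[k] k)
    (φ : Γ(CohB1.ProjSpace m k, wOpen (𝟙 (CohB1.ProjSpace m k)) j) →ₐ[k] DualNumber k)
    (hφ : (TrivSqZeroExt.fstHom k k k).comp φ = ev) (p : MvPolynomial (Fin (m + 1)) k) :
    φ (pullPoly _ j p) = TrivSqZeroExt.inl (MvPolynomial.eval (vec _ j ev) p) +
      TrivSqZeroExt.inr (∑ l, (φ (pullPoly _ j (MvPolynomial.X l))).snd *
        MvPolynomial.eval (vec _ j ev) (MvPolynomial.pderiv l p)) := by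
  rw [← aeval_dual]
  refine DFunLike.congr_fun (?_ : φ.comp (pullPoly _ j) = MvPolynomial.aeval _) p
  refine MvPolynomial.algHom_ext fun l => ?_
  rw [MvPolynomial.aeval_X, AlgHom.comp_apply]
  refine TrivSqZeroExt.ext ?_ ?_
  · simp only [TrivSqZeroExt.fst_add, TrivSqZeroExt.fst_inl, TrivSqZeroExt.fst_inr, add_zero]
    exact DFunLike.congr_fun hφ _
  · simp

/-- A projective quadric is smooth iff it has no singular zero. -/
theorem nondegQuad_iff [IsAlgClosed k] (Q : LefPen.Form m k 2) :
    LefPen.NondegQuad k Q ↔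
      ∀ u : Fin (m + 1) → k, u ≠ 0 → MvPolynomial.eval u Q.1 = 0 →
        ∃ l, MvPolynomial.eval u (MvPolynomial.pderiv l Q.1) ≠ 0 := by
  classical
  have hQ : Q.1.IsHomogeneous 2 := (MvPolynomial.mem_homogeneousSubmodule 2 _).1 Q.2
  rcases Nat.eq_zero_or_pos m with rfl | hm
  · have hEq : ∀ u : Fin (0 + 1) → k, MvPolynomial.eval u Q.1 = u 0 ^ 2 * MvPolynomial.eval (fun _ => 1) Q.1 := by
      intro u
      conv_lhs => rw [show u = fun l => u 0 * 1 from funext fun l => by rw [mul_one, Fin.fin_one_eq_zero l]]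
      exact eval_smul_of_isHomogeneous hQ _ _
    refine ⟨fun h u hu h0 => absurd ?_ h.1, fun h => ⟨fun h0 => ?_, Or.inl rfl⟩⟩
    · have hu0 : u 0 ≠ 0 := fun h1 => hu (funext fun l => by rw [Fin.fin_one_eq_zero l]; exact h1)
      rw [hEq] at h0
      have h1 := (mul_eq_zero.1 h0).resolve_left (pow_ne_zero _ hu0)
      exact MvPolynomial.funext fun w => by rw [hEq w, h1, mul_zero, map_zero]
    · obtain ⟨l, hl⟩ := h (fun _ => 1) (fun h1 => one_ne_zero (congrFun h1 0)) (by rw [h0, map_zero])
      exact hl (by rw [h0, map_zero, map_zero])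
  let ι := 𝟙 (CohB1.ProjSpace m k)
  haveI := smoothRelDim_id_toSpec (m := m) (k := k)
  haveI := isIntegral_ps (m := m) (k := k)
  have hbad : ∀ j ev, Bad ι j ev Q ↔ ∀ l, MvPolynomial.eval (vec ι j ev) (MvPolynomial.pderiv l Q.1) = 0 ∧
      MvPolynomial.eval (vec ι j ev) Q.1 = 0 := by
    intro j ev
    refine ⟨fun hb l => ?_, fun h φ hφ => ?_⟩
    · have h0 := hb.eval_eq_zero
      rw [pullForm_eq, eval_pullPoly] at h0
      refine ⟨?_, h0⟩
      have hj : ∀ l', l' ≠ j → MvPolynomial.eval (vec ι j ev) (MvPolynomial.pderiv l' Q.1) = 0 := by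
        intro l' hl'
        obtain ⟨φ, hφ⟩ := exists_hom_chart (k := k) (R := DualNumber k) j (fun a => (TrivSqZeroExt.inl (vec ι j ev a) +
          TrivSqZeroExt.inr (if a = l' then 1 else 0) : DualNumber k)) (by
            rw [if_neg (Ne.symm hl'), vec_self, TrivSqZeroExt.inr_zero, add_zero]; rfl)
        have hφ' : (TrivSqZeroExt.fstHom k k k).comp φ = ev := AlgHom.ext fun a => by
          obtain ⟨p, rfl⟩ := pullPoly_surjective ι j a
          show (φ (pullPoly ι j p)).fst = _
          rw [hφ, aeval_dual, eval_pullPoly]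
          simp
        have h1 := congrArg TrivSqZeroExt.snd (hb φ hφ')
        rw [pullForm_eq, hφ, aeval_dual] at h1
        simpa using h1
      by_cases hl : l = j
      · subst hl
        have h2 := congrArg (MvPolynomial.eval (vec ι l ev)) hQ.sum_X_mul_pderiv
        rw [map_sum, map_nsmul, h0, smul_zero, Finset.sum_eq_single l (fun l' _ hl' => by
          rw [map_mul, hj l' hl', mul_zero]) (fun h => absurd (Finset.mem_univ l) h), map_mul, MvPolynomial.eval_X,
          vec_self, one_mul] at h2
        exact h2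
      · exact hj l hl
    · rw [pullForm_eq, exists_snd_eq ev φ hφ]
      have h0 := (h 0).2
      have h1 := fun l => (h l).1
      simp only [ι] at h0 h1 ⊢
      ext <;> simp [h0, h1]
  constructor
  · rintro ⟨hne, h0 | hsm⟩ u hu hQu
    · omega
    · by_contra! hall
      obtain ⟨j, hj⟩ := Function.ne_iff.1 hu
      change u j ≠ 0 at hj
      let v : Fin (m + 1) → k := fun l => (u j)⁻¹ * u l
      have hvj : v j = 1 := inv_mul_cancel₀ hj
      obtain ⟨ev, hev⟩ := exists_hom_chart (k := k) (R := k) j v hvj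
      have hvec : vec ι j ev = v := funext fun l => by rw [vec, hev, MvPolynomial.aeval_X]
      have hvQ : MvPolynomial.eval v Q.1 = 0 := by rw [eval_smul_of_isHomogeneous hQ, hQu, mul_zero]
      have hb : Bad ι j ev Q := (hbad j ev).2 fun l => by
        rw [hvec]
        refine ⟨?_, hvQ⟩
        rw [eval_smul_of_isHomogeneous (hQ.pderiv (i := l)), hall l, mul_zero]
      -- the chart is smooth, hence has no double zero
      have hnt : Nontrivial Γ(CohB1.ProjSpace m k, wOpen ι j) := ev.toRingHom.domain_nontrivial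
      obtain ⟨hA, hft⟩ := wOpen_smooth (n := m) ι j
      obtain ⟨hdom, hdim, -, hjne⟩ := wOpen_domain (n := m) ι j hnt
      haveI := hft
      haveI := hdom
      have hh0 : pullForm ι j Q ≠ 0 := by
        intro h0
        refine hne ?_
        have hzero : ∀ w : Fin (m + 1) → k, w j = 1 → MvPolynomial.eval w Q.1 = 0 := fun w hw => by
          obtain ⟨ev', hev'⟩ := exists_hom_chart (k := k) (R := k) j w hw
          have := congrArg ev' h0
          rwa [map_zero, pullForm_eq, hev', MvPolynomial.aeval_eq_eval] at this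
        refine (mul_eq_zero.1 (MvPolynomial.funext fun w => ?_ : MvPolynomial.X j * Q.1 = 0)).resolve_left
          (MvPolynomial.X_ne_zero j)
        rw [map_mul, map_zero, MvPolynomial.eval_X]
        rcases eq_or_ne (w j) 0 with hw | hw
        · rw [hw, zero_mul]
        · rw [show w = fun l => w j * ((w j)⁻¹ * w l) from funext fun l => by rw [← mul_assoc, mul_inv_cancel₀ hw, one_mul],
            eval_smul_of_isHomogeneous hQ, hzero _ (inv_mul_cancel₀ hw), mul_zero, mul_zero]
      obtain ⟨evC, hevC⟩ := exists_quotientLift (pullForm ι j Q) ev hb.eval_eq_zero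
      let I := LefPen.secIdeal ι ({Q} : Set (LefPen.Form m k 2))
      have hI : I = LefPen.hypIdeal Q := secIdeal_id Q
      have hsm' : Smooth (I.subschemeι ≫ ι ≫ CohB1.ProjSpace.toSpec m k) := by
        rw [hI, Category.id_comp]; exact hsm
      let U : (CohB1.ProjSpace m k).affineOpens := ⟨wOpen ι j, isAffine_wOpen ι j⟩
      have h1 : Smooth (I.subschemeCover.f U ≫ I.subschemeι ≫ ι ≫ CohB1.ProjSpace.toSpec m k) := inferInstance
      rw [← Category.assoc, Scheme.IdealSheafData.subschemeCover_map_subschemeι] at h1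
      unfold Scheme.IdealSheafData.glueDataObjι at h1
      rw [Category.assoc, Category.assoc, IsAffineOpen.isoSpec_inv_ι_assoc, fromSpec_comp, ← Spec.map_comp] at h1
      have key : ∀ J : Ideal Γ(CohB1.ProjSpace m k, wOpen ι j), J = Ideal.span {pullForm ι j Q} →
          Smooth (Spec.map (CommRingCat.ofHom
            (SmoothReg.affMap (ι ≫ CohB1.ProjSpace.toSpec m k) (wOpen ι j)) ≫ CommRingCat.ofHom (Ideal.Quotient.mk J))) →
          Smooth (Spec.map (CommRingCat.ofHom
            (algebraMap k (Γ(CohB1.ProjSpace m k, wOpen ι j) ⧸ Ideal.span {pullForm ι j Q})))) := by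
        rintro _ rfl hJ
        exact hJ
      have h2 := key (I.ideal U) (secIdeal_singleton ι Q j) h1
      rw [HasRingHomProperty.Spec_iff (P := @Smooth), CommRingCat.hom_ofHom, RingHom.smooth_algebraMap] at h2
      haveI := h2
      haveI : Algebra.Smooth (Γ(CohB1.ProjSpace m k, wOpen ι j) ⧸ Ideal.span {pullForm ι j Q})
          (Localization.Away (1 : Γ(CohB1.ProjSpace m k, wOpen ι j) ⧸ Ideal.span {pullForm ι j Q})) :=
        Algebra.Smooth.of_isLocalization_Away 1
      refine not_smooth_of_dblZero m ?_ hA _ hh0 ev hb evC hevC 1 (by rw [map_one]; exact one_ne_zero)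
        (Algebra.Smooth.comp k (Γ(CohB1.ProjSpace m k, wOpen ι j) ⧸ Ideal.span {pullForm ι j Q}) _)
      have hd := hdim ⊥ (by rw [IsDomain.minimalPrimes_eq_singleton_bot]; rfl)
      rwa [ringKrullDim_eq_of_ringEquiv (RingEquiv.quotientBot _)] at hd
  · intro h
    have hne : Q.1 ≠ 0 := by
      intro h0
      obtain ⟨l, hl⟩ := h (fun _ => 1) (fun h1 => one_ne_zero (congrFun h1 0)) (by rw [h0, map_zero])
      exact hl (by rw [h0, map_zero, map_zero])
    refine ⟨hne, Or.inr ?_⟩
    have htr := (transversal_iff (n := m) ι hm Q).2 fun j ev hb => by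
      have hv : vec ι j ev ≠ 0 := fun h0 => one_ne_zero ((vec_self ι j ev).symm.trans (congrFun h0 j))
      have hb' := (hbad j ev).1 hb
      obtain ⟨l, hl⟩ := h _ hv (hb' 0).2
      exact hl (hb' l).1
    rcases htr with ⟨-, hs⟩ | ⟨h1, -⟩
    · haveI := (transversal_of_comap_id (secIdeal_id Q) (m - 1)).1 hs
      exact SmoothOfRelativeDimension.smooth (m - 1) _
    · omega

end

end Groth.Agent.LefPenLib
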