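import Groth.Agent.LefPenLib.Coeff
import Mathlib.RingTheory.Nullstellensatz
import Mathlib.LinearAlgebra.Matrix.NonsingularInverse

/-!
# Elimination theory in projective space
-/

set_option linter.unusedSectionVars false

universe u

open MvPolynomial

namespace Groth.Agent.LefPenLib

noncomputable section

variable {r : ℕ} {k : Type u} [Field k] {E : Type}

/-- Evaluation of a polynomial with parameters. -/
def evalAt (a : E → k) (v : Fin (r + 1) → k) (P : MvPolynomial (Fin (r + 1)) (MvPolynomial E k)) : k :=
  eval v (map (eval a) P)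

theorem eval_smul_of_isHomogeneous {R : Type u} [CommRing R] {m : ℕ} {P : MvPolynomial (Fin (r + 1)) R}
    (hP : P.IsHomogeneous m) (c : R) (w : Fin (r + 1) → R) : eval (fun l => c * w l) P = c ^ m * eval w P := by
  rw [eval_eq', eval_eq', Finset.mul_sum]
  refine Finset.sum_congr rfl fun d hd => ?_
  have hdeg : ∑ i, d i = m := by
    have h := hP (mem_support_iff.1 hd)
    rw [show Finsupp.weight (1 : Fin (r + 1) → ℕ) d = d.degree from (DFunLike.congr_fun Finsupp.degree_eq_weight_one d).symm, Finsupp.degree_apply] at h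
    rw [← h]
    exact (Finset.sum_subset (Finset.subset_univ _) fun i _ hi => Finsupp.notMem_support_iff.1 hi).symm
  simp only [mul_pow, Finset.prod_mul_distrib, Finset.prod_pow_eq_pow_sum, hdeg]
  ring

theorem coeffL_mk {d : ℕ} (p : MvPolynomial (Fin (r + 1)) k) (hp : p ∈ CohB1.polyGrading r k d) (e : Expo r d) :
    coeffL e (⟨p, hp⟩ : LefPen.Form r k d) = p.coeff e.1 := rfl

/-- A homogeneous component of a multiple of a homogeneous polynomial. -/
theorem homogeneousComponent_mul {m M : ℕ} {P : MvPolynomial (Fin (r + 1)) k} (hP : P.IsHomogeneous m)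
    (q : MvPolynomial (Fin (r + 1)) k) :
    homogeneousComponent M (q * P) = (if m ≤ M then homogeneousComponent (M - m) q else 0) * P := by
  classical
  conv_lhs => rw [← sum_homogeneousComponent (φ := q)]
  rw [Finset.sum_mul, map_sum]
  have h1 : ∀ i, homogeneousComponent M (homogeneousComponent i q * P) =
      if M = i + m then homogeneousComponent i q * P else 0 := fun i =>
    homogeneousComponent_of_mem ((homogeneousComponent_isHomogeneous i q).mul hP)
  simp only [h1]
  split_ifs with hm
  · by_cases hmem : M - m ∈ Finset.range (q.totalDegree + 1)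
    · rw [Finset.sum_eq_single (M - m) (fun i _ hi => if_neg (by omega)) (fun h => absurd hmem h), if_pos (by omega)]
    · rw [Finset.sum_eq_zero fun i hi => if_neg (fun (h : M = i + m) => hmem (by rwa [show M - m = i by omega]))]
      rw [homogeneousComponent_eq_zero _ _ (by rw [Finset.mem_range] at hmem; omega), zero_mul]
  · rw [zero_mul]
    exact Finset.sum_eq_zero fun i _ => if_neg (by omega)

/-- The main theorem of elimination theory: absence of projective zeros is an open condition. -/
theorem exists_elim [IsAlgClosed k] (S : Set (MvPolynomial (Fin (r + 1)) (MvPolynomial E k)))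
    (hS : ∀ P ∈ S, ∃ m : ℕ, P.IsHomogeneous m) (a0 : E → k)
    (h0 : ∀ v : Fin (r + 1) → k, v ≠ 0 → ∃ P ∈ S, evalAt a0 v P ≠ 0) :
    ∃ D : MvPolynomial E k, eval a0 D ≠ 0 ∧
      ∀ a v, eval a D ≠ 0 → (∀ P ∈ S, evalAt a v P = 0) → v = 0 := by
  classical
  let I : Ideal (MvPolynomial (Fin (r + 1)) k) := Ideal.span (map (eval a0) '' S)
  have hrad : ∀ l, (X l : MvPolynomial (Fin (r + 1)) k) ∈ I.radical := fun l => by
    rw [← vanishingIdeal_zeroLocus_eq_radical (K := k) I, mem_vanishingIdeal_iff]
    intro v hv
    have hv0 : v = 0 := by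
      by_contra hne
      obtain ⟨P, hP, hne'⟩ := h0 v hne
      exact hne' (by simpa [evalAt, aeval_eq_eval] using (mem_zeroLocus_iff.1 hv) _ (Ideal.subset_span ⟨P, hP, rfl⟩))
    simp [hv0]
  choose Ml hMl using hrad
  let M0 := Finset.univ.sup Ml
  let M := (r + 1) * M0 + 1
  have hmon : ∀ e : Expo r M, monomial e.1 (1 : k) ∈ I := by
    intro e
    obtain ⟨l, hl⟩ : ∃ l, M0 ≤ e.1 l := by
      by_contra! hc
      have h1 : e.1.degree ≤ ∑ _l : Fin (r + 1), M0 := by
        rw [Finsupp.degree_apply]
        exact (Finset.sum_le_sum_of_subset (Finset.subset_univ _)).trans (Finset.sum_le_sum fun l _ => (hc l).le)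
      rw [e.2, Finset.sum_const, Finset.card_univ, Fintype.card_fin, smul_eq_mul] at h1
      omega
    have hle : Finsupp.single l (Ml l) ≤ e.1 :=
      Finsupp.single_le_iff.2 ((Finset.le_sup (f := Ml) (Finset.mem_univ l)).trans hl)
    rw [← tsub_add_cancel_of_le hle, show (1 : k) = 1 * 1 from (one_mul 1).symm, ← monomial_mul,
      ← X_pow_eq_monomial]
    exact I.mul_mem_left _ (hMl l)
  have hmon' : ∀ e : Expo r M, ∃ Q : MvPolynomial (Fin (r + 1)) (MvPolynomial E k),
      map (eval a0) Q = monomial e.1 1 ∧
      ∀ a, (map (eval a) Q).IsHomogeneous M ∧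
        ∀ v, (∀ P ∈ S, evalAt a v P = 0) → eval v (map (eval a) Q) = 0 := by
    intro e
    obtain ⟨l, hl1, hl2⟩ := (Finsupp.mem_span_image_iff_linearCombination _).1 (hmon e)
    choose m hm using hS
    have hq : ∀ P ∈ l.support, ∃ q', homogeneousComponent M (l P * map (eval a0) P) = q' * map (eval a0) P ∧
        ∀ a, (q' * map (eval a) P).IsHomogeneous M := fun P hP => by
      have hPS : P ∈ S := hl1 hP
      refine ⟨if m P hPS ≤ M then homogeneousComponent (M - m P hPS) (l P) else 0, ?_, fun a => ?_⟩
      · exact homogeneousComponent_mul ((hm P hPS).map (eval a0)) (l P)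
      · split_ifs with hm'
        · have h2 := (homogeneousComponent_isHomogeneous (M - m P hPS) (l P)).mul ((hm P hPS).map (eval a))
          rwa [Nat.sub_add_cancel hm'] at h2
        · rw [zero_mul]; exact isHomogeneous_zero _ _ _
    choose q' hq'1 hq'2 using hq
    refine ⟨∑ P ∈ l.support.attach, map C (q' P.1 P.2) * P.1, ?_, fun a => ?_⟩
    · have hC : ∀ q : MvPolynomial (Fin (r + 1)) k, map (eval a0) (map (C : k →+* MvPolynomial E k) q) = q := fun q => by
        rw [map_map]
        exact (congrArg (fun f => map f q) (RingHom.ext fun c => by simp)).trans (map_id q)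
      rw [map_sum]
      simp only [map_mul, hC]
      simp only [← hq'1]
      rw [← map_sum, Finset.sum_attach l.support (fun P => l P * map (eval a0) P),
        show ∑ P ∈ l.support, l P * map (eval a0) P = monomial e.1 1 from hl2,
        homogeneousComponent_of_mem (isHomogeneous_monomial 1 e.2), if_pos rfl]
    · have hC : ∀ q : MvPolynomial (Fin (r + 1)) k, map (eval a) (map (C : k →+* MvPolynomial E k) q) = q := fun q => by
        rw [map_map]
        exact (congrArg (fun f => map f q) (RingHom.ext fun c => by simp)).trans (map_id q)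
      rw [map_sum]
      simp only [map_mul, hC]
      refine ⟨IsHomogeneous.sum _ _ _ fun P _ => hq'2 P.1 P.2 a, fun v hv => ?_⟩
      rw [map_sum]
      refine Finset.sum_eq_zero fun P _ => ?_
      rw [map_mul, show eval v (map (eval a) P.1) = 0 from hv _ (hl1 P.2), mul_zero]
  choose Q hQ0 hQh using hmon'
  let N : Matrix (Expo r M) (Expo r M) (MvPolynomial E k) := fun e e' => coeff e'.1 (Q e)
  refine ⟨N.det, ?_, fun a v hD hv => ?_⟩
  · rw [RingHom.map_det, show (eval a0).mapMatrix N = 1 from Matrix.ext fun e e' => by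
      rw [RingHom.mapMatrix_apply, Matrix.map_apply]
      show eval a0 (coeff e'.1 (Q e)) = _
      rw [← coeff_map, hQ0, coeff_monomial, Matrix.one_apply]
      simp only [← Subtype.ext_iff], Matrix.det_one]
    exact one_ne_zero
  · let T : Matrix (Expo r M) (Expo r M) k := (eval a).mapMatrix N
    have hker : T.mulVec (fun e' => eval v (monomial e'.1 (1 : k))) = 0 := by
      funext e
      refine Eq.trans ?_ ((hQh e a).2 v hv)
      let H : LefPen.Form r k M := ⟨map (eval a) (Q e), (mem_homogeneousSubmodule M _).2 (hQh e a).1⟩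
      show ∑ e', T e e' * eval v (monomial e'.1 1) = eval v H.1
      rw [eq_sum_coeff H, map_sum]
      refine Finset.sum_congr rfl fun e' _ => ?_
      rw [show T e e' = coeffL e' H from (coeff_map (eval a) (Q e) e'.1).symm, eval_monomial, eval_monomial]
      ring
    have hdet : IsUnit T.det := isUnit_iff_ne_zero.2 (by rw [← RingHom.map_det]; exact hD)
    have h1 : (fun e' : Expo r M => eval v (monomial e'.1 (1 : k))) = 0 :=
      (Matrix.mulVec_injective_iff_isUnit.2 ((Matrix.isUnit_iff_isUnit_det T).2 hdet))
        (hker.trans (Matrix.mulVec_zero T).symm)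
    funext l
    have h2 := congrFun h1 ⟨Finsupp.single l M, Finsupp.degree_single l M⟩
    simp only [Pi.zero_apply] at h2 ⊢
    rw [← X_pow_eq_monomial, map_pow, eval_X] at h2
    exact eq_zero_of_pow_eq_zero h2

end

end Groth.Agent.LefPenLib
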