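import Groth.Prelude.Def_LefPen
import Groth.Agent.ZetaLib.ProjPoints
import Groth.Agent.ModPairLib.Basic

/-!
# Hypersurface ideals and sections on the standard charts
-/

set_option backward.isDefEq.respectTransparency false
set_option backward.isDefEq.respectTransparency.types false
set_option linter.unusedSectionVars false
set_option linter.style.haveILetI false

universe u

open CategoryTheory CategoryTheory.Limits AlgebraicGeometry TopologicalSpace Opposite

namespace Groth.Agent.LefPenLib

variable {r : ℕ} {k : Type u} [Field k]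

noncomputable section

/-- The standard chart as an affine open. -/
def chartAff (i : Fin (r + 1)) : (CohB1.ProjSpace r k).affineOpens :=
  ⟨LefPen.chart r k i, by
    have h : Proj.basicOpen (CohB1.polyGrading r k) (MvPolynomial.X i) =
        (Proj.awayι (CohB1.polyGrading r k) (MvPolynomial.X i) (LefPen.X_mem r k i) Nat.one_pos).opensRange :=
      (Proj.opensRange_awayι _ _ _ _).symm
    rw [LefPen.chart, h]
    exact isAffineOpen_opensRange _⟩

theorem iSup_chart : ⨆ i : Fin (r + 1), LefPen.chart r k i = ⊤ := by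
  refine top_le_iff.1 fun x _ => ?_
  obtain ⟨i, hi⟩ := ZetaLib.exists_mem_chart (n := r) (k := k) x
  exact Opens.mem_iSup.2 ⟨i, (ZetaLib.mem_range_chart i x).1 hi⟩

instance isSeparated_projSpace : (CohB1.ProjSpace r k).IsSeparated :=
  inferInstanceAs (Proj (CohB1.polyGrading r k)).IsSeparated

/-- The dehomogenisation of a form is the image of the dehomogenised polynomial. -/
theorem dehom_eq {d : ℕ} (G : LefPen.Form r k d) (i : Fin (r + 1)) :
    LefPen.dehom G i = (Proj.awayToSection (CohB1.polyGrading r k) (MvPolynomial.X i)).hom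
      (ZetaLib.dehom r k i G.1) := by
  refine congrArg _ (HomogeneousLocalization.val_injective _ ?_)
  have h := ZetaLib.val_dehom_mul r k i ((MvPolynomial.mem_homogeneousSubmodule d _).1 G.2)
  have hu : IsUnit (algebraMap (MvPolynomial (Fin (r + 1)) k)
      (Localization (Submonoid.powers (MvPolynomial.X i : MvPolynomial (Fin (r + 1)) k))) (MvPolynomial.X i) ^ d) :=
    (IsLocalization.map_units _ (⟨MvPolynomial.X i, 1, pow_one _⟩ :
      Submonoid.powers (MvPolynomial.X i : MvPolynomial (Fin (r + 1)) k))).pow d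
  refine hu.mul_left_injective (Eq.trans ?_ h.symm)
  dsimp only
  rw [HomogeneousLocalization.Away.val_mk, ← map_pow, ← Localization.mk_one_eq_algebraMap,
    ← Localization.mk_one_eq_algebraMap, Localization.mk_mul, Localization.mk_eq_mk_iff, Localization.r_iff_exists]
  exact ⟨1, by simp [mul_comm]⟩

theorem res_res {P : Scheme.{u}} {A B C : P.Opens} (h : A ≤ B) (h' : B ≤ C) (x : Γ(P, C)) :
    P.presheaf.map (homOfLE h).op (P.presheaf.map (homOfLE h').op x) =
      P.presheaf.map (homOfLE (h.trans h')).op x := by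
  rw [← CommRingCat.comp_apply, ← P.presheaf.map_comp]; rfl

theorem res_self {P : Scheme.{u}} {A : P.Opens} (h : A ≤ A) (x : Γ(P, A)) :
    P.presheaf.map (homOfLE h).op x = x := ConcreteCategory.congr_hom (P.presheaf.map_id (op A)) x

theorem comap_span_self {P : Scheme.{u}} (V : P.Opens) (e : Γ(P, V)) :
    Ideal.comap (P.presheaf.map (homOfLE (inf_le_left : V ⊓ V ≤ V)).op).hom
      (Ideal.span {P.presheaf.map (homOfLE (inf_le_right : V ⊓ V ≤ V)).op e}) ≤ Ideal.span {e} := by
  intro x hx
  obtain ⟨c, hc⟩ := Ideal.mem_span_singleton'.1 (Ideal.mem_comap.1 hx)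
  refine Ideal.mem_span_singleton'.2 ⟨P.presheaf.map (homOfLE (le_inf le_rfl le_rfl : V ≤ V ⊓ V)).op c, ?_⟩
  have h2 := congrArg (P.presheaf.map (homOfLE (le_inf le_rfl le_rfl : V ≤ V ⊓ V)).op) hc
  rw [map_mul, res_res, res_self] at h2
  exact h2.trans ((res_res _ _ x).trans (res_self _ x))

/-- The sections which are locally multiples of given functions form a quasi-coherent ideal. -/
theorem map_family {P : Scheme.{u}} [P.IsSeparated] {N : Type} [Fintype N] (C : N → P.Opens)
    (hC : ∀ i, IsAffineOpen (C i)) (e : ∀ i, Γ(P, C i))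
    (F : ∀ U : P.affineOpens, Ideal Γ(P, U))
    (hF : ∀ (U : P.affineOpens) (x : Γ(P, U)), x ∈ F U ↔ ∀ i,
      P.presheaf.map (homOfLE (inf_le_left : U.1 ⊓ C i ≤ U.1)).op x ∈
        Ideal.span {P.presheaf.map (homOfLE (inf_le_right : U.1 ⊓ C i ≤ C i)).op (e i)})
    (U : P.affineOpens) (f : Γ(P, U)) :
    (F U).map (P.presheaf.map (homOfLE (P.basicOpen_le f)).op).hom = F (P.affineBasicOpen f) := by
  classical
  have hle : (P.basicOpen f : P.Opens) ≤ U.1 := P.basicOpen_le f
  apply le_antisymm
  · rw [Ideal.map_le_iff_le_comap]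
    intro x hx
    rw [Ideal.mem_comap, hF]
    intro i
    obtain ⟨c, hc⟩ := Ideal.mem_span_singleton'.1 ((hF U x).1 hx i)
    refine Ideal.mem_span_singleton'.2 ⟨P.presheaf.map (homOfLE (inf_le_inf_right _ hle)).op c, ?_⟩
    have h2 := congrArg (P.presheaf.map (homOfLE (inf_le_inf_right (C i) hle)).op) hc
    rw [map_mul, res_res, res_res] at h2
    refine h2.trans ?_
    exact (res_res (inf_le_left) hle x).symm
  · intro x hx
    letI : Algebra Γ(P, U.1) Γ(P, (P.affineBasicOpen f).1) := (P.presheaf.map (homOfLE hle).op).hom.toAlgebra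
    haveI : IsLocalization (Submonoid.powers f) Γ(P, (P.affineBasicOpen f).1) := U.2.isLocalization_basicOpen f
    obtain ⟨a, ⟨_, m, rfl⟩, hax⟩ := IsLocalization.exists_mk'_eq (S := Γ(P, (P.affineBasicOpen f).1)) (Submonoid.powers f) x
    have hx' : ∀ i : N, ∃ M : ℕ,
        P.presheaf.map (homOfLE (inf_le_left : U.1 ⊓ C i ≤ U.1)).op (f ^ M * a) ∈
          Ideal.span {P.presheaf.map (homOfLE (inf_le_right : U.1 ⊓ C i ≤ C i)).op (e i)} := by
      intro i
      have hV : IsAffineOpen (U.1 ⊓ C i) := U.2.inf (hC i)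
      have hD : P.basicOpen (P.presheaf.map (homOfLE (inf_le_left : U.1 ⊓ C i ≤ U.1)).op f) =
          P.basicOpen f ⊓ C i := by
        rw [Scheme.basicOpen_res]
        ext y
        exact ⟨fun h => ⟨h.2, h.1.2⟩, fun h => ⟨⟨hle h.1, h.2⟩, h.1⟩⟩
      have hDV : P.basicOpen f ⊓ C i ≤ U.1 ⊓ C i := inf_le_inf_right _ hle
      letI : Algebra Γ(P, U.1 ⊓ C i) Γ(P, P.basicOpen f ⊓ C i) :=
        (P.presheaf.map (homOfLE hDV).op).hom.toAlgebra
      haveI : IsLocalization.Away (P.presheaf.map (homOfLE (inf_le_left : U.1 ⊓ C i ≤ U.1)).op f)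
          Γ(P, P.basicOpen f ⊓ C i) :=
        hV.isLocalization_of_eq_basicOpen _ (homOfLE hDV) hD.symm
      have h1 := (hF (P.affineBasicOpen f) x).1 hx i
      have h3 : P.presheaf.map (homOfLE hle).op a = x * P.presheaf.map (homOfLE hle).op (f ^ m) := by
        rw [← hax]
        exact (IsLocalization.mk'_spec (M := Submonoid.powers f) (Γ(P, (P.affineBasicOpen f).1)) a _).symm
      have h4 := Ideal.mul_mem_right
        (P.presheaf.map (homOfLE (inf_le_left : P.basicOpen f ⊓ C i ≤ P.basicOpen f)).op
          (P.presheaf.map (homOfLE hle).op (f ^ m))) _ h1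
      erw [← map_mul, ← h3, res_res] at h4
      have h2 : algebraMap Γ(P, U.1 ⊓ C i) Γ(P, P.basicOpen f ⊓ C i)
          (P.presheaf.map (homOfLE (inf_le_left : U.1 ⊓ C i ≤ U.1)).op a) ∈
          (Ideal.span {P.presheaf.map (homOfLE (inf_le_right : U.1 ⊓ C i ≤ C i)).op (e i)}).map
            (algebraMap Γ(P, U.1 ⊓ C i) Γ(P, P.basicOpen f ⊓ C i)) := by
        rw [Ideal.map_span, Set.image_singleton]
        show P.presheaf.map (homOfLE hDV).op _ ∈ Ideal.span {P.presheaf.map (homOfLE hDV).op _}
        rw [res_res, res_res]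
        exact h4
      obtain ⟨_, ⟨M, rfl⟩, hM⟩ := (IsLocalization.algebraMap_mem_map_algebraMap_iff
        (Submonoid.powers (P.presheaf.map (homOfLE (inf_le_left : U.1 ⊓ C i ≤ U.1)).op f))
        Γ(P, P.basicOpen f ⊓ C i) _ _).1 h2
      refine ⟨M, ?_⟩
      rw [map_mul, map_pow]
      exact hM
    choose M hM using hx'
    have hmem : f ^ Finset.univ.sup M * a ∈ F U := by
      rw [hF]
      intro i
      rw [← Nat.sub_add_cancel (Finset.le_sup (f := M) (Finset.mem_univ i)), pow_add, mul_assoc, map_mul]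
      exact Ideal.mul_mem_left _ _ (hM i)
    rw [← hax]
    show IsLocalization.mk' _ a _ ∈ (F U).map (algebraMap Γ(P, U.1) Γ(P, (P.affineBasicOpen f).1))
    rw [IsLocalization.mk'_mem_map_algebraMap_iff]
    exact ⟨f ^ Finset.univ.sup M, ⟨_, rfl⟩, hmem⟩

/-- The family defining a hypersurface is a quasi-coherent ideal. -/
theorem map_hypFamily {d : ℕ} (G : LefPen.Form r k d) (U : (CohB1.ProjSpace r k).affineOpens)
    (f : Γ(CohB1.ProjSpace r k, U)) :
    (LefPen.hypFamily G U).map ((CohB1.ProjSpace r k).presheaf.map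
        (homOfLE ((CohB1.ProjSpace r k).basicOpen_le f)).op).hom =
      LefPen.hypFamily G ((CohB1.ProjSpace r k).affineBasicOpen f) :=
  map_family (LefPen.chart r k) (fun i => (chartAff i).2) (LefPen.dehom G) (LefPen.hypFamily G)
    (fun V x => Submodule.mem_iInf _) U f

/-- The hypersurface ideal on any affine open is the defining family. -/
theorem hypIdeal_ideal {d : ℕ} (G : LefPen.Form r k d) :
    (LefPen.hypIdeal G).ideal = LefPen.hypFamily G :=
  congrArg (Scheme.IdealSheafData.ideal)
    (Scheme.IdealSheafData.ofIdeals_ideal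
      { ideal := LefPen.hypFamily G, map_ideal_basicOpen := map_hypFamily G })

theorem awayToSection_res (i j l : Fin (r + 1))
    (h : LefPen.chart r k i ⊓ LefPen.chart r k j ≤ LefPen.chart r k l)
    (g : MvPolynomial (Fin (r + 1)) k) (hg : g ∈ CohB1.polyGrading r k 1)
    (hx : (MvPolynomial.X i * MvPolynomial.X j : MvPolynomial (Fin (r + 1)) k) = MvPolynomial.X l * g)
    (h' : LefPen.chart r k i ⊓ LefPen.chart r k j ≤
      Proj.basicOpen (CohB1.polyGrading r k) (MvPolynomial.X i * MvPolynomial.X j))
    (z : HomogeneousLocalization.Away (CohB1.polyGrading r k) (MvPolynomial.X l : MvPolynomial (Fin (r + 1)) k)) :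
    (CohB1.ProjSpace r k).presheaf.map (homOfLE h).op
        ((Proj.awayToSection (CohB1.polyGrading r k) (MvPolynomial.X l)).hom z) =
      (CohB1.ProjSpace r k).presheaf.map (homOfLE h').op
        ((Proj.awayToSection (CohB1.polyGrading r k) (MvPolynomial.X i * MvPolynomial.X j)).hom
          (HomogeneousLocalization.awayMap (CohB1.polyGrading r k) hg hx z)) := by
  have h1 := ConcreteCategory.congr_hom (Proj.awayMap_awayToSection (CohB1.polyGrading r k)
    (f := MvPolynomial.X l) hg hx) z
  rw [CommRingCat.comp_apply, CommRingCat.comp_apply] at h1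
  refine Eq.trans ?_ (congrArg ((CohB1.ProjSpace r k).presheaf.map (homOfLE h').op) h1).symm
  exact (res_res h' _ _).symm

/-- The identity `G / T_i^d = (T_j / T_i)^d * (G / T_j^d)` in the localisation at `T_i T_j`. -/
theorem away_change {d : ℕ} (G : LefPen.Form r k d) (i j : Fin (r + 1)) :
    HomogeneousLocalization.awayMap (CohB1.polyGrading r k) (LefPen.X_mem r k j) rfl
        (HomogeneousLocalization.Away.mk (CohB1.polyGrading r k) (LefPen.X_mem r k i) d G.1
          (by rw [smul_eq_mul, mul_one]; exact G.2)) =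
      HomogeneousLocalization.awayMap (CohB1.polyGrading r k) (LefPen.X_mem r k j) rfl
          (ZetaLib.coord r k i j) ^ d *
        HomogeneousLocalization.awayMap (CohB1.polyGrading r k) (LefPen.X_mem r k i) (mul_comm _ _)
          (HomogeneousLocalization.Away.mk (CohB1.polyGrading r k) (LefPen.X_mem r k j) d G.1
            (by rw [smul_eq_mul, mul_one]; exact G.2)) := by
  refine HomogeneousLocalization.val_injective _ ?_
  rw [HomogeneousLocalization.val_mul, HomogeneousLocalization.val_pow,
    ZetaLib.coord, HomogeneousLocalization.awayMap_mk, HomogeneousLocalization.awayMap_mk,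
    HomogeneousLocalization.awayMap_mk, HomogeneousLocalization.Away.val_mk,
    HomogeneousLocalization.Away.val_mk, HomogeneousLocalization.Away.val_mk, Localization.mk_pow,
    Localization.mk_mul, Localization.mk_eq_mk_iff, Localization.r_iff_exists]
  refine ⟨1, ?_⟩
  simp only [Submonoid.coe_one, _root_.one_mul, Submonoid.coe_mul, SubmonoidClass.coe_pow]
  ring

/-- Dehomogenisations with respect to two coordinates differ by a power of a coordinate. -/
theorem dehom_change {d : ℕ} (G : LefPen.Form r k d) (i j : Fin (r + 1)) :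
    ∃ t : Γ(CohB1.ProjSpace r k, LefPen.chart r k i ⊓ LefPen.chart r k j),
      (CohB1.ProjSpace r k).presheaf.map
          (homOfLE (inf_le_left : LefPen.chart r k i ⊓ LefPen.chart r k j ≤ _)).op (LefPen.dehom G i) =
        t * (CohB1.ProjSpace r k).presheaf.map
          (homOfLE (inf_le_right : LefPen.chart r k i ⊓ LefPen.chart r k j ≤ _)).op (LefPen.dehom G j) := by
  have h' : LefPen.chart r k i ⊓ LefPen.chart r k j ≤
      Proj.basicOpen (CohB1.polyGrading r k) (MvPolynomial.X i * MvPolynomial.X j) :=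
    (Proj.basicOpen_mul _ _ _).ge
  have e1 := awayToSection_res i j i inf_le_left _ (LefPen.X_mem r k j) rfl h'
    (HomogeneousLocalization.Away.mk (CohB1.polyGrading r k) (LefPen.X_mem r k i) d G.1
      (by rw [smul_eq_mul, mul_one]; exact G.2))
  have e2 := awayToSection_res i j j inf_le_right _ (LefPen.X_mem r k i) (mul_comm _ _) h'
    (HomogeneousLocalization.Away.mk (CohB1.polyGrading r k) (LefPen.X_mem r k j) d G.1
      (by rw [smul_eq_mul, mul_one]; exact G.2))
  have e3 := congrArg (fun z => (CohB1.ProjSpace r k).presheaf.map (homOfLE h').op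
    ((Proj.awayToSection (CohB1.polyGrading r k) (MvPolynomial.X i * MvPolynomial.X j)).hom z)) (away_change G i j)
  simp only [map_mul] at e3
  exact ⟨_, e1.trans (e3.trans (congrArg (_ * ·) e2.symm))⟩

/-- On a standard chart the hypersurface is cut out by the dehomogenised form. -/
theorem hypIdeal_chart {d : ℕ} (G : LefPen.Form r k d) (i : Fin (r + 1)) :
    (LefPen.hypIdeal G).ideal (chartAff i) = Ideal.span {LefPen.dehom G i} := by
  rw [hypIdeal_ideal]
  set P := CohB1.ProjSpace r k
  apply le_antisymm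
  · exact (iInf_le _ i).trans (comap_span_self (LefPen.chart r k i) (LefPen.dehom G i))
  · refine le_iInf fun j => ?_
    rw [Ideal.span_singleton_le_iff_mem, Ideal.mem_comap]
    obtain ⟨t, ht⟩ := dehom_change G i j
    exact Ideal.mem_span_singleton'.2 ⟨t, ht.symm⟩

/-- The pullback of a dehomogenised form to a chart of an embedded scheme. -/
def pullForm {X : Scheme.{u}} (ι : X ⟶ CohB1.ProjSpace r k) (i : Fin (r + 1)) {d : ℕ} (G : LefPen.Form r k d) :
    Γ(X, ι ⁻¹ᵁ LefPen.chart r k i) :=
  ι.app (LefPen.chart r k i) (LefPen.dehom G i)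

/-- The section by one form is cut out on each chart by the pulled back dehomogenisation. -/
theorem secIdeal_singleton {X : Scheme.{u}} (ι : X ⟶ CohB1.ProjSpace r k) [IsAffineHom ι] {d : ℕ}
    (G : LefPen.Form r k d) (i : Fin (r + 1)) :
    (LefPen.secIdeal ι ({G} : Set (LefPen.Form r k d))).ideal
        ⟨ι ⁻¹ᵁ LefPen.chart r k i, (chartAff i).2.preimage ι⟩ =
      Ideal.span {pullForm ι i G} := by
  rw [LefPen.secIdeal, iSup_singleton, ModPairLib.ideal_comap _ ι (chartAff i) _ le_rfl, hypIdeal_chart,
    Ideal.map_span, Set.image_singleton]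
  exact congrArg (fun φ => Ideal.span {(CommRingCat.Hom.hom φ) (LefPen.dehom G i)}) (Scheme.Hom.appLE_eq_app ι)

end

end Groth.Agent.LefPenLib
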