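import Groth.Agent.LefPenLib.Hyp
import Groth.Agent.SmoothReg.Scheme

/-!
# Coordinate rings of the charts of an embedded scheme
-/

set_option backward.isDefEq.respectTransparency false
set_option backward.isDefEq.respectTransparency.types false
set_option linter.unusedSectionVars false
set_option linter.style.haveILetI false

universe u

open CategoryTheory CategoryTheory.Limits AlgebraicGeometry TopologicalSpace Opposite

namespace Groth.Agent.LefPenLib

variable {r : ℕ} {k : Type u} [Field k]

noncomputable section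

/-- The constants on a chart of projective space. -/
theorem affMap_toSpec_chart (i : Fin (r + 1)) (c : k) :
    SmoothReg.affMap (CohB1.ProjSpace.toSpec r k) (LefPen.chart r k i) c =
      (Proj.awayToSection (CohB1.polyGrading r k) (MvPolynomial.X i)).hom (ZetaLib.base r k i c) := by
  let D := LefPen.chart r k i
  let φ : CommRingCat.of k ⟶ Γ(CohB1.ProjSpace r k, D) :=
    CommRingCat.ofHom (ZetaLib.base r k i) ≫ Proj.awayToSection (CohB1.polyGrading r k) (MvPolynomial.X i)
  have h : D.ι ≫ CohB1.ProjSpace.toSpec r k = D.toSpecΓ ≫ Spec.map φ := by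
    let e := Proj.basicOpenIsoSpec (CohB1.polyGrading r k) (MvPolynomial.X i) (LefPen.X_mem r k i) Nat.one_pos
    have h1 : D.ι = e.hom ≫ ZetaLib.chart r k i := (Iso.hom_inv_id_assoc e D.ι).symm
    rw [h1, Category.assoc, ZetaLib.chart_toSpec, Spec.map_comp, ← Category.assoc]
    rfl
  have h2 := congrArg (fun g => (Scheme.Hom.appTop g).hom ((Scheme.ΓSpecIso (CommRingCat.of k)).inv c)) h
  dsimp only at h2
  rw [Scheme.Hom.comp_appTop, Scheme.Hom.comp_appTop, CommRingCat.comp_apply, CommRingCat.comp_apply,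
    Scheme.Opens.toSpecΓ_appTop, CommRingCat.comp_apply] at h2
  have h3 := ConcreteCategory.congr_hom (Scheme.ΓSpecIso_naturality φ) ((Scheme.ΓSpecIso (CommRingCat.of k)).inv c)
  rw [CommRingCat.comp_apply, CommRingCat.comp_apply, Iso.inv_hom_id_apply] at h3
  rw [h3] at h2
  have h4 := congrArg D.topIso.hom h2
  rw [Iso.inv_hom_id_apply] at h4
  refine Eq.trans ?_ h4
  simp only [Scheme.Opens.topIso_hom, Scheme.Opens.ι_appTop, ← CommRingCat.comp_apply]
  show (Scheme.Hom.appLE (CohB1.ProjSpace.toSpec r k) ⊤ D (by simp)).hom _ = _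
  refine ConcreteCategory.congr_hom ?_ ((Scheme.ΓSpecIso (CommRingCat.of k)).inv c)
  simp only [Scheme.Hom.appLE, Category.assoc, ← Functor.map_comp]
  exact congrArg (fun m => (CohB1.ProjSpace.toSpec r k).appTop ≫ (CohB1.ProjSpace r k).presheaf.map m)
    (Subsingleton.elim _ _)

variable {X : Scheme.{u}} (ι : X ⟶ CohB1.ProjSpace r k) (i : Fin (r + 1))

/-- The chart of `X`. -/
abbrev wOpen : X.Opens := ι ⁻¹ᵁ LefPen.chart r k i

theorem isAffine_wOpen [IsAffineHom ι] : IsAffineOpen (wOpen ι i) := (chartAff i).2.preimage ι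

/-- The structure map of a chart of `X` as an algebra. -/
@[reducible] def wAlgebra : Algebra k Γ(X, wOpen ι i) :=
  (SmoothReg.affMap (ι ≫ CohB1.ProjSpace.toSpec r k) (wOpen ι i)).toAlgebra

attribute [local instance] wAlgebra

theorem affMap_wOpen (c : k) :
    SmoothReg.affMap (ι ≫ CohB1.ProjSpace.toSpec r k) (wOpen ι i) c =
      ι.app (LefPen.chart r k i) (SmoothReg.affMap (CohB1.ProjSpace.toSpec r k) (LefPen.chart r k i) c) := by
  show (Scheme.Hom.appLE _ ⊤ (wOpen ι i) _).hom _ = ι.app _ ((Scheme.Hom.appLE _ ⊤ _ _).hom _)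
  have e : ∀ h, (CohB1.ProjSpace.toSpec r k).appLE ⊤ (LefPen.chart r k i) (by simp) ≫ ι.app (LefPen.chart r k i) =
      (ι ≫ CohB1.ProjSpace.toSpec r k).appLE ⊤ (wOpen ι i) h := fun h => by
    rw [Scheme.Hom.app_eq_appLE, Scheme.Hom.appLE_comp_appLE]
  rw [← e]
  rfl

/-- Dehomogenising a polynomial and pulling back to the chart of `X`. -/
def pullPoly : MvPolynomial (Fin (r + 1)) k →ₐ[k] Γ(X, wOpen ι i) :=
  { ((ι.app (LefPen.chart r k i)).hom.comp
      ((Proj.awayToSection (CohB1.polyGrading r k) (MvPolynomial.X i)).hom.comp (ZetaLib.dehom r k i))) with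
    commutes' := fun c => by
      show ι.app _ ((Proj.awayToSection _ _).hom (ZetaLib.dehom r k i (MvPolynomial.C c))) = _
      rw [ZetaLib.dehom, MvPolynomial.eval₂Hom_C, ← affMap_toSpec_chart, ← affMap_wOpen]
      rfl }

theorem pullPoly_X_self : pullPoly ι i (MvPolynomial.X i) = 1 := by
  show ι.app _ ((Proj.awayToSection _ _).hom (ZetaLib.dehom r k i (MvPolynomial.X i))) = 1
  rw [ZetaLib.dehom, MvPolynomial.eval₂Hom_X']
  have h : ZetaLib.coord r k i i = 1 := HomogeneousLocalization.val_injective _ (by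
    rw [ZetaLib.coord, HomogeneousLocalization.Away.val_mk, HomogeneousLocalization.val_one,
      ← Localization.mk_self (⟨MvPolynomial.X i ^ 1, 1, rfl⟩ :
        Submonoid.powers (MvPolynomial.X i : MvPolynomial (Fin (r + 1)) k))]
    simp only [pow_one])
  rw [h, map_one, map_one]

theorem pullForm_eq {d : ℕ} (G : LefPen.Form r k d) : pullForm ι i G = pullPoly ι i G.1 :=
  congrArg (ι.app (LefPen.chart r k i)) (dehom_eq G i)

theorem pullPoly_surjective [IsClosedImmersion ι] : Function.Surjective (pullPoly ι i) := by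
  have h1 : Function.Surjective (ι.app (LefPen.chart r k i)) := Scheme.Hom.app_surjective ι _ (chartAff i).2
  have h2 : Function.Surjective (Proj.awayToSection (CohB1.polyGrading r k) (MvPolynomial.X i)).hom :=
    (ConcreteCategory.bijective_of_isIso (Proj.basicOpenIsoAway (CohB1.polyGrading r k) (MvPolynomial.X i)
      (LefPen.X_mem r k i) Nat.one_pos).hom).2
  exact h1.comp (h2.comp (ZetaLib.surjective_dehom r k i))

end

end Groth.Agent.LefPenLib
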