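import Groth.Agent.LefPenLib.Coord

/-!
# Changing charts
-/

set_option backward.isDefEq.respectTransparency false
set_option backward.isDefEq.respectTransparency.types false
set_option linter.unusedSectionVars false
set_option linter.style.haveILetI false

universe u

open CategoryTheory CategoryTheory.Limits AlgebraicGeometry TopologicalSpace Opposite

namespace Groth.Agent.LefPenLib

variable {r : ℕ} {k : Type u} [Field k]

noncomputable section

/-- The exact change of dehomogenisation. -/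
theorem dehom_change_eq {d : ℕ} (G : LefPen.Form r k d) (i j : Fin (r + 1)) :
    (CohB1.ProjSpace r k).presheaf.map
        (homOfLE (inf_le_left : LefPen.chart r k i ⊓ LefPen.chart r k j ≤ _)).op (LefPen.dehom G i) =
      ((CohB1.ProjSpace r k).presheaf.map
          (homOfLE (inf_le_left : LefPen.chart r k i ⊓ LefPen.chart r k j ≤ _)).op
          ((Proj.awayToSection (CohB1.polyGrading r k) (MvPolynomial.X i)).hom (ZetaLib.coord r k i j))) ^ d *
      (CohB1.ProjSpace r k).presheaf.map
          (homOfLE (inf_le_right : LefPen.chart r k i ⊓ LefPen.chart r k j ≤ _)).op (LefPen.dehom G j) := by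
  have h' : LefPen.chart r k i ⊓ LefPen.chart r k j ≤
      Proj.basicOpen (CohB1.polyGrading r k) (MvPolynomial.X i * MvPolynomial.X j) :=
    (Proj.basicOpen_mul _ _ _).ge
  have e1 := awayToSection_res i j i inf_le_left _ (LefPen.X_mem r k j) rfl h'
    (HomogeneousLocalization.Away.mk (CohB1.polyGrading r k) (LefPen.X_mem r k i) d G.1
      (by rw [smul_eq_mul, mul_one]; exact G.2))
  have e2 := awayToSection_res i j j inf_le_right _ (LefPen.X_mem r k i) (mul_comm _ _) h'
    (HomogeneousLocalization.Away.mk (CohB1.polyGrading r k) (LefPen.X_mem r k j) d G.1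
      (by rw [smul_eq_mul, mul_one]; exact G.2))
  have e4 := awayToSection_res i j i inf_le_left _ (LefPen.X_mem r k j) rfl h' (ZetaLib.coord r k i j)
  have e3 := congrArg (fun z => (CohB1.ProjSpace r k).presheaf.map (homOfLE h').op
    ((Proj.awayToSection (CohB1.polyGrading r k) (MvPolynomial.X i * MvPolynomial.X j)).hom z)) (away_change G i j)
  simp only [map_mul, map_pow] at e3
  rw [e4]
  exact e1.trans (e3.trans (congrArg (_ * ·) e2.symm))

/-- The overlap of two charts is a basic open of either. -/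
theorem basicOpen_coord (i j : Fin (r + 1)) :
    (CohB1.ProjSpace r k).basicOpen
        ((Proj.awayToSection (CohB1.polyGrading r k) (MvPolynomial.X i)).hom (ZetaLib.coord r k i j)) =
      LefPen.chart r k i ⊓ LefPen.chart r k j := by
  set s := (Proj.awayToSection (CohB1.polyGrading r k) (MvPolynomial.X i)).hom (ZetaLib.coord r k i j)
  have h1 : Proj.awayι (CohB1.polyGrading r k) (MvPolynomial.X i) (LefPen.X_mem r k i) Nat.one_pos ⁻¹ᵁ
      LefPen.chart r k j = PrimeSpectrum.basicOpen (HomogeneousLocalization.Away.isLocalizationElem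
        (LefPen.X_mem r k i) (LefPen.X_mem r k j)) :=
    Proj.awayι_preimage_basicOpen (CohB1.polyGrading r k) (LefPen.X_mem r k i) Nat.one_pos (LefPen.X_mem r k j) Nat.one_pos
  have h2 : HomogeneousLocalization.Away.isLocalizationElem (LefPen.X_mem r k i) (LefPen.X_mem r k j) =
      ZetaLib.coord r k i j := HomogeneousLocalization.val_injective _ (by
    simp [HomogeneousLocalization.Away.isLocalizationElem, ZetaLib.coord])
  let D := LefPen.chart r k i
  let e := Proj.basicOpenIsoSpec (CohB1.polyGrading r k) (MvPolynomial.X i) (LefPen.X_mem r k i) Nat.one_pos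
  have hι : D.ι = e.hom ≫ Proj.awayι (CohB1.polyGrading r k) (MvPolynomial.X i) (LefPen.X_mem r k i) Nat.one_pos :=
    (Iso.hom_inv_id_assoc e D.ι).symm
  have h3 : D.ι ⁻¹ᵁ LefPen.chart r k j = D.ι ⁻¹ᵁ (CohB1.ProjSpace r k).basicOpen s := by
    conv_lhs => rw [hι, Scheme.Hom.comp_preimage, h1, h2]
    rw [← Scheme.Opens.toSpecΓ_preimage_basicOpen]
    rfl
  have h4 := congrArg (fun U => D.ι ''ᵁ U) h3
  simp only [Scheme.Hom.image_preimage_eq_opensRange_inf, Scheme.Opens.opensRange_ι] at h4
  rw [h4]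
  exact (inf_eq_right.2 ((CohB1.ProjSpace r k).basicOpen_le s)).symm

variable {X : Scheme.{u}} (ι : X ⟶ CohB1.ProjSpace r k)

attribute [local instance] wAlgebra

/-- The restriction of the functions of a chart to a smaller open, as an algebra map. -/
theorem affMap_res (i : Fin (r + 1)) {V : X.Opens} (h : V ≤ wOpen ι i) (c : k) :
    X.presheaf.map (homOfLE h).op (SmoothReg.affMap (ι ≫ CohB1.ProjSpace.toSpec r k) (wOpen ι i) c) =
      SmoothReg.affMap (ι ≫ CohB1.ProjSpace.toSpec r k) V c := by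
  show X.presheaf.map _ ((Scheme.Hom.appLE _ ⊤ (wOpen ι i) _).hom _) = (Scheme.Hom.appLE _ ⊤ V _).hom _
  rw [← CommRingCat.comp_apply, Scheme.Hom.appLE_map]

/-- A point of the chart `j` with invertible `i`th coordinate is a point of the chart `i`. -/
theorem exists_change' [IsAffineHom ι] (i j : Fin (r + 1)) {R : Type u} [CommRing R] [Algebra k R]
    (ψ : Γ(X, wOpen ι j) →ₐ[k] R) (hu : IsUnit (ψ (pullPoly ι j (MvPolynomial.X i)))) :
    ∃ (φ : Γ(X, wOpen ι i) →ₐ[k] R) (ψ' : Γ(X, ι ⁻¹ᵁ (LefPen.chart r k j ⊓ LefPen.chart r k i)) →+* R),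
      (∀ a, ψ' (X.presheaf.map (homOfLE (fun _ hx => hx.1 : ι ⁻¹ᵁ (LefPen.chart r k j ⊓ LefPen.chart r k i) ≤ wOpen ι j)).op a) = ψ a) ∧
      (∀ a, ψ' (X.presheaf.map (homOfLE (fun _ hx => hx.2 : ι ⁻¹ᵁ (LefPen.chart r k j ⊓ LefPen.chart r k i) ≤ wOpen ι i)).op a) = φ a) ∧
      ∀ (d : ℕ) (G : LefPen.Form r k d),
        ψ (pullForm ι j G) = ψ (pullPoly ι j (MvPolynomial.X i)) ^ d * φ (pullForm ι i G) := by
  let P := CohB1.ProjSpace r k
  let y : Γ(X, wOpen ι j) := pullPoly ι j (MvPolynomial.X i)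
  let V : X.Opens := ι ⁻¹ᵁ (LefPen.chart r k j ⊓ LefPen.chart r k i)
  have hyeq : y = ι.app (LefPen.chart r k j)
      ((Proj.awayToSection (CohB1.polyGrading r k) (MvPolynomial.X j)).hom (ZetaLib.coord r k j i)) := by
    show ι.app _ ((Proj.awayToSection _ _).hom (ZetaLib.dehom r k j (MvPolynomial.X i))) = _
    rw [ZetaLib.dehom, MvPolynomial.eval₂Hom_X']
  have hV : X.basicOpen y = V := by
    rw [hyeq, ← Scheme.preimage_basicOpen, basicOpen_coord]
  have hle : V ≤ wOpen ι j := fun x hx => hx.1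
  have hle' : V ≤ wOpen ι i := fun x hx => hx.2
  letI : Algebra Γ(X, wOpen ι j) Γ(X, V) := (X.presheaf.map (homOfLE hle).op).hom.toAlgebra
  haveI : IsLocalization.Away y Γ(X, V) :=
    (isAffine_wOpen ι j).isLocalization_of_eq_basicOpen y (homOfLE hle) hV.symm
  have hu' : ∀ z : Submonoid.powers y, IsUnit (ψ.toRingHom z) := by
    rintro ⟨_, m, rfl⟩
    rw [map_pow]; exact hu.pow m
  let ψ' : Γ(X, V) →+* R := IsLocalization.lift hu'
  have hψ' : ∀ a, ψ' (X.presheaf.map (homOfLE hle).op a) = ψ a := fun a => IsLocalization.lift_eq hu' a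
  let φ : Γ(X, wOpen ι i) →ₐ[k] R :=
    { ψ'.comp (X.presheaf.map (homOfLE hle').op).hom with
      commutes' := fun c => by
        show ψ' (X.presheaf.map (homOfLE hle').op (SmoothReg.affMap (ι ≫ CohB1.ProjSpace.toSpec r k) (wOpen ι i) c)) = _
        rw [affMap_res, ← affMap_res ι j hle, hψ']
        exact ψ.commutes c }
  refine ⟨φ, ψ', hψ', fun a => rfl, fun d G => ?_⟩
  have h1 := congrArg (ι.app (LefPen.chart r k j ⊓ LefPen.chart r k i)) (dehom_change_eq G j i)
  rw [map_mul, map_pow] at h1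
  have hnat : ∀ (l : Fin (r + 1)) (hl : LefPen.chart r k j ⊓ LefPen.chart r k i ≤ LefPen.chart r k l)
      (hl' : V ≤ wOpen ι l) (z : Γ(P, LefPen.chart r k l)),
      ι.app (LefPen.chart r k j ⊓ LefPen.chart r k i) (P.presheaf.map (homOfLE hl).op z) =
        X.presheaf.map (homOfLE hl').op (ι.app (LefPen.chart r k l) z) := fun l hl hl' z =>
    ConcreteCategory.congr_hom (ι.naturality (homOfLE hl).op) z
  rw [hnat j inf_le_left hle, hnat i inf_le_right hle', hnat j inf_le_left hle] at h1
  have h2 := congrArg ψ' h1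
  rw [map_mul, map_pow, hψ', hψ', ← hyeq] at h2
  exact h2

/-- A point of the chart `j` with invertible `i`th coordinate is a point of the chart `i`. -/
theorem exists_change [IsAffineHom ι] (i j : Fin (r + 1)) {R : Type u} [CommRing R] [Algebra k R]
    (ψ : Γ(X, wOpen ι j) →ₐ[k] R) (hu : IsUnit (ψ (pullPoly ι j (MvPolynomial.X i)))) :
    ∃ φ : Γ(X, wOpen ι i) →ₐ[k] R, ∀ (d : ℕ) (G : LefPen.Form r k d),
      ψ (pullForm ι j G) = ψ (pullPoly ι j (MvPolynomial.X i)) ^ d * φ (pullForm ι i G) :=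
  let ⟨φ, _, _, _, h⟩ := exists_change' ι i j ψ hu
  ⟨φ, h⟩

end

end Groth.Agent.LefPenLib
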