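import Mathlib.RingTheory.WittVector.DiscreteValuationRing
import Mathlib.RingTheory.WittVector.Complete
import Mathlib.RingTheory.MvPolynomial.Homogeneous
import Mathlib.NumberTheory.Padics.PadicVal.Basic
import Mathlib.FieldTheory.Finite.Basic
import Mathlib.Data.Nat.Choose.Multinomial

/-! Ax's theorem, by digit sums. -/

namespace Groth.Agent.LefPenLib.Ax

open Finset

/-- The cyclic reading of a list of digits. -/
def rot (p f : ℕ) : ℕ → List ℕ → ℕ
  | _, [] => 0
  | l, a :: L => a * p ^ (l % f) + rot p f (l + 1) L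

section Digits

variable {p f : ℕ}

theorem pow_mod_modEq (hp : 0 < p) (l : ℕ) : p ^ (l % f) ≡ p ^ l [MOD p ^ f - 1] := by
  have h1 : p ^ f ≡ 1 [MOD p ^ f - 1] := ((Nat.modEq_iff_dvd' (Nat.one_le_pow _ _ hp)).2 dvd_rfl).symm
  conv_rhs => rw [← Nat.mod_add_div l f, pow_add, pow_mul]
  simpa using ((h1.pow (l / f)).mul_left (p ^ (l % f))).symm

theorem rot_modEq (hp : 0 < p) (L : List ℕ) : ∀ l, rot p f l L ≡ p ^ l * Nat.ofDigits p L [MOD p ^ f - 1] := by
  induction L with
  | nil => intro l; simp [rot]; rfl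
  | cons a L ih =>
    intro l
    rw [rot, Nat.ofDigits_cons, mul_add, mul_comm (p ^ l) a, ← mul_assoc, ← pow_succ]
    exact ((pow_mod_modEq hp l).mul_left a).add (ih (l + 1))

theorem sum_periodic {h : ℕ → ℕ} (hh : ∀ l, h (l + f) = h l) :
    ∀ c, ∑ l ∈ range f, h (c + l) = ∑ l ∈ range f, h l := by
  intro c
  induction c with
  | zero => simp
  | succ c ih =>
    refine Eq.trans ?_ ih
    have h1 := sum_range_succ (fun l => h (c + l)) f
    have h2 := sum_range_succ' (fun l => h (c + l)) f
    simp only [add_zero, hh c] at h1 h2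
    have h3 : ∀ l, h (c + (l + 1)) = h (c + 1 + l) := fun l => by congr 1; omega
    simp only [h3] at h2
    omega

theorem sum_rot (L : List ℕ) : ∀ c, ∑ l ∈ range f, rot p f (c + l) L = L.sum * ∑ l ∈ range f, p ^ l := by
  induction L with
  | nil => intro c; simp [rot]
  | cons a L ih =>
    intro c
    simp only [rot, sum_add_distrib, ← mul_sum]
    rw [List.sum_cons, add_mul, sum_periodic (h := fun l => p ^ (l % f)) (fun l => by simp) c,
      sum_congr rfl fun l hl => by rw [Nat.mod_eq_of_lt (mem_range.1 hl)],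
      ← ih (c + 1)]
    congr 1
    exact sum_congr rfl fun l _ => by rw [add_right_comm]

theorem rot_pos (hp : 0 < p) {L : List ℕ} (hL : ∃ a ∈ L, a ≠ 0) : ∀ l, 0 < rot p f l L := by
  induction L with
  | nil => simp at hL
  | cons a L ih =>
    intro l
    rw [rot]
    by_cases ha : a = 0
    · refine Nat.add_pos_right _ (ih ?_ (l + 1))
      obtain ⟨b, hb, hb0⟩ := hL
      rcases List.mem_cons.1 hb with rfl | hb
      · exact absurd ha hb0
      · exact ⟨b, hb, hb0⟩
    · exact Nat.add_pos_left (Nat.mul_pos (Nat.pos_of_ne_zero ha) (Nat.pow_pos hp)) _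

theorem exists_digit_ne_zero {k : ℕ} (hk : k ≠ 0) : ∃ a ∈ p.digits k, a ≠ 0 := by
  by_contra h
  push Not at h
  refine hk ?_
  rw [← Nat.ofDigits_digits p k]
  generalize p.digits k = L at h
  induction L with
  | nil => rfl
  | cons a L ih => rw [Nat.ofDigits_cons, h a List.mem_cons_self, ih fun b hb => h b (List.mem_cons_of_mem _ hb)]; simp

theorem digitSum_base (hp : 1 < p) (hf : 0 < f) (m : ℕ) : (p.digits (p ^ m * (p ^ f - 1))).sum = f * (p - 1) := by
  have h1 : 0 < p ^ f - 1 := by have := Nat.one_lt_pow hf.ne' hp; omega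
  have h2 : ∀ g, Nat.ofDigits p (List.replicate g (p - 1)) = p ^ g - 1 := fun g => by
    induction g with
    | zero => rfl
    | succ g ih =>
      rw [List.replicate_succ, Nat.ofDigits_cons, ih, pow_succ', Nat.mul_sub, mul_one]
      have : p ≤ p * p ^ g := Nat.le_mul_of_pos_right _ (Nat.pow_pos (by omega))
      omega
  rw [Nat.digits_base_pow_mul hp h1, ← h2 f, Nat.digits_ofDigits p hp]
  · simp
  · intro l hl; rw [List.eq_of_mem_replicate hl]; omega
  · intro h; rw [List.getLast_replicate]; omega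

/-- Legendre's formula for multinomial coefficients. -/
theorem multinomial_val [Fact p.Prime] {α : Type*} (S : Finset α) (k : α → ℕ) :
    (p - 1) * padicValNat p (Nat.multinomial S k) + (p.digits (∑ u ∈ S, k u)).sum = ∑ u ∈ S, (p.digits (k u)).sum := by
  classical
  have hv : ∀ T : Finset α, padicValNat p (∏ u ∈ T, (k u).factorial) = ∑ u ∈ T, padicValNat p (k u).factorial := fun T => by
    induction T using Finset.induction with
    | empty => simp
    | @insert a T ha ih =>
      rw [prod_insert ha, sum_insert ha, padicValNat.mul (Nat.factorial_ne_zero _)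
        (prod_ne_zero_iff.2 fun u _ => Nat.factorial_ne_zero _), ih]
  have h := congrArg (fun n => (p - 1) * padicValNat p n) (Nat.multinomial_spec S k)
  try simp only at h
  rw [padicValNat.mul (prod_ne_zero_iff.2 fun u _ => Nat.factorial_ne_zero _) (Nat.multinomial_pos S k).ne', hv,
    mul_add, mul_sum, sub_one_mul_padicValNat_factorial] at h
  simp only [sub_one_mul_padicValNat_factorial] at h
  have hle : ∀ n, (p.digits n).sum ≤ n := fun n => Nat.digit_sum_le p n
  have hs : ∑ u ∈ S, (k u - (p.digits (k u)).sum) + ∑ u ∈ S, (p.digits (k u)).sum = ∑ u ∈ S, k u := by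
    rw [← sum_add_distrib]; exact sum_congr rfl fun u _ => Nat.sub_add_cancel (hle _)
  have hM := hle (∑ u ∈ S, k u)
  omega

/-- The combinatorial heart: the bound on one term of the expansion. -/
theorem term_bound [hpp : Fact p.Prime] (hf : 0 < f) {N d j m : ℕ} (hd : 0 < d) (S : Finset (Fin N →₀ ℕ)) (hS : ∀ u ∈ S, ∑ i, u i ≤ d)
    (k : (Fin N →₀ ℕ) → ℕ) (hk : ∑ u ∈ S, k u = p ^ m * (p ^ f - 1)) (hj : j * d < N)
    (he : ∀ i, (p ^ f - 1) ∣ ∑ u ∈ S, u i * k u) :
    f * j ≤ padicValNat p (Nat.multinomial S k) + f * (univ.filter fun i => ∑ u ∈ S, u i * k u = 0).card := by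
  set Q := p ^ f - 1 with hQ
  set R := univ.filter fun i => ¬ ∑ u ∈ S, u i * k u = 0 with hR
  set Z := univ.filter fun i => ∑ u ∈ S, u i * k u = 0 with hZ
  have hZR : Z.card + R.card = N := by
    rw [hR, hZ, card_filter_add_card_filter_not, card_univ, Fintype.card_fin]
  let G : ℕ → (Fin N →₀ ℕ) → ℕ := fun l u => rot p f l (p.digits (k u))
  have hG : ∀ l u, G l u ≡ p ^ l * k u [MOD Q] := fun l u => by
    simpa [G, Nat.ofDigits_digits] using rot_modEq (p := p) (f := f) hpp.out.pos (p.digits (k u)) l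
  have hsum : ∀ (g : (Fin N →₀ ℕ) → ℕ) l, ∑ u ∈ S, g u * G l u ≡ p ^ l * ∑ u ∈ S, g u * k u [MOD Q] := fun g l => by
    rw [mul_sum, ← ZMod.natCast_eq_natCast_iff, Nat.cast_sum, Nat.cast_sum]
    refine sum_congr rfl fun u _ => (ZMod.natCast_eq_natCast_iff _ _ _).2 ?_
    rw [mul_left_comm]
    exact (hG l u).mul_left _
  have hT : ∀ l, Q ∣ ∑ u ∈ S, G l u := fun l => by
    have := hsum (fun _ => 1) l
    simp only [one_mul, hk] at this
    exact (Nat.modEq_zero_iff_dvd).1 (this.trans ((Nat.modEq_zero_iff_dvd).2 (dvd_mul_of_dvd_right (dvd_mul_left _ _) _)))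
  choose c hc using hT
  have hc' : ∀ l, R.card ≤ d * c l := fun l => by
    have h1 : ∀ i ∈ R, Q ≤ ∑ u ∈ S, u i * G l u := fun i hi => by
      refine Nat.le_of_dvd ?_ ((Nat.modEq_zero_iff_dvd).1
        ((hsum (fun u => u i) l).trans ((Nat.modEq_zero_iff_dvd).2 (dvd_mul_of_dvd_right (he i) _))))
      obtain ⟨u, hu, hne⟩ := exists_ne_zero_of_sum_ne_zero (mem_filter.1 hi).2
      refine sum_pos' (fun _ _ => Nat.zero_le _) ⟨u, hu, ?_⟩
      exact Nat.mul_pos (Nat.pos_of_ne_zero (left_ne_zero_of_mul hne))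
        (rot_pos hpp.out.pos (exists_digit_ne_zero (right_ne_zero_of_mul hne)) l)
    have h2 : R.card * Q ≤ d * ∑ u ∈ S, G l u :=
      calc R.card * Q ≤ ∑ i ∈ R, ∑ u ∈ S, u i * G l u := by simpa using card_nsmul_le_sum R _ Q h1
        _ ≤ ∑ i, ∑ u ∈ S, u i * G l u := sum_le_sum_of_subset (subset_univ _)
        _ = ∑ u ∈ S, (∑ i, u i) * G l u := by rw [sum_comm]; exact sum_congr rfl fun u _ => (sum_mul ..).symm
        _ ≤ ∑ u ∈ S, d * G l u := sum_le_sum fun u hu => Nat.mul_le_mul_right _ (hS u hu)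
        _ = d * ∑ u ∈ S, G l u := (mul_sum ..).symm
    rw [hc l, mul_comm Q, ← mul_assoc] at h2
    exact Nat.le_of_mul_le_mul_right h2 (by have := Nat.one_lt_pow hf.ne' hpp.out.one_lt; omega)
  have hp1 : 0 < p - 1 := by have := hpp.out.one_lt; omega
  have htot : padicValNat p (Nat.multinomial S k) + f = ∑ l ∈ range f, c l := by
    have hgeom : (∑ l ∈ range f, p ^ l) * (p - 1) = Q := geom_sum_mul_of_one_le hpp.out.one_le f
    have h1 : ∑ l ∈ range f, c l * Q = (∑ u ∈ S, (p.digits (k u)).sum) * ∑ l ∈ range f, p ^ l := by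
      simp only [fun l => (mul_comm (c l) Q).trans (hc l).symm, G]
      rw [sum_comm, sum_mul]
      exact sum_congr rfl fun u _ => by simpa using sum_rot (p := p) (f := f) (p.digits (k u)) 0
    have hmv := multinomial_val (p := p) S k
    rw [hk, digitSum_base hpp.out.one_lt hf] at hmv
    rw [← hmv, ← sum_mul, ← hgeom] at h1
    have hP : 0 < ∑ l ∈ range f, p ^ l := sum_pos (fun _ _ => Nat.pow_pos hpp.out.pos) (by simp; omega)
    refine Nat.eq_of_mul_eq_mul_left hp1 (Nat.eq_of_mul_eq_mul_right hP ?_)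
    rw [mul_add, mul_comm (p - 1) f, ← h1]
    ring
  have hall : f * (j + 1) ≤ (∑ l ∈ range f, c l) + f * Z.card := by
    have h1 : ∀ l ∈ range f, j + 1 ≤ c l + Z.card := fun l _ => by
      have h3 : Z.card ≤ d * Z.card := Nat.le_mul_of_pos_left _ hd
      have h4 : d * j < d * (c l + Z.card) := by
        rw [mul_comm d j, mul_add]
        have := hc' l
        omega
      exact Nat.lt_of_mul_lt_mul_left h4
    calc f * (j + 1) = ∑ l ∈ range f, (j + 1) := by simp
      _ ≤ ∑ l ∈ range f, (c l + Z.card) := sum_le_sum h1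
      _ = (∑ l ∈ range f, c l) + f * Z.card := by simp [sum_add_distrib]
  rw [mul_add, mul_one] at hall
  omega

end Digits

section Witt

open MvPolynomial

variable (k : Type*) [Field k] [Fintype k] (p : ℕ) [hp : Fact p.Prime] [hcp : CharP k p]

theorem natCast_pow_dvd {n a : ℕ} (h : (p : WittVector p k) ^ n ∣ (a : WittVector p k)) : p ^ n ∣ a := by
  induction n generalizing a with
  | zero => simp
  | succ n ih =>
    obtain ⟨y, hy⟩ := h
    have h0 : (a : k) = 0 := by
      have := congrArg WittVector.constantCoeff hy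
      rw [map_natCast, map_mul, map_pow, map_natCast, CharP.cast_eq_zero k p, zero_pow (by omega), zero_mul] at this
      exact this
    obtain ⟨b, rfl⟩ := (CharP.cast_eq_zero_iff k p a).1 h0
    rw [pow_succ']
    refine mul_dvd_mul_left _ (ih ⟨y, mul_left_cancel₀ (WittVector.p_nonzero p k) ?_⟩)
    rw [← mul_assoc, ← pow_succ', ← hy, Nat.cast_mul]

theorem sum_teichmuller_pow {e : ℕ} (he : ¬ (Fintype.card k - 1) ∣ e) :
    ∑ t : k, WittVector.teichmuller p t ^ e = 0 := by
  classical
  have : ¬ ∀ x : kˣ, x ^ e = 1 := fun h => he ((FiniteField.forall_pow_eq_one_iff k e).1 h)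
  push Not at this
  obtain ⟨g, hg⟩ := this
  have h1 : (WittVector.teichmuller p (g : k) ^ e - 1) * ∑ t : k, WittVector.teichmuller p t ^ e = 0 := by
    rw [sub_mul, one_mul, mul_sum, sub_eq_zero]
    simp only [← mul_pow, ← map_mul]
    exact Fintype.sum_equiv (Equiv.mulLeft₀ (g : k) g.ne_zero) _ _ fun _ => rfl
  refine (mul_eq_zero.1 h1).resolve_left fun h => hg (Units.ext ?_)
  have := congrArg WittVector.constantCoeff h
  rw [map_sub, map_pow, map_one, map_zero, sub_eq_zero] at this
  simpa [WittVector.constantCoeff, WittVector.teichmuller_coeff_zero] using this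

include p hp hcp in
/-- **Ax's theorem**. -/
theorem ax [DecidableEq k] {N d j : ℕ} (hd : 0 < d) (F : MvPolynomial (Fin N) k) (hF : ∀ u ∈ F.support, ∑ i, u i ≤ d)
    (hj : j * d < N) : Fintype.card k ^ j ∣ Fintype.card {x : Fin N → k // MvPolynomial.eval x F = 0} := by
  classical
  obtain ⟨⟨f, hf⟩, _, hq⟩ := FiniteField.card k p
  rw [PNat.mk_coe] at hq
  rw [hq, ← pow_mul]
  refine natCast_pow_dvd k p ?_
  set W := WittVector p k
  set T := WittVector.teichmuller p (R := k) with hT
  set cc : W →+* k := WittVector.constantCoeff with hcc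
  have hTc : ∀ t, cc (T t) = t := fun t => WittVector.teichmuller_coeff_zero p t
  set S := F.support
  let a : (Fin N → k) → W := fun x => ∑ u ∈ S, T (F.coeff u) * ∏ i, T (x i) ^ u i
  have ha : ∀ x, cc (a x) = MvPolynomial.eval x F := fun x => by
    simp [a, MvPolynomial.eval_eq', hTc, S]
  set Q := p ^ f - 1 with hQ
  have hQ0 : 0 < Q := by have := Nat.one_lt_pow hf.ne' hp.out.one_lt; omega
  set m := f * j
  set M := p ^ m * Q with hM
  have hmM : m ≤ M := le_trans (Nat.lt_pow_self hp.out.one_lt).le (Nat.le_mul_of_pos_right _ hQ0)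
  -- the congruence `a x ^ M ≡ [F x ≠ 0]`
  have hind : ∀ x, (p : W) ^ m ∣ a x ^ M - (if MvPolynomial.eval x F = 0 then 0 else 1) := fun x => by
    split_ifs with h
    · rw [sub_zero]
      have : (p : W) ∣ a x := by
        rw [← Ideal.mem_span_singleton, ← WittVector.ker_constantCoeff, RingHom.mem_ker]
        exact (ha x).trans h
      exact (pow_dvd_pow _ hmM).trans (pow_dvd_pow_of_dvd this M)
    · have h1 : (p : W) ∣ a x ^ Q - 1 := by
        rw [← Ideal.mem_span_singleton, ← WittVector.ker_constantCoeff, RingHom.mem_ker]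
        change cc (a x ^ Q - 1) = 0
        rw [map_sub, map_pow, map_one, ha, hQ, ← hq, FiniteField.pow_card_sub_one_eq_one _ h, sub_self]
      have h2 := dvd_sub_pow_of_dvd_sub h1 m
      rw [← pow_mul, one_pow, mul_comm Q] at h2
      exact (pow_dvd_pow _ (Nat.le_succ m)).trans h2
  have hN : j ≤ N := le_trans (Nat.le_mul_of_pos_right j hd) hj.le
  -- the sum of the powers
  have hmain : (p : W) ^ m ∣ ∑ x, a x ^ M := by
    simp only [a, Finset.sum_pow_eq_sum_piAntidiag]
    rw [sum_comm]
    refine dvd_sum fun κ hκ => ?_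
    rw [← mul_sum]
    have hκs : ∑ u ∈ S, κ u = M := (mem_piAntidiag.1 hκ).1
    set e : Fin N → ℕ := fun i => ∑ u ∈ S, u i * κ u with he
    have hfac : ∀ x : Fin N → k, ∏ u ∈ S, (T (F.coeff u) * ∏ i, T (x i) ^ u i) ^ κ u =
        (∏ u ∈ S, T (F.coeff u) ^ κ u) * ∏ i, T (x i) ^ e i := fun x => by
      simp only [mul_pow, prod_mul_distrib, ← prod_pow, ← pow_mul, e]
      congr 1
      rw [prod_comm]
      exact prod_congr rfl fun i _ => prod_pow_eq_pow_sum _ _ _
    simp only [hfac, ← mul_sum]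
    rw [mul_left_comm]
    refine dvd_mul_of_dvd_right ?_ _
    rw [← Fintype.prod_sum (fun i t => T t ^ e i)]
    by_cases hdiv : ∀ i, Q ∣ e i
    · have hb : m ≤ padicValNat p (Nat.multinomial S κ) + f * (univ.filter fun i => e i = 0).card :=
        term_bound hf hd S hF κ hκs hj hdiv
      refine (pow_dvd_pow _ hb).trans ?_
      rw [pow_add]
      refine mul_dvd_mul ?_ ?_
      · rw [← Nat.cast_pow]
        exact map_dvd (Nat.castRingHom W) (pow_padicValNat_dvd (n := Nat.multinomial S κ) (p := p))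
      · rw [← prod_filter_mul_prod_filter_not univ (fun i => e i = 0) (fun i => ∑ t, T t ^ e i), pow_mul]
        refine dvd_mul_of_dvd_left (dvd_of_eq ?_) _
        rw [prod_eq_pow_card (b := (p : W) ^ f) fun i hi => ?_]
        rw [(mem_filter.1 hi).2]
        simp [hq]
    · push Not at hdiv
      obtain ⟨i, hi⟩ := hdiv
      rw [prod_eq_zero (mem_univ i) (sum_teichmuller_pow k p (by rwa [hq]))]
      simp
  have hcount : ∑ x : Fin N → k, (if MvPolynomial.eval x F = 0 then (0 : W) else 1) =
      (p : W) ^ (f * N) - (Fintype.card {x : Fin N → k // MvPolynomial.eval x F = 0} : W) := by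
    rw [eq_sub_iff_add_eq, Fintype.card_subtype, card_filter, Nat.cast_sum, ← sum_add_distrib]
    rw [sum_congr rfl (g := fun _ => (1 : W)) fun x _ => by split_ifs <;> simp]
    simp [hq, pow_mul]
  have h3 := dvd_sub hmain (dvd_sum fun x (_ : x ∈ (univ : Finset (Fin N → k))) => hind x)
  rw [sum_sub_distrib, sub_sub_cancel, hcount] at h3
  exact (dvd_sub_right (pow_dvd_pow _ (Nat.mul_le_mul_left f hN))).1 h3

end Witt

end Groth.Agent.LefPenLib.Ax
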