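import Groth.Agent.LefPenLib.SecPair
import Groth.Agent.LefPenLib.Bertini

/-!
# Bertini for the base locus through a transversal section
-/

set_option backward.isDefEq.respectTransparency false
set_option backward.isDefEq.respectTransparency.types false
set_option linter.unusedSectionVars false
set_option linter.style.haveILetI false

universe u

open CategoryTheory CategoryTheory.Limits AlgebraicGeometry TopologicalSpace Opposite

namespace Groth.Agent.LefPenLib

noncomputable section

variable {r : ℕ} {k : Type u} [Field k] {X : Scheme.{u}} (ι : X ⟶ CohB1.ProjSpace r k) {d : ℕ}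

attribute [local instance] wAlgebra

variable [IsAlgClosed k] [IsClosedImmersion ι] [IrreducibleSpace X] {n : ℕ}
  [hsmo : SmoothOfRelativeDimension n (ι ≫ CohB1.ProjSpace.toSpec r k)]

include hsmo

/-- A transversal section is covered by standard smooth charts. -/
theorem exists_std_cover (hn : 1 ≤ n) (H : LefPen.Form r k d)
    (hH : LefPen.Transversal k n 1 (LefPen.secToSpec ι ({H} : Set (LefPen.Form r k d)))) (i : Fin (r + 1)) :
    ∃ T : Finset (Γ(X, wOpen ι i) ⧸ Ideal.span {pullForm ι i H}),
      Ideal.span (T : Set (Γ(X, wOpen ι i) ⧸ Ideal.span {pullForm ι i H})) = ⊤ ∧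
      ∀ t ∈ T, Algebra.IsStandardSmoothOfRelativeDimension (n - 1) k (Localization.Away t) := by
  rcases hH with ⟨-, hs⟩ | ⟨h, -⟩
  · let I := LefPen.secIdeal ι ({H} : Set (LefPen.Form r k d))
    let U : X.affineOpens := ⟨wOpen ι i, isAffine_wOpen ι i⟩
    have h1 : SmoothOfRelativeDimension (n - 1)
        (I.subschemeCover.f U ≫ LefPen.secToSpec ι ({H} : Set (LefPen.Form r k d))) :=
      IsZariskiLocalAtSource.comp (P := @SmoothOfRelativeDimension (n - 1)) hs _
    change SmoothOfRelativeDimension (n - 1)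
      (I.subschemeCover.f U ≫ I.subschemeι ≫ ι ≫ CohB1.ProjSpace.toSpec r k) at h1
    rw [← Category.assoc, Scheme.IdealSheafData.subschemeCover_map_subschemeι] at h1
    unfold Scheme.IdealSheafData.glueDataObjι at h1
    rw [Category.assoc, Category.assoc, IsAffineOpen.isoSpec_inv_ι_assoc, fromSpec_comp, ← Spec.map_comp] at h1
    have key : ∀ J : Ideal Γ(X, wOpen ι i), J = Ideal.span {pullForm ι i H} →
        SmoothOfRelativeDimension (n - 1) (Spec.map (CommRingCat.ofHom
          (SmoothReg.affMap (ι ≫ CohB1.ProjSpace.toSpec r k) (wOpen ι i)) ≫ CommRingCat.ofHom (Ideal.Quotient.mk J))) →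
        SmoothOfRelativeDimension (n - 1) (Spec.map (CommRingCat.ofHom
          (algebraMap k (Γ(X, wOpen ι i) ⧸ Ideal.span {pullForm ι i H})))) := by
      rintro _ rfl hJ
      exact hJ
    have h2 := key (I.ideal U) (secIdeal_singleton ι H i) h1
    rw [HasRingHomProperty.Spec_iff (P := @SmoothOfRelativeDimension (n - 1)), CommRingCat.hom_ofHom] at h2
    obtain ⟨s, hspan, hst⟩ := h2
    obtain ⟨T, hTs, hT⟩ := (Ideal.span_eq_top_iff_finite s).1 hspan
    refine ⟨T, hT, fun t ht => ?_⟩
    rw [← RingHom.isStandardSmoothOfRelativeDimension_algebraMap,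
      IsScalarTower.algebraMap_eq k (Γ(X, wOpen ι i) ⧸ Ideal.span {pullForm ι i H}) (Localization.Away t)]
    exact hst t (hTs ht)
  · omega

/-- A general form cuts a transversal section transversally. -/
theorem exists_generic_base (hn : 1 ≤ n) (hd : 1 ≤ d) (H0 : LefPen.Form r k d)
    (hH0 : LefPen.Transversal k n 1 (LefPen.secToSpec ι ({H0} : Set (LefPen.Form r k d)))) :
    ∃ g : MvPolynomial (Expo r d) k, g ≠ 0 ∧ ∀ G : LefPen.Form r k d,
      MvPolynomial.eval (fun e => coeffL e G) g ≠ 0 → ∀ i ev, ¬ BadBase ι i ev H0 G := by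
  classical
  have hloc : ∀ i : Fin (r + 1), ∃ g : MvPolynomial (Expo r d) k, g ≠ 0 ∧ ∀ G : LefPen.Form r k d,
      MvPolynomial.eval (fun e => coeffL e G) g ≠ 0 → ∀ ev, ¬ BadBase ι i ev H0 G := by
    intro i
    let C := Γ(X, wOpen ι i) ⧸ Ideal.span {pullForm ι i H0}
    obtain ⟨T, hT, hTs⟩ := exists_std_cover (n := n) ι hn H0 hH0 i
    obtain ⟨-, hft⟩ := wOpen_smooth (n := n) ι i
    haveI := hft
    let e0 : Expo r d := ⟨Finsupp.single i d, Finsupp.degree_single i d⟩
    let N := Fintype.card {e : Expo r d // e ≠ e0}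
    let σ : Fin (N + 1) ≃ Expo r d :=
      (finSuccEquiv N).trans ((Equiv.optionCongr (Fintype.equivFin {e : Expo r d // e ≠ e0}).symm).trans
        (Equiv.optionSubtypeNe e0))
    have hσ0 : σ 0 = e0 := by
      show Equiv.optionSubtypeNe e0 ((Equiv.optionCongr (Fintype.equivFin {e : Expo r d // e ≠ e0}).symm) (finSuccEquiv N 0)) = e0
      rw [finSuccEquiv_zero, Equiv.optionCongr_apply, Option.map_none, Equiv.optionSubtypeNe_none]
    let q : Γ(X, wOpen ι i) →ₐ[k] C := Ideal.Quotient.mkₐ k _
    let x : Fin N → C := fun j => q (pullPoly ι i (MvPolynomial.monomial (σ j.succ).1 1))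
    have hx : Function.Surjective (MvPolynomial.aeval x : MvPolynomial (Fin N) k →ₐ[k] C) := by
      have hq : Function.Surjective (q.comp (pullPoly ι i)) :=
        Ideal.Quotient.mk_surjective.comp (pullPoly_surjective ι i)
      rw [← AlgHom.range_eq_top, eq_top_iff, ← (AlgHom.range_eq_top _).2 hq,
        ← Algebra.map_top, ← MvPolynomial.adjoin_range_X, AlgHom.map_adjoin, Algebra.adjoin_le_iff]
      rintro _ ⟨_, ⟨j, rfl⟩, rfl⟩
      let ej : Expo r d := ⟨Finsupp.single j 1 + Finsupp.single i (d - 1), by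
        rw [map_add, Finsupp.degree_single, Finsupp.degree_single]; omega⟩
      have hj : pullPoly ι i (MvPolynomial.X j) = pullPoly ι i (MvPolynomial.monomial ej.1 1) := by
        rw [show (MvPolynomial.monomial ej.1 (1 : k)) = MvPolynomial.X j * MvPolynomial.monomial (Finsupp.single i (d - 1)) 1 by
          rw [MvPolynomial.X, MvPolynomial.monomial_mul, one_mul], map_mul, pullPoly_monomial_self, mul_one]
      rw [AlgHom.comp_apply, hj]
      obtain ⟨a, ha⟩ := σ.surjective ej
      rw [← ha]
      rcases Fin.eq_zero_or_eq_succ a with rfl | ⟨a, rfl⟩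
      · rw [hσ0, pullPoly_monomial_self, map_one]; exact one_mem _
      · exact ⟨MvPolynomial.X a, MvPolynomial.aeval_X x a⟩
    have hb : ∀ F : C, ∃ g : MvPolynomial (Fin (N + 1)) k, g ≠ 0 ∧ (F ∈ T → ∀ a : Fin (N + 1) → k,
        MvPolynomial.eval a g ≠ 0 → Nontrivial (Localization.Away F) → ∀ v : Ideal (Localization.Away F), v.IsPrime →
          algebraMap C (Localization.Away F) (algebraMap k C (a 0) + ∑ j : Fin N, algebraMap k C (a j.succ) * x j) ∈ v →
          ∃ φ : Ω[Localization.Away F⁄k] →ₗ[Localization.Away F] Localization.Away F,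
            φ (KaehlerDifferential.D k _ (algebraMap C (Localization.Away F)
              (algebraMap k C (a 0) + ∑ j : Fin N, algebraMap k C (a j.succ) * x j))) ∉ v) := by
      intro F
      by_cases hF : F ∈ T ∧ Nontrivial (Localization.Away F)
      · haveI := hTs F hF.1
        haveI := hF.2
        obtain ⟨g, hg0, hg⟩ := Groth.Agent.BertiniAff.exists_bad (n - 1) x hx F
        exact ⟨g, hg0, fun _ a ha _ => hg a ha⟩
      · exact ⟨1, one_ne_zero, fun h _ _ h' => absurd ⟨h, h'⟩ hF⟩
    choose gF hgF0 hgF using hb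
    refine ⟨MvPolynomial.rename σ (∏ F ∈ T, gF F), fun h => Finset.prod_ne_zero_iff.2 (fun F _ => hgF0 F)
      (MvPolynomial.rename_injective _ σ.injective (by rw [h, map_zero])), fun G hG ev hbad => ?_⟩
    rw [MvPolynomial.eval_rename, map_prod, Finset.prod_ne_zero_iff] at hG
    obtain ⟨hf, hg, s, t, hst, hz⟩ := hbad
    have ht : t ≠ 0 := by
      intro ht
      rw [ht, zero_smul, add_zero, Algebra.smul_def] at hz
      refine (transversal_iff (n := n) ι hn H0).1 hH0 i ev ((dblZero_mul_unit ?_).1 hz)
      rw [AlgHom.commutes]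
      exact hst.resolve_right fun h => h ht
    let evC : C →ₐ[k] k := Ideal.Quotient.liftₐ _ ev fun a ha => by
      obtain ⟨c, rfl⟩ := Ideal.mem_span_singleton'.1 ha
      rw [map_mul, hf, mul_zero]
    obtain ⟨F, hFT, hFev⟩ : ∃ F ∈ T, evC F ≠ 0 := by
      by_contra! hc
      have h1 : (1 : C) ∈ RingHom.ker evC := by
        have : Ideal.span (T : Set C) ≤ RingHom.ker evC := Ideal.span_le.2 fun x hx => hc x hx
        rw [hT] at this; exact this trivial
      rw [RingHom.mem_ker, map_one] at h1
      exact one_ne_zero h1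
    obtain ⟨evT, hevT⟩ := exists_extend evC hFev
    haveI : Nontrivial (Localization.Away F) := evT.toRingHom.domain_nontrivial
    let a : Fin (N + 1) → k := fun j => coeffL (σ j) G
    have key : algebraMap k C (a 0) + ∑ j : Fin N, algebraMap k C (a j.succ) * x j = q (pullForm ι i G) := by
      rw [pullForm_eq ι i G, show pullPoly ι i G.1 = pullPoly ι i (∑ e : Expo r d, MvPolynomial.monomial e.1 (coeffL e G))
        from congrArg _ (eq_sum_coeff G)]
      rw [map_sum, map_sum, ← σ.sum_comp, Fin.sum_univ_succ]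
      congr 1
      · rw [show MvPolynomial.monomial (σ 0).1 (coeffL (σ 0) G) = MvPolynomial.C (a 0) * MvPolynomial.monomial (σ 0).1 1 by
          rw [MvPolynomial.C_mul_monomial, mul_one], map_mul, map_mul, hσ0, pullPoly_monomial_self, map_one, mul_one,
          ← MvPolynomial.algebraMap_eq, AlgHom.commutes, AlgHom.commutes]
      · refine Finset.sum_congr rfl fun j _ => ?_
        rw [show MvPolynomial.monomial (σ j.succ).1 (coeffL (σ j.succ) G) = MvPolynomial.C (a j.succ) * MvPolynomial.monomial (σ j.succ).1 1 by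
          rw [MvPolynomial.C_mul_monomial, mul_one], map_mul, map_mul, ← MvPolynomial.algebraMap_eq, AlgHom.commutes,
          AlgHom.commutes]
    have hevq : ∀ y, evC (q y) = ev y := fun y => Ideal.Quotient.lift_mk _ _ _
    have hzC : DblZero evC (q (pullForm ι i G)) := fun φ hφ => by
      have h1 := hz (φ.comp q) (AlgHom.ext fun y => (DFunLike.congr_fun hφ (q y)).trans (hevq y))
      rw [map_add, map_smul, map_smul, AlgHom.comp_apply, AlgHom.comp_apply,
        show q (pullForm ι i H0) = 0 from Ideal.Quotient.eq_zero_iff_mem.2 (Ideal.mem_span_singleton_self _),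
        map_zero, smul_zero, zero_add] at h1
      exact (smul_eq_zero.1 h1).resolve_left ht
    have hzT : DblZero evT (algebraMap C (Localization.Away F) (q (pullForm ι i G))) :=
      (dblZero_localization F evT _).2 (by rw [hevT]; exact hzC)
    obtain ⟨φ, hφ⟩ := hgF F hFT a (hG F hFT) inferInstance (RingHom.ker evT) (RingHom.ker_isPrime evT) (by
      rw [key, RingHom.mem_ker]; exact hzT.eval_eq_zero)
    rw [key] at hφ
    refine hφ (hzT.deriv_eq_zero (fun y => evT (φ (KaehlerDifferential.D k _ y))) (fun y z => ?_) (fun y z => ?_)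
      fun c => ?_)
    · rw [map_add, map_add, map_add]
    · rw [Derivation.leibniz, map_add, map_add, LinearMap.map_smul φ, LinearMap.map_smul φ, smul_eq_mul, smul_eq_mul,
        map_mul, map_mul]
    · rw [Derivation.map_algebraMap, map_zero, map_zero]
  choose g hg0 hg using hloc
  refine ⟨∏ i, g i, Finset.prod_ne_zero_iff.2 fun i _ => hg0 i, fun G hG i => ?_⟩
  rw [map_prod, Finset.prod_ne_zero_iff] at hG
  exact hg i G (hG i (Finset.mem_univ i))

end

end Groth.Agent.LefPenLib
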