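import Mathlib.RingTheory.IntegralClosure.IsIntegralClosure.Basic
import Mathlib.RingTheory.MvPolynomial.Homogeneous
import Mathlib.Algebra.Polynomial.Div
import Mathlib.FieldTheory.IsAlgClosed.Basic

/-!
# Projecting an irreducible cone from a point outside it
-/

universe u

open MvPolynomial

namespace Groth.Agent.LefPenLib

noncomputable section

variable {k : Type u} [Field k] {E : Type} [Fintype E]

/-- `p` has degree at most `m`, with coefficient `c` in degree `m`. -/
def HasTop {A : Type u} [CommRing A] (p : Polynomial A) (m : ℕ) (c : A) : Prop :=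
  p.natDegree ≤ m ∧ p.coeff m = c

theorem HasTop.mul {A : Type u} [CommRing A] {p q : Polynomial A} {m m' : ℕ} {c c' : A} (h : HasTop p m c)
    (h' : HasTop q m' c') : HasTop (p * q) (m + m') (c * c') :=
  ⟨Polynomial.natDegree_mul_le.trans (add_le_add h.1 h'.1),
    by rw [Polynomial.coeff_mul_add_eq_of_natDegree_le h.1 h'.1, h.2, h'.2]⟩

theorem HasTop.pow {A : Type u} [CommRing A] {p : Polynomial A} {c : A} (h : HasTop p 1 c) :
    ∀ N, HasTop (p ^ N) N (c ^ N)
  | 0 => ⟨by simp, by simp⟩
  | N + 1 => by rw [pow_succ, pow_succ]; exact (HasTop.pow h N).mul h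

theorem hasTop_prod {A : Type u} [CommRing A] {ι : Type} (s : Finset ι) (f : ι → Polynomial A) (N : ι → ℕ) (c : ι → A)
    (h : ∀ e, HasTop (f e) (N e) (c e)) : HasTop (∏ e ∈ s, f e) (∑ e ∈ s, N e) (∏ e ∈ s, c e) := by
  classical
  induction s using Finset.induction_on with
  | empty => exact ⟨by simp, by simp⟩
  | insert e t he ih => rw [Finset.prod_insert he, Finset.sum_insert he, Finset.prod_insert he]; exact (h e).mul ih

/-- A polynomial invariant in the direction `a0`, not vanishing on the irreducible cone `Z` missing `a0`,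
and vanishing where `D` does. -/
theorem exists_invariant [Infinite k] (Z : Set (E → k)) (hcone : ∀ a ∈ Z, ∀ t : k, t ≠ 0 → t • a ∈ Z)
    (hne : Z.Nonempty)
    (hirr : ∀ p q : MvPolynomial E k, (∀ a ∈ Z, eval a p * eval a q = 0) →
      (∀ a ∈ Z, eval a p = 0) ∨ (∀ a ∈ Z, eval a q = 0))
    (a0 : E → k) (ha0 : a0 ≠ 0) (f : MvPolynomial E k) (hf0 : eval a0 f ≠ 0) (hf : ∀ a ∈ Z, eval a f = 0)
    (D : MvPolynomial E k) (a1 : E → k) (ha1 : a1 ∈ Z) (hD : eval a1 D ≠ 0) :
    ∃ s : MvPolynomial E k, s ≠ 0 ∧ (∀ a ∈ Z, eval a D = 0 → eval a s = 0) ∧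
      ∀ (a : E → k) (t : k), eval (a + t • a0) s = eval a s := by
  classical
  -- a homogeneous polynomial
  obtain ⟨m, hP0⟩ : ∃ m, eval a0 (homogeneousComponent m f) ≠ 0 := by
    by_contra! hc
    refine hf0 ?_
    rw [← sum_homogeneousComponent f, map_sum]
    exact Finset.sum_eq_zero fun i _ => hc i
  let P := homogeneousComponent m f
  have hPZ : ∀ a ∈ Z, eval a P = 0 := by
    intro a ha
    let q : Polynomial k := ∑ i ∈ Finset.range (f.totalDegree + 1), Polynomial.monomial i (eval a (homogeneousComponent i f))
    have hq : ∀ t : k, q.eval t = eval (t • a) f := fun t => by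
      conv_rhs => rw [← sum_homogeneousComponent f]
      rw [map_sum, Polynomial.eval_finsetSum]
      refine Finset.sum_congr rfl fun i _ => ?_
      rw [Polynomial.eval_monomial]
      have hh := homogeneousComponent_isHomogeneous i f
      rw [eval_eq (t • a), eval_eq a, Finset.sum_mul]
      refine Finset.sum_congr rfl fun μ hμ => ?_
      have hdeg := hh (mem_support_iff.1 hμ)
      rw [Finsupp.weight_apply] at hdeg
      simp only [Pi.smul_apply, smul_eq_mul, mul_pow, Finset.prod_mul_distrib, Finset.prod_pow_eq_pow_sum]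
      rw [show ∑ e ∈ μ.support, μ e = i by simpa [Finsupp.sum] using hdeg]
      ring
    have hq0 : q = 0 := Polynomial.eq_zero_of_infinite_isRoot q ((Set.finite_singleton (0 : k)).infinite_compl.mono
      fun t (ht : t ≠ 0) => by rw [Set.mem_ofPred_eq, Polynomial.IsRoot, hq, hf _ (hcone a ha t ht)])
    have := congrArg (fun p => Polynomial.coeff p m) hq0
    simp only [q, Polynomial.finsetSum_coeff, Polynomial.coeff_monomial, Polynomial.coeff_zero] at this
    rw [Finset.sum_ite_eq' ] at this
    split_ifs at this with hm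
    · exact this
    · simp [P, homogeneousComponent_eq_zero m f (by simp at hm; omega)]
  obtain ⟨e0, he0⟩ : ∃ e, a0 e ≠ 0 := Function.ne_iff.1 ha0
  let c : E → k := fun e => a0 e / a0 e0
  let lam : E → MvPolynomial E k := fun e => X e - C (c e) * X e0
  let I : Ideal (MvPolynomial E k) :=
    { carrier := {g | ∀ a ∈ Z, eval a g = 0}
      zero_mem' := fun a _ => map_zero _
      add_mem' := fun {p q} hp hq a ha => by rw [map_add, hp a ha, hq a ha, add_zero]
      smul_mem' := fun p {q} hq a ha => by rw [smul_eq_mul, map_mul, hq a ha, mul_zero] }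
  have hI : I.IsPrime := by
    refine Ideal.isPrime_iff.2 ⟨fun h => ?_, fun {p q} hpq => hirr p q fun a ha => ?_⟩
    · obtain ⟨a, ha⟩ := hne
      have h1 : (1 : MvPolynomial E k) ∈ I := h ▸ trivial
      exact one_ne_zero ((map_one (eval a)).symm.trans (h1 a ha))
    · rw [← map_mul]; exact hpq a ha
  haveI := hI
  let mk := Ideal.Quotient.mkₐ k I
  let φ : MvPolynomial E k →ₐ[k] MvPolynomial E k ⧸ I := mk.comp (aeval lam)
  have hint : ∀ y, φ.toRingHom.IsIntegralElem y := by
    letI := φ.toRingHom.toAlgebra
    have hx : IsIntegral (MvPolynomial E k) (mk (X e0)) := by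
      let Q : Polynomial (MvPolynomial E k) := aeval
        (fun e => Polynomial.C (X e) + Polynomial.C (C (c e)) * Polynomial.X) P
      have hlin : ∀ e, HasTop (Polynomial.C (X e : MvPolynomial E k) + Polynomial.C (C (c e)) * Polynomial.X) 1 (C (c e)) :=
        fun e => ⟨(Polynomial.natDegree_add_le _ _).trans (max_le (by rw [Polynomial.natDegree_C]; exact Nat.zero_le _)
          ((Polynomial.natDegree_C_mul_le _ _).trans Polynomial.natDegree_X_le)), by simp [Polynomial.coeff_C]⟩
      have htop : HasTop Q m (C (eval c P)) := by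
        have hP : P.IsHomogeneous m := homogeneousComponent_isHomogeneous m f
        refine ⟨?_, ?_⟩
        · rw [show Q = ∑ μ ∈ P.support, algebraMap k (Polynomial (MvPolynomial E k)) (P.coeff μ) *
            ∏ e, (Polynomial.C (X e) + Polynomial.C (C (c e)) * Polynomial.X) ^ μ e from eval₂_eq' _ _ _]
          refine Polynomial.natDegree_sum_le_of_forall_le _ _ fun μ hμ => ?_
          refine Polynomial.natDegree_mul_le.trans ?_
          have h := hasTop_prod Finset.univ _ μ (fun e => C (c e) ^ μ e) fun e =>
            HasTop.pow (hlin e) (μ e)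
          rw [show (∑ e, μ e) = m by
            have := hP (mem_support_iff.1 hμ); rw [Finsupp.weight_apply] at this
            rw [← this, Finsupp.sum_fintype _ _ (by simp)]; simp] at h
          simpa using h.1
        · rw [show Q = ∑ μ ∈ P.support, algebraMap k (Polynomial (MvPolynomial E k)) (P.coeff μ) *
            ∏ e, (Polynomial.C (X e) + Polynomial.C (C (c e)) * Polynomial.X) ^ μ e from eval₂_eq' _ _ _,
            Polynomial.finsetSum_coeff, eval_eq', map_sum]
          refine Finset.sum_congr rfl fun μ hμ => ?_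
          have h := hasTop_prod Finset.univ _ μ (fun e => C (c e) ^ μ e) fun e =>
            HasTop.pow (hlin e) (μ e)
          rw [show (∑ e, μ e) = m by
            have := hP (mem_support_iff.1 hμ); rw [Finsupp.weight_apply] at this
            rw [← this, Finsupp.sum_fintype _ _ (by simp)]; simp] at h
          rw [Polynomial.algebraMap_apply, Polynomial.coeff_C_mul, h.2, map_mul, map_prod]
          simp [MvPolynomial.algebraMap_eq]
      have hc : eval c P ≠ 0 := by
        have hh := homogeneousComponent_isHomogeneous m f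
        have : eval a0 P = a0 e0 ^ m * eval c P := by
          rw [eval_eq a0, eval_eq c, Finset.mul_sum]
          refine Finset.sum_congr rfl fun μ hμ => ?_
          have hdeg := hh (mem_support_iff.1 hμ)
          rw [Finsupp.weight_apply] at hdeg
          simp only [c, div_pow, Finset.prod_div_distrib, Finset.prod_pow_eq_pow_sum]
          rw [show ∑ e ∈ μ.support, μ e = m by simpa [Finsupp.sum] using hdeg]
          field_simp
        intro h; exact hP0 (by rw [show homogeneousComponent m f = P from rfl, this, h, mul_zero])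
      refine ⟨Polynomial.C (C (eval c P)⁻¹) * Q, Polynomial.monic_of_natDegree_le_of_coeff_eq_one m
        ((Polynomial.natDegree_C_mul_le _ _).trans htop.1) (by rw [Polynomial.coeff_C_mul, htop.2, ← C_mul, inv_mul_cancel₀ hc, C_1]), ?_⟩
      rw [Polynomial.eval₂_mul]
      refine mul_eq_zero_of_right _ ?_
      let ev : Polynomial (MvPolynomial E k) →ₐ[k] MvPolynomial E k ⧸ I :=
        { Polynomial.eval₂RingHom φ.toRingHom (mk (X e0)) with
          commutes' := fun a => by simp [Polynomial.algebraMap_apply] }
      show ev Q = 0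
      have : ev.comp (aeval fun e => Polynomial.C (X e) + Polynomial.C (C (c e)) * Polynomial.X) = mk :=
        algHom_ext fun e => by
          show Polynomial.eval₂ φ.toRingHom (mk (X e0)) (aeval (R := k) _ (X e)) = mk (X e)
          rw [aeval_X]
          simp only [Polynomial.eval₂_add, Polynomial.eval₂_mul, Polynomial.eval₂_C, Polynomial.eval₂_X]
          show mk (aeval lam (X e)) + mk (aeval lam (C (c e))) * mk (X e0) = _
          rw [aeval_X, aeval_C, algebraMap_eq, ← map_mul, ← map_add, sub_add_cancel]
      rw [show ev Q = mk P from DFunLike.congr_fun this P]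
      exact Ideal.Quotient.eq_zero_iff_mem.2 hPZ
    intro y
    obtain ⟨p, rfl⟩ := Ideal.Quotient.mk_surjective y
    show IsIntegral (MvPolynomial E k) (mk p)
    induction p using MvPolynomial.induction_on with
    | C a =>
      rw [show mk (C a) = algebraMap (MvPolynomial E k) _ (C a) by
        show mk (C a) = mk (aeval lam (C a))
        rw [aeval_C, algebraMap_eq]]
      exact isIntegral_algebraMap
    | add p q hp hq => rw [map_add]; exact hp.add hq
    | mul_X p e hp =>
      rw [map_mul, show X e = lam e + C (c e) * X e0 from (sub_add_cancel _ _).symm, map_add, map_mul mk (C (c e))]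
      refine hp.mul (IsIntegral.add ?_ (IsIntegral.mul ?_ hx))
      · rw [show mk (lam e) = algebraMap (MvPolynomial E k) _ (X e) by
          show _ = mk (aeval lam (X e))
          rw [aeval_X]]
        exact isIntegral_algebraMap
      · rw [show mk (C (c e)) = algebraMap (MvPolynomial E k) _ (C (c e)) by
          show _ = mk (aeval lam (C (c e)))
          rw [aeval_C, algebraMap_eq]]
        exact isIntegral_algebraMap
  obtain ⟨q, hqm, hqy⟩ := hint (mk D)
  have hD0 : mk D ≠ 0 := fun h => hD (Ideal.Quotient.eq_zero_iff_mem.1 h a1 ha1)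
  have hq0 : q.map φ.toRingHom ≠ 0 := (hqm.map _).ne_zero
  obtain ⟨w, hw, hndvd⟩ := Polynomial.exists_eq_pow_rootMultiplicity_mul_and_not_dvd _ hq0 0
  set M := Polynomial.rootMultiplicity 0 (q.map φ.toRingHom)
  rw [map_zero, sub_zero] at hw hndvd
  rw [Polynomial.X_dvd_iff] at hndvd
  have hwy : w.eval (mk D) = 0 := by
    have h := congrArg (Polynomial.eval (mk D)) hw
    rw [Polynomial.eval_map, hqy, Polynomial.eval_mul, Polynomial.eval_pow, Polynomial.eval_X] at h
    exact (mul_eq_zero.1 h.symm).resolve_left (pow_ne_zero _ hD0)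
  have hcoef : φ (q.coeff M) = w.coeff 0 := by
    have h := congrArg (fun p => Polynomial.coeff p M) hw
    have h2 := Polynomial.coeff_X_pow_mul w M 0
    rw [zero_add] at h2
    rw [Polynomial.coeff_map] at h
    exact h.trans h2
  have hmem : mk D ∣ w.coeff 0 := by
    have h := congrArg (Polynomial.eval (mk D)) (Polynomial.X_mul_divX_add w)
    rw [hwy, Polynomial.eval_add, Polynomial.eval_mul, Polynomial.eval_X, Polynomial.eval_C] at h
    exact ⟨-Polynomial.eval (mk D) w.divX, by linear_combination h⟩
  obtain ⟨g, hg⟩ := hmem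
  obtain ⟨g, rfl⟩ := Ideal.Quotient.mk_surjective g
  refine ⟨aeval lam (q.coeff M), fun h => hndvd ?_, fun a ha hDa => ?_, fun a t => ?_⟩
  · rw [← hcoef]
    show mk (aeval lam (q.coeff M)) = 0
    rw [h, map_zero]
  · have h1 : aeval lam (q.coeff M) - D * g ∈ I := Ideal.Quotient.eq.1 (hcoef.trans hg)
    have h2 := h1 a ha
    rw [map_sub, map_mul, hDa, zero_mul, sub_zero] at h2
    exact h2
  · have h : ∀ a' : E → k, eval a' (aeval lam (q.coeff M)) = eval (fun e => eval a' (lam e)) (q.coeff M) := fun a' => by
      induction q.coeff M using MvPolynomial.induction_on with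
      | C a => simp
      | add p p' hp hp' => simp [hp, hp']
      | mul_X p e hp => simp [hp]
    rw [h, h]
    refine congrArg (fun v => eval v (q.coeff M)) (funext fun e => ?_)
    simp only [lam, c, map_sub, map_mul, eval_X, eval_C, Pi.add_apply, Pi.smul_apply, smul_eq_mul]
    field_simp
    ring

end

end Groth.Agent.LefPenLib
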