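import Groth.Agent.LefPenLib.Param

/-!
# Irreducibility of the dual variety
-/

set_option backward.isDefEq.respectTransparency false
set_option backward.isDefEq.respectTransparency.types false
set_option linter.unusedSectionVars false
set_option linter.style.haveILetI false

universe u

open CategoryTheory AlgebraicGeometry TopologicalSpace

namespace Groth.Agent.LefPenLib

noncomputable section

variable {r : ℕ} {k : Type u} [Field k] {X : Scheme.{u}} (ι : X ⟶ CohB1.ProjSpace r k) {d : ℕ}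

attribute [local instance] wAlgebra

theorem exists_eval_of_isPolyFun {f : LefPen.Form r k d → k} (hf : LefPen.IsPolyFun k f) :
    ∃ g : MvPolynomial (Expo r d) k, ∀ H, f H = MvPolynomial.eval (fun e => coeffL e H) g := by
  induction hf using Algebra.adjoin_induction with
  | mem f hf =>
    obtain ⟨l, rfl⟩ := hf
    let m : Expo r d → LefPen.Form r k d := fun e => ⟨MvPolynomial.monomial e.1 1, monomial_mem e 1⟩
    refine ⟨∑ e, MvPolynomial.C (l (m e)) * MvPolynomial.X e, fun H => ?_⟩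
    have h : H = ∑ e, coeffL e H • m e := by
      refine Subtype.ext ?_
      rw [AddSubmonoidClass.coe_finsetSum]
      conv_lhs => rw [eq_sum_coeff H]
      refine Finset.sum_congr rfl fun e _ => ?_
      rw [Submodule.coe_smul_of_tower, MvPolynomial.smul_monomial, smul_eq_mul, mul_one]
    conv_lhs => rw [h]
    show l (∑ e, coeffL e H • m e) = _
    rw [map_sum, map_sum]
    exact Finset.sum_congr rfl fun e _ => by simp [mul_comm]
  | algebraMap c => exact ⟨MvPolynomial.C c, fun H => by simp⟩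
  | add f f' _ _ hf hf' =>
    obtain ⟨g, hg⟩ := hf
    obtain ⟨g', hg'⟩ := hf'
    exact ⟨g + g', fun H => by simp [hg H, hg' H]⟩
  | mul f f' _ _ hf hf' =>
    obtain ⟨g, hg⟩ := hf
    obtain ⟨g', hg'⟩ := hf'
    exact ⟨g * g', fun H => by simp [hg H, hg' H]⟩

variable {n : ℕ} [hsmo : SmoothOfRelativeDimension n (ι ≫ CohB1.ProjSpace.toSpec r k)]

include hsmo in
/-- A polynomial vanishing on a neighbourhood in the tangency locus vanishes on all of it. -/
theorem dichotomy [IsAlgClosed k] [IsClosedImmersion ι] [IrreducibleSpace X] (hn : 1 ≤ n) (hd : 1 ≤ d)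
    (f g : LefPen.Form r k d → k) (hf : LefPen.IsPolyFun k f) (hg : LefPen.IsPolyFun k g)
    (hfg : ∀ H : LefPen.Form r k d,
      ¬ LefPen.Transversal k n 1 (LefPen.secToSpec ι ({H} : Set (LefPen.Form r k d))) → f H * g H = 0) :
    (∀ H : LefPen.Form r k d,
        ¬ LefPen.Transversal k n 1 (LefPen.secToSpec ι ({H} : Set (LefPen.Form r k d))) → f H = 0) ∨
      (∀ H : LefPen.Form r k d,
        ¬ LefPen.Transversal k n 1 (LefPen.secToSpec ι ({H} : Set (LefPen.Form r k d))) → g H = 0) := by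
  obtain ⟨pf, hpf⟩ := exists_eval_of_isPolyFun hf
  obtain ⟨pg, hpg⟩ := exists_eval_of_isPolyFun hg
  obtain ⟨x⟩ : Nonempty X := inferInstance
  obtain ⟨i0, hx⟩ : ∃ i0, x ∈ wOpen ι i0 := by
    have hy : ι x ∈ (⨆ i, LefPen.chart r k i : (CohB1.ProjSpace r k).Opens) := by rw [iSup_chart]; trivial
    obtain ⟨i0, h0⟩ := Opens.mem_iSup.1 hy
    exact ⟨i0, h0⟩
  let A0 := Γ(X, wOpen ι i0)
  haveI : Smooth (ι ≫ CohB1.ProjSpace.toSpec r k) := SmoothOfRelativeDimension.smooth n _
  haveI : AlgebraicGeometry.IsReduced X :=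
    GrpSchLib.isReduced_of_smooth_field (ι ≫ CohB1.ProjSpace.toSpec r k)
  haveI : IsIntegral X := isIntegral_of_irreducibleSpace_of_isReduced X
  haveI hA0 : IsDomain A0 := @IsIntegral.component_integral X _ _ ⟨⟨x, hx⟩⟩
  obtain ⟨hsm0, hft0⟩ := wOpen_smooth (n := n) ι i0
  obtain ⟨-, hdim0, -, -⟩ := wOpen_domain (n := n) ι i0 inferInstance
  haveI := hft0
  haveI : (⊥ : Ideal A0).IsPrime := Ideal.isPrime_bot
  obtain ⟨F0, hF0, hn0, hs0⟩ := exists_chart_at n hdim0 hsm0 (⊥ : Ideal A0)
  have hF0' : F0 ≠ 0 := fun h => hF0 (h ▸ Submodule.zero_mem _)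
  obtain ⟨R, _, _, θ, hθ1, hθ2⟩ := exists_param (n := n) (d := d) ι hd i0 F0
  have hmul : θ (pf * pg) = 0 := hθ2 _ 1 one_ne_zero fun ev H _ _ hb => by
    rw [map_mul, ← hpf, ← hpg]
    exact hfg H fun ht => (transversal_iff ι hn H).1 ht i0 ev hb
  rw [map_mul] at hmul
  -- propagate the vanishing from one chart
  have spread : ∀ p, θ p = 0 → ∀ H : LefPen.Form r k d,
      ¬ LefPen.Transversal k n 1 (LefPen.secToSpec ι ({H} : Set (LefPen.Form r k d))) →
      MvPolynomial.eval (fun e => coeffL e H) p = 0 := by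
    intro p hp H hH
    have step1 : ∀ ev (H : LefPen.Form r k d), Bad ι i0 ev H → MvPolynomial.eval (fun e => coeffL e H) p = 0 := by
      intro ev H hb
      haveI : (RingHom.ker ev).IsPrime := RingHom.ker_isPrime ev
      obtain ⟨F, hF, hn', hs'⟩ := exists_chart_at n hdim0 hsm0 (RingHom.ker ev)
      obtain ⟨R', _, _, θ', h1, h2⟩ := exists_param (n := n) (d := d) ι hd i0 F
      exact h1 p (h2 p F0 hF0' fun ev' H' _ hG hb' => hθ1 p hp ev' H' hG hb') ev H hF hb
    obtain ⟨j, ev, hb⟩ : ∃ j ev, Bad ι j ev H := by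
      by_contra! hc
      exact hH ((transversal_iff ι hn H).2 hc)
    let y : Γ(X, wOpen ι j) := pullPoly ι j (MvPolynomial.X i0)
    have hne : Nontrivial Γ(X, wOpen ι j) := ev.toRingHom.domain_nontrivial
    obtain ⟨hsm, hft⟩ := wOpen_smooth (n := n) ι j
    obtain ⟨-, hdim, -, hjne⟩ := wOpen_domain (n := n) ι j hne
    haveI := hft
    have hy : y ≠ 0 := by
      intro h0
      obtain ⟨z, hz1, hz2⟩ := nonempty_preirreducible_inter (wOpen ι j).2 (wOpen ι i0).2 hjne ⟨x, hx⟩
      have hyeq : y = ι.app (LefPen.chart r k j)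
          ((Proj.awayToSection (CohB1.polyGrading r k) (MvPolynomial.X j)).hom (ZetaLib.coord r k j i0)) := by
        show ι.app _ ((Proj.awayToSection _ _).hom (ZetaLib.dehom r k j (MvPolynomial.X i0))) = _
        rw [ZetaLib.dehom, MvPolynomial.eval₂Hom_X']
      have hb' : X.basicOpen y = ι ⁻¹ᵁ (LefPen.chart r k j ⊓ LefPen.chart r k i0) := by
        rw [hyeq, ← Scheme.preimage_basicOpen, basicOpen_coord]
      have hz : z ∈ X.basicOpen y := by rw [hb']; exact ⟨hz1, hz2⟩
      rw [h0, Scheme.basicOpen_zero] at hz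
      exact hz
    haveI : (RingHom.ker ev).IsPrime := RingHom.ker_isPrime ev
    obtain ⟨F, hF, hn', hs'⟩ := exists_chart_at n hdim hsm (RingHom.ker ev)
    obtain ⟨R', _, _, θ', h1, h2⟩ := exists_param (n := n) (d := d) ι hd j F
    refine h1 p (h2 p y hy fun ev' H' _ hG hb' => ?_) ev H hF hb
    obtain ⟨evi, hrel⟩ := exists_change_point ι i0 j ev' hG
    exact step1 evi H' ((bad_change_iff ι hG hrel H').2 hb')
  rcases mul_eq_zero.1 hmul with h | h
  · exact Or.inl fun H hH => (hpf H).trans (spread pf h H hH)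
  · exact Or.inr fun H hH => (hpg H).trans (spread pg h H hH)

end

end Groth.Agent.LefPenLib
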