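import Groth.Agent.LefPenLib.Tangent
import Groth.Agent.BertiniAff.Chart
import Mathlib.RingTheory.KrullDimension.NonZeroDivisors
import Mathlib.AlgebraicGeometry.Morphisms.Smooth

/-!
# Transversality at a point
-/

open CategoryTheory AlgebraicGeometry

universe u

namespace Groth.Agent.LefPenLib

noncomputable section

variable {k : Type u} [Field k]

/-- Over an algebraically closed field every proper ideal has a rational zero. -/
theorem exists_point [IsAlgClosed k] {B : Type u} [CommRing B] [Algebra k B] [Algebra.FiniteType k B]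
    (I : Ideal B) (hI : I ≠ ⊤) : ∃ ev : B →ₐ[k] k, ∀ x ∈ I, ev x = 0 := by
  obtain ⟨m, hm, hIm⟩ := I.exists_le_maximal hI
  letI := Ideal.Quotient.field m
  haveI : Module.Finite k (B ⧸ m) := finite_of_finite_type_of_isJacobsonRing k (B ⧸ m)
  haveI : Algebra.IsIntegral k (B ⧸ m) := Algebra.IsIntegral.of_finite k (B ⧸ m)
  have hb : Function.Bijective (Algebra.ofId k (B ⧸ m)) := IsAlgClosed.algebraMap_bijective_of_isIntegral
  refine ⟨(AlgEquiv.ofBijective (Algebra.ofId k (B ⧸ m)) hb).symm.toAlgHom.comp (Ideal.Quotient.mkₐ k m),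
    fun x hx => ?_⟩
  show (AlgEquiv.ofBijective (Algebra.ofId k (B ⧸ m)) hb).symm (Ideal.Quotient.mk m x) = 0
  rw [Ideal.Quotient.eq_zero_iff_mem.2 (hIm hx), map_zero]

/-- An element killed by all rational points of a reduced algebra is zero. -/
theorem eq_zero_of_forall_point [IsAlgClosed k] {B : Type u} [CommRing B] [IsDomain B] [Algebra k B]
    [Algebra.FiniteType k B] {x : B} (h : ∀ ev : B →ₐ[k] k, ev x = 0) : x = 0 := by
  by_contra hx
  haveI : Algebra.FiniteType k (Localization.Away x) :=
    Algebra.FiniteType.trans (S := B) inferInstance inferInstance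
  haveI : Nontrivial (Localization.Away x) :=
    (IsLocalization.injective (Localization.Away x) (powers_le_nonZeroDivisors_of_noZeroDivisors hx)).nontrivial
  obtain ⟨ev, -⟩ := exists_point (k := k) (⊥ : Ideal (Localization.Away x)) bot_ne_top
  exact ((IsLocalization.Away.algebraMap_isUnit (S := Localization.Away x) x).map ev).ne_zero
    (h (ev.comp (IsScalarTower.toAlgHom k B (Localization.Away x))))

/-- A point of a nowhere singular algebra lies in a standard smooth chart. -/
theorem exists_chart_at {A : Type u} [CommRing A] [Algebra k A] [Algebra.FiniteType k A] (r : ℕ)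
    (hdim : ∀ P ∈ minimalPrimes A, ringKrullDim (A ⧸ P) = r) (hsm : Algebra.Smooth k A)
    (p : Ideal A) [p.IsPrime] :
    ∃ F : A, F ∉ p ∧ Nontrivial (Localization.Away F) ∧
      Algebra.IsStandardSmoothOfRelativeDimension r k (Localization.Away F) := by
  refine BertiniAff.exists_standard_chart r hdim p 1 ((Ideal.ne_top_iff_one p).1 (Ideal.IsPrime.ne_top ‹_›)) ?_
  haveI : Algebra.Smooth A (Localization.Away (1 : A)) := Algebra.Smooth.of_isLocalization_Away (1 : A)
  exact RingHom.smooth_algebraMap.2 (Algebra.Smooth.comp k A (Localization.Away (1 : A)))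

/-- The rational point of a chart through a given point. -/
theorem exists_extend {A : Type u} [CommRing A] [Algebra k A] {F : A} (ev : A →ₐ[k] k) (hF : ev F ≠ 0) :
    ∃ evB : Localization.Away F →ₐ[k] k, evB.comp (IsScalarTower.toAlgHom k A (Localization.Away F)) = ev := by
  have hunit : ∀ y : Submonoid.powers F, IsUnit (ev y) := by
    rintro ⟨_, m, rfl⟩
    rw [map_pow]; exact (isUnit_iff_ne_zero.2 hF).pow m
  refine ⟨IsLocalization.liftAlgHom (M := Submonoid.powers F) hunit, AlgHom.ext fun a => ?_⟩
  show IsLocalization.liftAlgHom (M := Submonoid.powers F) hunit (algebraMap A _ a) = ev a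
  simp [IsLocalization.liftAlgHom_apply]

variable [IsAlgClosed k]

/-- Near a prime without double zeros above it the zero locus is smooth of one dimension less. -/
theorem smoothRelDim_of_not_dblZero_at {A : Type u} [CommRing A] [Algebra k A] [Algebra.FiniteType k A] (r : ℕ)
    (hdim : ∀ P ∈ minimalPrimes A, ringKrullDim (A ⧸ P) = r) (hsm : Algebra.Smooth k A) (h : A)
    (q : Ideal (A ⧸ Ideal.span {h})) (hq : q.IsPrime)
    (hno : ∀ ev : A →ₐ[k] k, (∀ x ∈ q.comap (Ideal.Quotient.mk _), ev x = 0) → ¬ DblZero ev h) :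
    ∃ f : A ⧸ Ideal.span {h}, f ∉ q ∧ SmoothOfRelativeDimension (r - 1)
      (Spec.map (CommRingCat.ofHom (algebraMap k (Localization.Away f)))) := by
  let p : Ideal A := q.comap (Ideal.Quotient.mk _)
  haveI : p.IsPrime := Ideal.comap_isPrime _ q
  obtain ⟨F₀, hFp, hn₀, hs₀⟩ := exists_chart_at r hdim hsm p
  let F : {x : A // x ∉ p} := ⟨F₀, hFp⟩
  haveI : Nontrivial (Localization.Away F.1) := hn₀
  haveI : Algebra.IsStandardSmoothOfRelativeDimension r k (Localization.Away F.1) := hs₀
  have hdisj : Disjoint (Submonoid.powers F.1 : Set A) p :=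
    (Ideal.disjoint_powers_iff_notMem F.1 (Ideal.IsPrime.isRadical (I := p) inferInstance)).2 hFp
  let v : Ideal (Localization.Away F.1) := p.map (algebraMap A _)
  haveI hv : v.IsPrime :=
    IsLocalization.isPrime_of_isPrime_disjoint (Submonoid.powers F.1) _ p inferInstance hdisj
  have hvc : v.comap (algebraMap A _) = p :=
    IsLocalization.comap_map_of_isPrime_disjoint (Submonoid.powers F.1) _ inferInstance hdisj
  have hhp : h ∈ p := by
    show Ideal.Quotient.mk _ h ∈ q
    rw [Ideal.Quotient.eq_zero_iff_mem.2 (Ideal.mem_span_singleton_self h)]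
    exact q.zero_mem
  obtain ⟨φ, hφ⟩ : ∃ φ : Ω[Localization.Away F.1⁄k] →ₗ[Localization.Away F.1] Localization.Away F.1,
      φ (KaehlerDifferential.D k _ (algebraMap A (Localization.Away F.1) h)) ∉ v := by
    haveI : Algebra.IsStandardSmooth k (Localization.Away F.1) :=
      Algebra.IsStandardSmoothOfRelativeDimension.isStandardSmooth r
    haveI : Algebra.FiniteType k (Localization.Away F.1) :=
      Algebra.FiniteType.trans (S := A) inferInstance inferInstance
    let b : Module.Basis (Fin r) (Localization.Away F.1) Ω[Localization.Away F.1⁄k] :=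
      Module.finBasisOfFinrankEq _ _ (BertiniAff.finrank_kaehler r)
    obtain ⟨ev, hev⟩ := exists_point (k := k) v hv.ne_top
    by_contra! hall
    refine hno _ (fun x hx => hev _ (Ideal.mem_map_of_mem _ hx)) ((dblZero_localization F.1 ev h).1 ((dblZero_iff b ev _).2 ⟨hev _ (Ideal.mem_map_of_mem _ hhp),
      fun l => hev _ ?_⟩))
    exact hall (b.coord l)
  let u := φ (KaehlerDifferential.D k _ (algebraMap A (Localization.Away F.1) h))
  let B' := Localization.Away u
  obtain ⟨F', hF', hF'loc⟩ := Groth.Agent.BertiniAff.exists_isLocalizationAway F.1 u B' p v hvc hφ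
  haveI : Algebra.FormallyEtale (Localization.Away F.1) B' :=
    Algebra.FormallyEtale.of_isLocalization (Submonoid.powers u)
  let φ₀ : Ω[B'⁄k] →ₗ[B'] B' :=
    (KaehlerDifferential.isBaseChange_of_formallyEtale k (Localization.Away F.1) B').lift
      ((Algebra.linearMap (Localization.Away F.1) B').comp φ)
  let iu := (IsLocalization.Away.algebraMap_isUnit (S := B') u).unit
  have hφ₀ : φ₀ (KaehlerDifferential.D k B' (algebraMap A B' h)) = algebraMap _ B' u := by
    have e := IsBaseChange.lift_eq (KaehlerDifferential.isBaseChange_of_formallyEtale k (Localization.Away F.1) B')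
      ((Algebra.linearMap (Localization.Away F.1) B').comp φ)
      (KaehlerDifferential.D k _ (algebraMap A (Localization.Away F.1) h))
    rw [KaehlerDifferential.map_D, ← IsScalarTower.algebraMap_apply A (Localization.Away F.1) B'] at e
    exact e
  haveI : Algebra.IsStandardSmoothOfRelativeDimension 0 (Localization.Away F.1) B' :=
    Algebra.IsStandardSmoothOfRelativeDimension.localization_away u
  haveI : Algebra.IsStandardSmoothOfRelativeDimension r k B' := by
    have := Algebra.IsStandardSmoothOfRelativeDimension.trans (n := r) (m := 0) k (Localization.Away F.1) B'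
    rwa [zero_add] at this
  have hone : ((↑iu⁻¹ : B') • φ₀) (KaehlerDifferential.D k B' (algebraMap A B' h)) = 1 := by
    rw [LinearMap.smul_apply, hφ₀, smul_eq_mul]
    exact iu.inv_mul
  let I : Ideal A := Ideal.span {h}
  have hI : I.map (algebraMap A B') = Ideal.span {algebraMap A B' h} := by
    rw [Ideal.map_span, Set.image_singleton]
  haveI : IsLocalization (Submonoid.powers (Ideal.Quotient.mk I F')) (B' ⧸ I.map (algebraMap A B')) := by
    have := (inferInstance : IsLocalization (Algebra.algebraMapSubmonoid (A ⧸ I) (Submonoid.powers F')) (B' ⧸ I.map (algebraMap A B')))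
    rwa [Algebra.algebraMapSubmonoid_powers] at this
  haveI : IsLocalization.Away (Ideal.Quotient.mk I F') (B' ⧸ I.map (algebraMap A B')) := ‹IsLocalization (Submonoid.powers _) (B' ⧸ I.map (algebraMap A B'))›
  have hF'q : Ideal.Quotient.mk I F' ∉ q := hF'
  have hdisj' : Disjoint (Submonoid.powers (Ideal.Quotient.mk I F') : Set (A ⧸ I)) q :=
    (Ideal.disjoint_powers_iff_notMem _ hq.isRadical).2 hF'q
  let jC : (A ⧸ I) →+* (B' ⧸ I.map (algebraMap A B')) := algebraMap _ _
  let P : Ideal (B' ⧸ I.map (algebraMap A B')) := Ideal.map jC q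
  haveI : P.IsPrime := IsLocalization.isPrime_of_isPrime_disjoint
    (Submonoid.powers (Ideal.Quotient.mk I F')) (B' ⧸ I.map (algebraMap A B')) q hq hdisj'
  have hPc : P.comap (algebraMap (A ⧸ I) (B' ⧸ I.map (algebraMap A B'))) = q :=
    IsLocalization.comap_map_of_isPrime_disjoint (Submonoid.powers (Ideal.Quotient.mk I F')) (B' ⧸ I.map (algebraMap A B')) hq hdisj'
  have hch : ∀ (J : Ideal B') (_ : J = Ideal.span {algebraMap A B' h}) (Q : Ideal (B' ⧸ J)), Q.IsPrime →
      1 ≤ r ∧ ∃ t : B' ⧸ J, t ∉ Q ∧
        Algebra.IsStandardSmoothOfRelativeDimension (r - 1) k (Localization.Away t) := by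
    rintro _ rfl Q hQ
    exact Groth.Agent.BertiniAff.exists_chart r _ _ hone Q
  obtain ⟨-, t, htP, hts⟩ := hch _ hI P ‹_›
  obtain ⟨f', hf', hf'loc⟩ := Groth.Agent.BertiniAff.exists_isLocalizationAway
    (Ideal.Quotient.mk I F') t (Localization.Away t) q P hPc htP
  refine ⟨f', hf', ?_⟩
  haveI := hts
  haveI := hf'loc
  haveI : IsScalarTower k (A ⧸ I) (Localization.Away t) := IsScalarTower.of_algebraMap_eq fun c => by
    refine (IsScalarTower.algebraMap_apply k (B' ⧸ I.map (algebraMap A B')) (Localization.Away t) c).trans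
      (Eq.trans ?_ (IsScalarTower.algebraMap_apply (A ⧸ I) (B' ⧸ I.map (algebraMap A B')) (Localization.Away t)
        (algebraMap k (A ⧸ I) c)).symm)
    refine congrArg _ ?_
    show Ideal.Quotient.mk _ (algebraMap k B' c) = Ideal.Quotient.mk _ (algebraMap A B' (algebraMap k A c))
    rw [← IsScalarTower.algebraMap_apply k A B']
  let e : Localization.Away t ≃ₐ[k] Localization.Away f' :=
    (IsLocalization.algEquiv (Submonoid.powers f') (Localization.Away t) (Localization.Away f')).restrictScalars k
  have h3 := Algebra.IsStandardSmoothOfRelativeDimension.of_algEquiv (n := r - 1) e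
  rw [HasRingHomProperty.Spec_iff (P := @SmoothOfRelativeDimension (r - 1)), CommRingCat.hom_ofHom]
  exact RingHom.locally_of RingHom.isStandardSmoothOfRelativeDimension_respectsIso _
    ((RingHom.isStandardSmoothOfRelativeDimension_algebraMap _).2 h3)


/-- Where `h` has no double zero its zero locus is smooth of one dimension less. -/
theorem smoothRelDim_of_forall_not_dblZero {A : Type u} [CommRing A] [Algebra k A] [Algebra.FiniteType k A] (r : ℕ)
    (hdim : ∀ P ∈ minimalPrimes A, ringKrullDim (A ⧸ P) = r) (hsm : Algebra.Smooth k A) (h : A)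
    (hno : ∀ ev : A →ₐ[k] k, ¬ DblZero ev h) (q : Ideal (A ⧸ Ideal.span {h})) (hq : q.IsPrime) :
    ∃ f : A ⧸ Ideal.span {h}, f ∉ q ∧ SmoothOfRelativeDimension (r - 1)
      (Spec.map (CommRingCat.ofHom (algebraMap k (Localization.Away f)))) :=
  smoothRelDim_of_not_dblZero_at r hdim hsm h q hq fun ev _ => hno ev

/-- A quotient by an element with a double zero has no standard smooth neighbourhood of smaller dimension. -/
theorem false_of_standardSmooth_of_dblZero {A : Type u} [CommRing A] [Algebra k A] [Algebra.FiniteType k A] (r : ℕ)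
    (hdim : ∀ P ∈ minimalPrimes A, ringKrullDim (A ⧸ P) = r) (hsm : Algebra.Smooth k A) (h : A)
    (ev : A →ₐ[k] k) (hz : DblZero ev h) (evC : (A ⧸ Ideal.span {h}) →ₐ[k] k)
    (hevC : evC.comp (Ideal.Quotient.mkₐ k _) = ev) (t : A ⧸ Ideal.span {h}) (htP : evC t ≠ 0) (d : ℕ) (hd : d < r)
    (hT : Algebra.IsStandardSmoothOfRelativeDimension d k (Localization.Away t)) : False := by
  let C := A ⧸ Ideal.span {h}
  let T := Localization.Away t
  obtain ⟨evT, hevT⟩ := exists_extend evC htP
  haveI : Nontrivial T := evT.toRingHom.domain_nontrivial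
  let bT : Module.Basis (Fin d) T Ω[T⁄k] := by
    haveI : Algebra.IsStandardSmooth k T := Algebra.IsStandardSmoothOfRelativeDimension.isStandardSmooth d
    exact Module.finBasisOfFinrankEq _ _ (BertiniAff.finrank_kaehler d)
  haveI : (RingHom.ker ev).IsPrime := RingHom.ker_isPrime ev
  obtain ⟨F, hF, hn, hsF⟩ := exists_chart_at r hdim hsm (RingHom.ker ev)
  obtain ⟨evB, hevB⟩ := exists_extend ev hF
  let B := Localization.Away F
  haveI : Algebra.IsStandardSmooth k B := Algebra.IsStandardSmoothOfRelativeDimension.isStandardSmooth r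
  let b : Module.Basis (Fin r) B Ω[B⁄k] := Module.finBasisOfFinrankEq B _ (BertiniAff.finrank_kaehler r)
  let φA : Fin r → (A →ₐ[k] DualNumber k) := fun l => (tangentHom b evB l).comp (IsScalarTower.toAlgHom k A B)
  have hφA : ∀ l, (TrivSqZeroExt.fstHom k k k).comp (φA l) = ev := fun l => by
    rw [← AlgHom.comp_assoc, fst_tangentHom, hevB]
  let φC : Fin r → (C →ₐ[k] DualNumber k) := fun l => Ideal.Quotient.liftₐ (Ideal.span {h}) (φA l) fun a ha => by
    obtain ⟨c, rfl⟩ := Ideal.mem_span_singleton'.1 ha
    rw [map_mul, hz _ (hφA l), mul_zero]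
  have hφC : ∀ l, (TrivSqZeroExt.fstHom k k k).comp (φC l) = evC := fun l =>
    Ideal.Quotient.algHom_ext k (AlgHom.ext fun a => (DFunLike.congr_fun (hφA l) a).trans (DFunLike.congr_fun hevC a).symm)
  have hu : ∀ (l : Fin r) (y : Submonoid.powers t), IsUnit (φC l y) := by
    rintro l ⟨_, m, rfl⟩
    rw [map_pow]; exact (isUnit_of_fst (hφC l) htP).pow m
  let ψ : Fin r → (T →ₐ[k] DualNumber k) := fun l => IsLocalization.liftAlgHom (M := Submonoid.powers t) (hu l)
  have hψC : ∀ l c, ψ l (algebraMap C T c) = φC l c := fun l c => by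
    show IsLocalization.liftAlgHom (M := Submonoid.powers t) (hu l) (algebraMap C T c) = _
    rw [IsLocalization.liftAlgHom_apply]
    exact IsLocalization.lift_eq _ c
  have hψ : ∀ l, (TrivSqZeroExt.fstHom k k k).comp (ψ l) = evT := fun l =>
    IsLocalization.algHom_ext (Submonoid.powers t) (AlgHom.ext fun c =>
      (congrArg TrivSqZeroExt.fst (hψC l c)).trans
        ((DFunLike.congr_fun (hφC l) c).trans (DFunLike.congr_fun hevT c).symm))
  choose L hL hLD using fun l => exists_lift evT (ψ l) (hψ l)
  have hdep : ¬ LinearIndependent k (fun l : Fin r => (fun m => L l (bT m) : Fin d → k)) := fun hli => by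
    have := hli.fintype_card_le_finrank
    rw [Fintype.card_fin, Module.finrank_fin_fun] at this
    omega
  obtain ⟨c, hc, l₀, hl₀⟩ := Fintype.not_linearIndependent_iff.1 hdep
  have hA : ∀ a : A, ∑ l, c l * evB (b.repr (KaehlerDifferential.D k B (algebraMap A B a)) l) = 0 := by
    intro a
    let x : T := algebraMap C T (Ideal.Quotient.mk _ a)
    have hl : ∀ l, evB (b.repr (KaehlerDifferential.D k B (algebraMap A B a)) l) =
        L l (KaehlerDifferential.D k T x) := fun l => by
      rw [hLD, hψC, ← snd_tangentHom]; rfl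
    simp only [hl]
    rw [← bT.sum_repr (KaehlerDifferential.D k T x)]
    simp only [map_sum, hL, Finset.mul_sum]
    rw [Finset.sum_comm]
    refine Finset.sum_eq_zero fun m _ => ?_
    have h3 := congrFun hc m
    rw [Finset.sum_apply] at h3
    simp only [Pi.smul_apply, smul_eq_mul, Pi.zero_apply] at h3
    rw [show ∑ l, c l * (evT (bT.repr (KaehlerDifferential.D k T x) m) * L l (bT m)) =
      evT (bT.repr (KaehlerDifferential.D k T x) m) * ∑ l, c l * L l (bT m) by
        rw [Finset.mul_sum]; exact Finset.sum_congr rfl fun l _ => by ring, h3, mul_zero]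
  have hspan' : ∀ w : Ω[B⁄k], ∑ l, c l * evB (b.repr w l) = 0 := by
    intro w
    have hw : w ∈ Submodule.span B (Set.range (KaehlerDifferential.map k k A B ∘ KaehlerDifferential.D k A)) := by
      rw [KaehlerDifferential.span_range_map_derivation_of_isLocalization (R := k) (S := A) (T := B) (Submonoid.powers F)]
      trivial
    induction hw using Submodule.span_induction with
    | mem w hw =>
      obtain ⟨a, rfl⟩ := hw
      rw [Function.comp_apply, KaehlerDifferential.map_D]
      exact hA a
    | zero => simp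
    | add x y _ _ hx hy => simp [map_add, mul_add, Finset.sum_add_distrib, hx, hy]
    | smul s x _ hx => simp [mul_left_comm _ (evB s), ← Finset.mul_sum, hx]
  refine hl₀ ?_
  have h4 := hspan' (b l₀)
  rw [Finset.sum_eq_single l₀ (fun l _ hl => by
    rw [b.repr_self, Finsupp.single_eq_of_ne hl, map_zero, mul_zero]) (fun hh => absurd (Finset.mem_univ l₀) hh),
    b.repr_self, Finsupp.single_eq_same, map_one, mul_one] at h4
  exact h4

/-- The zero locus of `h` is not smooth of one dimension less at a double zero. -/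
theorem not_smoothRelDim_of_dblZero {A : Type u} [CommRing A] [Algebra k A] [Algebra.FiniteType k A] (r : ℕ) (hr : 1 ≤ r)
    (hdim : ∀ P ∈ minimalPrimes A, ringKrullDim (A ⧸ P) = r) (hsm : Algebra.Smooth k A) (h : A)
    (ev : A →ₐ[k] k) (hz : DblZero ev h) :
    ¬ SmoothOfRelativeDimension (r - 1) (Spec.map (CommRingCat.ofHom (algebraMap k (A ⧸ Ideal.span {h})))) := by
  intro hs
  rw [HasRingHomProperty.Spec_iff (P := @SmoothOfRelativeDimension (r - 1)), CommRingCat.hom_ofHom] at hs
  obtain ⟨s, hspan, hst⟩ := hs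
  let C := A ⧸ Ideal.span {h}
  let evC : C →ₐ[k] k := Ideal.Quotient.liftₐ (Ideal.span {h}) ev fun a ha => by
    obtain ⟨c, rfl⟩ := Ideal.mem_span_singleton'.1 ha
    rw [map_mul, hz.eval_eq_zero, mul_zero]
  obtain ⟨t, hts, htP⟩ : ∃ t ∈ s, evC t ≠ 0 := by
    by_contra! hc
    have h1 : (1 : C) ∈ RingHom.ker evC := by
      have : Ideal.span s ≤ RingHom.ker evC := Ideal.span_le.2 fun x hx => hc x hx
      rw [hspan] at this; exact this trivial
    rw [RingHom.mem_ker, map_one] at h1
    exact one_ne_zero h1
  have hT : Algebra.IsStandardSmoothOfRelativeDimension (r - 1) k (Localization.Away t) := by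
    rw [← RingHom.isStandardSmoothOfRelativeDimension_algebraMap, IsScalarTower.algebraMap_eq k C (Localization.Away t)]
    exact hst t hts
  exact false_of_standardSmooth_of_dblZero r hdim hsm h ev hz evC (Ideal.Quotient.liftₐ_comp _ _ _) t htP (r - 1)
    (by omega) hT

/-- The zero locus of a nonzero function is not smooth at a double zero. -/
theorem not_smooth_of_dblZero {A : Type u} [CommRing A] [IsDomain A] [Algebra k A] [Algebra.FiniteType k A] (r : ℕ)
    (hA : ringKrullDim A = r) (hsm : Algebra.Smooth k A) (h : A) (h0 : h ≠ 0)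
    (ev : A →ₐ[k] k) (hz : DblZero ev h) (evC : (A ⧸ Ideal.span {h}) →ₐ[k] k)
    (hevC : evC.comp (Ideal.Quotient.mkₐ k _) = ev) (f : A ⧸ Ideal.span {h}) (hf : evC f ≠ 0)
    (hs : Algebra.Smooth k (Localization.Away f)) : False := by
  have hdim : ∀ P ∈ minimalPrimes A, ringKrullDim (A ⧸ P) = r := fun P hP => by
    rw [IsDomain.minimalPrimes_eq_singleton_bot, Set.mem_singleton_iff] at hP
    subst hP
    rw [ringKrullDim_eq_of_ringEquiv (RingEquiv.quotientBot _), hA]
  let C := A ⧸ Ideal.span {h}
  obtain ⟨evS, hevS⟩ := exists_extend evC hf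
  obtain ⟨s, hspan, hst⟩ := RingHom.Smooth.locally_isStandardSmooth
    (f := algebraMap k (Localization.Away f)) (RingHom.smooth_algebraMap.2 hs)
  obtain ⟨t', hts, htP⟩ : ∃ t ∈ s, evS t ≠ 0 := by
    by_contra! hc
    have h1 : (1 : Localization.Away f) ∈ RingHom.ker evS := by
      have : Ideal.span s ≤ RingHom.ker evS := Ideal.span_le.2 fun x hx => hc x hx
      rw [hspan] at this; exact this trivial
    rw [RingHom.mem_ker, map_one] at h1
    exact one_ne_zero h1
  have hG : Algebra.IsStandardSmooth k (Localization.Away t') := by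
    rw [← RingHom.isStandardSmooth_algebraMap, IsScalarTower.algebraMap_eq k (Localization.Away f) (Localization.Away t')]
    exact hst t' hts
  haveI : (RingHom.ker evS).IsPrime := RingHom.ker_isPrime evS
  haveI : (RingHom.ker evC).IsPrime := RingHom.ker_isPrime evC
  have hP : (RingHom.ker evS).comap (algebraMap C (Localization.Away f)) = RingHom.ker evC := by
    ext c
    rw [Ideal.mem_comap, RingHom.mem_ker, RingHom.mem_ker, ← hevS]
    rfl
  obtain ⟨F, hF, hFloc⟩ := BertiniAff.exists_isLocalizationAway f t' (Localization.Away t') (RingHom.ker evC)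
    (RingHom.ker evS) hP htP
  let e : Localization.Away t' ≃ₐ[k] Localization.Away F :=
    (IsLocalization.algEquiv (Submonoid.powers F) (Localization.Away t') (Localization.Away F)).restrictScalars k
  obtain ⟨ι', σ', _, _, ⟨Q⟩⟩ := hG.out
  haveI : Algebra.IsStandardSmoothOfRelativeDimension Q.dimension k (Localization.Away t') :=
    Q.isStandardSmoothOfRelativeDimension rfl
  haveI hT := Algebra.IsStandardSmoothOfRelativeDimension.of_algEquiv (n := Q.dimension) e
  obtain ⟨evF, -⟩ := exists_extend evC hF
  haveI : Nontrivial (Localization.Away F) := evF.toRingHom.domain_nontrivial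
  have h1 := SmoothDim.ringKrullDim_eq k (Localization.Away F) Q.dimension
  have h2 : ringKrullDim (Localization.Away F) ≤ ringKrullDim C :=
    Order.krullDim_le_of_strictMono (PrimeSpectrum.comap (algebraMap C (Localization.Away F)))
      (Monotone.strictMono_of_injective (fun _ _ h => Ideal.comap_mono h)
        (PrimeSpectrum.localization_comap_injective (Localization.Away F) (Submonoid.powers F)))
  have h3 : ringKrullDim C + 1 ≤ ringKrullDim A :=
    ringKrullDim_quotient_succ_le_of_nonZeroDivisor (mem_nonZeroDivisors_of_ne_zero h0)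
  rw [hA] at h3
  rw [h1] at h2
  have h4 : ((Q.dimension : ℕ) : WithBot ℕ∞) + 1 ≤ (r : WithBot ℕ∞) := (add_le_add_left h2 1).trans h3
  have h5 : Q.dimension < r := by exact_mod_cast h4
  exact false_of_standardSmooth_of_dblZero r hdim hsm h ev hz evC hevC F hF Q.dimension h5 hT

end

end Groth.Agent.LefPenLib
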