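import Groth.Agent.LefPenLib.MultiQuot
import Groth.Agent.LefPenLib.Smooth

/-!
# Common zero loci of two functions
-/

set_option backward.isDefEq.respectTransparency false
set_option backward.isDefEq.respectTransparency.types false
set_option linter.style.haveILetI false

universe u

open MvPolynomial

namespace Groth.Agent.LefPenLib

noncomputable section

variable {k : Type u} [Field k] [IsAlgClosed k]

/-- Near a prime where two functions have independent differentials their common zero locus is smooth of codimension
two. -/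
theorem exists_chart_two {A : Type u} [CommRing A] [Algebra k A] [Algebra.FiniteType k A] (r : ℕ)
    (hdim : ∀ P ∈ minimalPrimes A, ringKrullDim (A ⧸ P) = r) (hsm : Algebra.Smooth k A) (f g : A)
    (q : Ideal (A ⧸ Ideal.span ({f, g} : Set A))) [q.IsPrime]
    (hno : ∀ ev : A →ₐ[k] k, (∀ x ∈ q.comap (Ideal.Quotient.mk _), ev x = 0) →
      ∀ s t : k, DblZero ev (s • f + t • g) → s = 0 ∧ t = 0) :
    2 ≤ r ∧ ∃ F : A ⧸ Ideal.span ({f, g} : Set A), F ∉ q ∧
      Algebra.IsStandardSmoothOfRelativeDimension (r - 2) k (Localization.Away F) := by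
  classical
  let I : Ideal A := Ideal.span ({f, g} : Set A)
  let p : Ideal A := q.comap (Ideal.Quotient.mk I)
  haveI : p.IsPrime := Ideal.comap_isPrime _ q
  have hfg : f ∈ p ∧ g ∈ p := by
    constructor <;>
    · show Ideal.Quotient.mk I _ ∈ q
      rw [Ideal.Quotient.eq_zero_iff_mem.2 (Ideal.subset_span (by simp))]
      exact q.zero_mem
  obtain ⟨F₀, hF₀, hn₀, hs₀⟩ := exists_chart_at r hdim hsm p
  haveI := hn₀
  haveI := hs₀
  obtain ⟨ι', σ', hι, hσ, P, hP⟩ := hs₀.out
  have hdisj : Disjoint (Submonoid.powers F₀ : Set A) p :=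
    (Ideal.disjoint_powers_iff_notMem F₀ (Ideal.IsPrime.isRadical (I := p) inferInstance)).2 hF₀
  let v : Ideal (Localization.Away F₀) := p.map (algebraMap A _)
  haveI hv : v.IsPrime :=
    IsLocalization.isPrime_of_isPrime_disjoint (Submonoid.powers F₀) _ p inferInstance hdisj
  haveI : Algebra.FiniteType k (Localization.Away F₀) :=
    Algebra.FiniteType.trans (S := A) inferInstance inferInstance
  obtain ⟨evB, hevB⟩ := exists_point (k := k) v hv.ne_top
  let ev : A →ₐ[k] k := evB.comp (IsScalarTower.toAlgHom k A (Localization.Away F₀))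
  have hev : ∀ x ∈ p, ev x = 0 := fun x hx => hevB _ (Ideal.mem_map_of_mem _ hx)
  -- a finite presentation
  let N := Nat.card ι'
  let c := Nat.card σ'
  let e := Finite.equivFin ι'
  let e' := Finite.equivFin σ'
  let x : Fin N → Localization.Away F₀ := fun i => P.val (e.symm i)
  have hxπ : ∀ p : MvPolynomial ι' k, aeval x (rename e p) = aeval P.val p := fun p => by
    rw [aeval_rename]; congr 2; funext i; simp [x]
  let rel : Fin c → MvPolynomial (Fin N) k := fun a => rename e (P.relation (e'.symm a))
  have hx : Function.Surjective (aeval x : MvPolynomial (Fin N) k →ₐ[k] Localization.Away F₀) := fun y => by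
    obtain ⟨p, rfl⟩ := P.aeval_val_surjective y
    exact ⟨rename e p, hxπ p⟩
  have hrel : ∀ a, aeval x (rel a) = 0 := fun a => by
    rw [hxπ]
    have h := P.relation_mem_ker (e'.symm a)
    rw [Algebra.Generators.ker_eq_ker_aeval_val] at h
    exact h
  obtain ⟨fp, hfp⟩ := hx (algebraMap A _ f)
  obtain ⟨gp, hgp⟩ := hx (algebraMap A _ g)
  let F' : Fin c ⊕ Fin 2 → MvPolynomial (Fin N) k := Sum.elim rel ![fp, gp]
  let pt : Fin N → k := fun i => evB (x i)
  -- independence of the gradients
  have hrelli : ∀ lam : Fin c → k, (∀ i, ∑ a, lam a * eval pt (pderiv i (rel a)) = 0) → lam = 0 := by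
    intro lam hl
    haveI : Fintype σ' := Fintype.ofFinite σ'
    have hu := P.jacobian_isUnit.map evB
    rw [Algebra.PreSubmersivePresentation.jacobian_eq_jacobiMatrix_det, P.algebraMap_eq] at hu
    let M : Matrix σ' σ' k := P.jacobiMatrix.map fun q => evB (aeval P.val q)
    have hM : IsUnit M.det := by
      rw [show M = (evB.comp (aeval P.val)).toRingHom.mapMatrix P.jacobiMatrix from rfl, ← RingHom.map_det]
      exact hu
    have h0 : M.mulVec (fun s => lam (e' s)) = 0 := by
      funext i
      show ∑ s, M i s * lam (e' s) = 0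
      rw [← hl (e (P.map i))]
      rw [← e'.sum_comp]
      refine Finset.sum_congr rfl fun s _ => ?_
      simp only [M, Matrix.map_apply, Algebra.PreSubmersivePresentation.jacobiMatrix_apply, rel,
        Equiv.symm_apply_apply]
      rw [← hxπ, hom_aeval evB x pt (fun _ => rfl), mul_comm, pderiv_rename e.injective]
    have h1 := Matrix.mulVec_injective_of_isUnit ((Matrix.isUnit_iff_isUnit_det M).2 hM)
      (h0.trans (Matrix.mulVec_zero M).symm)
    funext a
    simpa using congrFun h1 (e'.symm a)
  have hli : LinearIndependent k (Matrix.of fun (a : Fin c ⊕ Fin 2) i => eval pt (pderiv i (F' a))).row := by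
    rw [Fintype.linearIndependent_iff]
    intro lam hlam
    have hl : ∀ i, ∑ a, lam (Sum.inl a) * eval pt (pderiv i (rel a)) +
        (lam (Sum.inr 0) * eval pt (pderiv i fp) + lam (Sum.inr 1) * eval pt (pderiv i gp)) = 0 := fun i => by
      have := congrFun hlam i
      simpa [Fintype.sum_sum_type, Fin.sum_univ_two, Matrix.row, F'] using this
    set s := lam (Sum.inr 0) with hs
    set t := lam (Sum.inr 1) with ht
    have hB : DblZero evB (algebraMap A (Localization.Away F₀) (s • f + t • g)) := by
      intro φ hφ
      have hpoly : algebraMap A (Localization.Away F₀) (s • f + t • g) =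
          aeval x (∑ a, lam (Sum.inl a) • rel a + (s • fp + t • gp)) := by
        rw [show algebraMap A (Localization.Away F₀) (s • f + t • g) = s • algebraMap A _ f + t • algebraMap A _ g by
          rw [map_add]; exact congr_arg₂ (· + ·) (map_smul (IsScalarTower.toAlgHom k A _) s f)
            (map_smul (IsScalarTower.toAlgHom k A _) t g)]
        simp [hrel, hfp, hgp]
      refine TrivSqZeroExt.ext ?_ ?_
      · rw [TrivSqZeroExt.fst_zero]
        refine (DFunLike.congr_fun hφ _).trans ?_
        show ev (s • f + t • g) = 0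
        exact hev _ (p.add_mem (by rw [Algebra.smul_def]; exact p.mul_mem_left _ hfg.1)
          (by rw [Algebra.smul_def]; exact p.mul_mem_left _ hfg.2))
      · rw [TrivSqZeroExt.snd_zero, hpoly, snd_aeval_dual x evB φ hφ]
        refine Finset.sum_eq_zero fun i _ => ?_
        rw [show eval (fun i => evB (x i)) (pderiv i (∑ a, lam (Sum.inl a) • rel a + (s • fp + t • gp))) = 0 from
          Eq.trans (by simp [map_sum, pt]) (hl i), zero_mul]
    obtain ⟨hs0, ht0⟩ := hno ev hev s t ((dblZero_localization F₀ evB _).1 hB)
    have := hrelli (fun a => lam (Sum.inl a)) fun i => by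
      have := hl i
      rwa [hs0, ht0, zero_mul, zero_mul, add_zero, add_zero] at this
    rintro (a | a)
    · exact congrFun this a
    · fin_cases a
      · exact hs0
      · exact ht0
  obtain ⟨J, hJ, hdet⟩ := exists_minor_of_linearIndependent _ hli
  have hcard : c + 2 ≤ N := by simpa using Fintype.card_le_of_injective J hJ
  have hr : N - c = r := hP
  refine ⟨by omega, ?_⟩
  -- the quotient of the chart
  let IB : Ideal (Localization.Away F₀) := I.map (algebraMap A _)
  have hIB : IB = Ideal.span {algebraMap A (Localization.Away F₀) f, algebraMap A _ g} := by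
    rw [show IB = I.map (algebraMap A _) from rfl, Ideal.map_span, Set.image_pair]
  let π : MvPolynomial (Fin N) k →ₐ[k] (Localization.Away F₀ ⧸ IB) := (Ideal.Quotient.mkₐ k IB).comp (aeval x)
  have hker : RingHom.ker π = Ideal.span (Set.range F') := by
    have hkx : RingHom.ker (aeval x : MvPolynomial (Fin N) k →ₐ[k] Localization.Away F₀) = Ideal.span (Set.range rel) := by
      refine le_antisymm (fun p hp => ?_) (Ideal.span_le.2 ?_)
      · have h1 : rename e.symm p ∈ RingHom.ker (aeval P.val : MvPolynomial ι' k →ₐ[k] Localization.Away F₀) := by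
          rw [RingHom.mem_ker, aeval_rename]
          exact hp
        rw [← Algebra.Generators.ker_eq_ker_aeval_val, ← P.span_range_relation_eq_ker] at h1
        have h2 := Ideal.mem_map_of_mem (rename e : MvPolynomial ι' k →ₐ[k] MvPolynomial (Fin N) k).toRingHom h1
        rw [Ideal.map_span, ← Set.range_comp] at h2
        rw [show (rename e : MvPolynomial ι' k →ₐ[k] _).toRingHom (rename e.symm p) = p by
          show rename e (rename e.symm p) = p
          rw [rename_rename, Equiv.self_comp_symm, rename_id_apply]] at h2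
        refine Ideal.span_mono ?_ h2
        rintro _ ⟨a, rfl⟩
        exact ⟨e' a, by simp [rel]; rfl⟩
      · rintro _ ⟨a, rfl⟩
        exact hrel a
    have h1 : RingHom.ker π = Ideal.comap (aeval x : MvPolynomial (Fin N) k →ₐ[k] Localization.Away F₀) IB := by
      ext p
      show Ideal.Quotient.mk IB (aeval x p) = 0 ↔ aeval x p ∈ IB
      exact Ideal.Quotient.eq_zero_iff_mem
    rw [h1, hIB, show ({algebraMap A (Localization.Away F₀) f, algebraMap A _ g} : Set _) =
      (aeval x : MvPolynomial (Fin N) k →ₐ[k] _) '' {fp, gp} by rw [Set.image_pair, hfp, hgp],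
      ← Ideal.map_span, Ideal.comap_map_of_surjective _ hx, ← RingHom.ker_eq_comap_bot, hkx, ← Ideal.span_union]
    congr 1
    rw [show F' = Sum.elim rel ![fp, gp] from rfl, Set.Sum.elim_range, Matrix.range_cons, Matrix.range_cons,
      Matrix.range_empty, Set.union_empty, Set.singleton_union, Set.union_comm]
  let eS : (MvPolynomial (Fin N) k ⧸ Ideal.span (Set.range F')) ≃ₐ[k] (Localization.Away F₀ ⧸ IB) :=
    (Ideal.quotientEquivAlgOfEq k hker.symm).trans
      (Ideal.quotientKerAlgEquivOfSurjective (f := π) (Ideal.Quotient.mk_surjective.comp hx))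
  let u := Ideal.Quotient.mk (Ideal.span (Set.range F')) (Matrix.of fun j i => pderiv (J i) (F' j)).det
  haveI hT0 := standardSmooth_away_minor F' J hJ
  let u' : Localization.Away F₀ ⧸ IB := eS u
  have hT : Algebra.IsStandardSmoothOfRelativeDimension (r - 2) k (Localization.Away u') := by
    let eT : Localization.Away u ≃ₐ[k] Localization.Away u' :=
      IsLocalization.algEquivOfAlgEquiv (M := Submonoid.powers u) (T := Submonoid.powers u')
        (Localization.Away u) (Localization.Away u') eS (Submonoid.map_powers _ u)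
    have := Algebra.IsStandardSmoothOfRelativeDimension.of_algEquiv (n := Fintype.card (Fin N) - Fintype.card (Fin c ⊕ Fin 2)) eT
    rwa [Fintype.card_fin, Fintype.card_sum, Fintype.card_fin, Fintype.card_fin, show N - (c + 2) = r - 2 by omega] at this
  -- back to the quotient of `A`
  haveI : IsLocalization.Away (Ideal.Quotient.mk I F₀) (Localization.Away F₀ ⧸ IB) := by
    have := (inferInstance : IsLocalization (Algebra.algebraMapSubmonoid (A ⧸ I) (Submonoid.powers F₀)) (Localization.Away F₀ ⧸ IB))
    rwa [Algebra.algebraMapSubmonoid_powers] at this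
  have hF₀q : Ideal.Quotient.mk I F₀ ∉ q := hF₀
  have hdisj' : Disjoint (Submonoid.powers (Ideal.Quotient.mk I F₀) : Set (A ⧸ I)) q :=
    (Ideal.disjoint_powers_iff_notMem _ (Ideal.IsPrime.isRadical ‹q.IsPrime›)).2 hF₀q
  let Pq : Ideal (Localization.Away F₀ ⧸ IB) := Ideal.map (algebraMap (A ⧸ I) _) q
  haveI : Pq.IsPrime := IsLocalization.isPrime_of_isPrime_disjoint
    (Submonoid.powers (Ideal.Quotient.mk I F₀)) (Localization.Away F₀ ⧸ IB) q ‹_› hdisj'
  have hPc : Pq.comap (algebraMap (A ⧸ I) (Localization.Away F₀ ⧸ IB)) = q :=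
    IsLocalization.comap_map_of_isPrime_disjoint (Submonoid.powers (Ideal.Quotient.mk I F₀)) (Localization.Away F₀ ⧸ IB) ‹_› hdisj'
  have hIBle : ∀ y ∈ IB, evB y = 0 := fun y hy => hevB y (Ideal.map_mono (by
    refine Ideal.span_le.2 ?_
    rintro z (rfl | rfl)
    · exact hfg.1
    · exact hfg.2) hy)
  let evQ : (Localization.Away F₀ ⧸ IB) →ₐ[k] k := Ideal.Quotient.liftₐ IB evB hIBle
  have huP : u' ∉ Pq := by
    intro hmem
    have hle : Pq ≤ RingHom.ker evQ := by
      refine Ideal.map_le_iff_le_comap.2 fun y hy => ?_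
      obtain ⟨z, rfl⟩ := Ideal.Quotient.mk_surjective y
      show evB (algebraMap A (Localization.Away F₀) z) = 0
      exact hev z hy
    have h0 : evQ u' = 0 := hle hmem
    refine hdet ?_
    rw [← h0]
    show _ = evB (aeval x (Matrix.of fun j i => pderiv (J i) (F' j)).det)
    rw [hom_aeval evB x pt (fun _ => rfl), RingHom.map_det]
    rfl
  obtain ⟨F, hF, hFloc⟩ := Groth.Agent.BertiniAff.exists_isLocalizationAway
    (Ideal.Quotient.mk I F₀) u' (Localization.Away u') q Pq hPc huP
  refine ⟨F, hF, ?_⟩
  haveI := hT
  haveI := hFloc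
  haveI : IsScalarTower k (A ⧸ I) (Localization.Away u') := IsScalarTower.of_algebraMap_eq fun c => by
    refine (IsScalarTower.algebraMap_apply k (Localization.Away F₀ ⧸ IB) (Localization.Away u') c).trans
      (Eq.trans ?_ (IsScalarTower.algebraMap_apply (A ⧸ I) (Localization.Away F₀ ⧸ IB) (Localization.Away u')
        (algebraMap k (A ⧸ I) c)).symm)
    refine congrArg _ ?_
    show Ideal.Quotient.mk _ (algebraMap k (Localization.Away F₀) c) =
      Ideal.Quotient.mk _ (algebraMap A (Localization.Away F₀) (algebraMap k A c))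
    rw [← IsScalarTower.algebraMap_apply k A (Localization.Away F₀)]
  let eF : Localization.Away u' ≃ₐ[k] Localization.Away F :=
    (IsLocalization.algEquiv (Submonoid.powers F) (Localization.Away u') (Localization.Away F)).restrictScalars k
  exact Algebra.IsStandardSmoothOfRelativeDimension.of_algEquiv (n := r - 2) eF

end

end Groth.Agent.LefPenLib
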