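import Groth.Agent.LefPenLib.Taylor

/-!
# The quadratic cone of a double zero in terms of the Taylor expansion
-/

set_option backward.isDefEq.respectTransparency false
set_option backward.isDefEq.respectTransparency.types false

universe u

open MvPolynomial

namespace Groth.Agent.LefPenLib

noncomputable section

variable {k : Type u} [Field k] {B : Type u} [CommRing B] [Algebra k B] {m : ℕ}

/-- The data of a second order Taylor expansion with respect to a basis of differentials. -/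
structure IsTaylor (b : Module.Basis (Fin m) B Ω[B⁄k]) (τ : B → MvPolynomial (Fin m) B) : Prop where
  sub3 : ∀ (ev : B →ₐ[k] k) (u : Fin m → k), ∃ ψ : B →ₐ[k] T3 k, ∀ x, ψ x = subT3 ev u (τ x)
  subD : ∀ (ev : B →ₐ[k] k) (u w : Fin m → k), ∃ Φ : B →ₐ[k] DualNumber (DualNumber k), ∀ x, Φ x = subDual ev u w (τ x)
  part0 : ∀ (ev : B →+* k) (x : B), partAt ev 0 0 (τ x) = ev x
  part1 : ∀ (ev : B →+* k) (u : Fin m → k) (x : B),
    partAt ev 1 u (τ x) = ∑ l, ev (b.repr (KaehlerDifferential.D k B x) l) * u l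

theorem exists_isTaylor [Algebra.FormallySmooth k B] (b : Module.Basis (Fin m) B Ω[B⁄k]) :
    ∃ τ, IsTaylor b τ := by
  obtain ⟨τ, h1, h2, h3, h4⟩ := exists_taylor b
  exact ⟨τ, ⟨h1, h2, h3, h4⟩⟩

variable {b : Module.Basis (Fin m) B Ω[B⁄k]} {τ : B → MvPolynomial (Fin m) B}

theorem IsTaylor.part0' (hτ : IsTaylor b τ) (ev : B →+* k) (u : Fin m → k) (x : B) :
    partAt ev 0 u (τ x) = ev x := by
  refine Eq.trans ?_ (hτ.part0 ev x)
  simp [partAt, homogeneousComponent_zero]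

/-- A derivation at a point gives a tangent vector. -/
def homOfDeriv (ev : B →ₐ[k] k) (δ : B → k) (h1 : ∀ x y, δ (x + y) = δ x + δ y)
    (h2 : ∀ x y, δ (x * y) = ev x * δ y + ev y * δ x) (h3 : ∀ c, δ (algebraMap k B c) = 0) :
    B →ₐ[k] DualNumber k where
  toFun x := TrivSqZeroExt.inl (ev x) + TrivSqZeroExt.inr (δ x)
  map_one' := by
    have := h3 1
    rw [map_one] at this
    ext <;> simp [this]
  map_mul' x y := by ext <;> simp [h2, mul_comm, add_comm]
  map_zero' := by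
    have := h3 0
    rw [map_zero] at this
    ext <;> simp [this]
  map_add' x y := by ext <;> simp [h1]
  commutes' c := by ext <;> simp [h3, TrivSqZeroExt.algebraMap_eq_inl]

theorem DblZero.deriv_eq_zero {ev : B →ₐ[k] k} {h : B} (hz : DblZero ev h) (δ : B → k)
    (h1 : ∀ x y, δ (x + y) = δ x + δ y) (h2 : ∀ x y, δ (x * y) = ev x * δ y + ev y * δ x)
    (h3 : ∀ c, δ (algebraMap k B c) = 0) : δ h = 0 := by
  have := congrArg TrivSqZeroExt.snd (hz (homOfDeriv ev δ h1 h2 h3) (AlgHom.ext fun x => by simp [homOfDeriv]))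
  simpa [homOfDeriv] using this

theorem tangent_eq (ev : B →ₐ[k] k) (φ : B →ₐ[k] DualNumber k)
    (hφ : (TrivSqZeroExt.fstHom k k k).comp φ = ev) :
    ∃ u : Fin m → k, ∀ x, TrivSqZeroExt.snd (φ x) = ∑ l, ev (b.repr (KaehlerDifferential.D k B x) l) * u l := by
  obtain ⟨L, hL, hLD⟩ := exists_lift ev φ hφ
  refine ⟨fun l => L (b l), fun x => ?_⟩
  rw [← hLD]
  conv_lhs => rw [← b.sum_repr (KaehlerDifferential.D k B x)]
  rw [map_sum]
  exact Finset.sum_congr rfl fun l _ => hL _ _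

theorem exists_sum_ne_zero (ev : B →ₐ[k] k) {u : Fin m → k} (hu : u ≠ 0) :
    ∃ x, ∑ l, ev (b.repr (KaehlerDifferential.D k B x) l) * u l ≠ 0 := by
  by_contra! hc
  refine hu (funext fun l₀ => ?_)
  have h : ∀ w ∈ Submodule.span B (Set.range (KaehlerDifferential.D k B)), ∑ l, ev (b.repr w l) * u l = 0 := by
    intro w hw
    induction hw using Submodule.span_induction with
    | mem w hw => obtain ⟨x, rfl⟩ := hw; exact hc x
    | zero => simp
    | add x y _ _ hx hy => simp [map_add, add_mul, Finset.sum_add_distrib, hx, hy]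
    | smul s x _ hx => simp [mul_assoc, ← Finset.mul_sum, hx]
  have h0 := h (b l₀) (by rw [KaehlerDifferential.span_range_derivation]; trivial)
  rw [Finset.sum_eq_single l₀ (fun l _ hl => by
    rw [b.repr_self, Finsupp.single_eq_of_ne hl, map_zero, zero_mul]) (fun hh => absurd (Finset.mem_univ l₀) hh),
    b.repr_self, Finsupp.single_eq_same, map_one, one_mul] at h0
  exact h0

/-- The quadratic cone at a double zero is singular iff the quadratic Taylor part has a singular zero. -/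
theorem degPt_iff (hτ : IsTaylor b τ) (ev : B →ₐ[k] k) (h : B) (hz : DblZero ev h) :
    DegPt ev h ↔ ∃ u : Fin m → k, u ≠ 0 ∧ partAt ev.toRingHom 2 u (τ h) = 0 ∧
      ∀ w, polarAt ev.toRingHom u w (τ h) = 0 := by
  have h0 : ev h = 0 := hz.eval_eq_zero
  have h1 : ∀ u, partAt ev.toRingHom 1 u (τ h) = 0 := fun u => by
    rw [hτ.part1]
    exact Finset.sum_eq_zero fun l _ => by
      rw [show ev.toRingHom (b.repr (KaehlerDifferential.D k B h) l) = 0 from ((dblZero_iff b ev h).1 hz).2 l, zero_mul]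
  have key3 : ∀ (u : Fin m → k) (ψ : B →ₐ[k] T3 k), (∀ x, (ψ x).c0 = ev x) →
      (∀ x, (ψ x).c1 = ∑ l, ev (b.repr (KaehlerDifferential.D k B x) l) * u l) →
      (ψ h).c2 = partAt ev.toRingHom 2 u (τ h) := by
    intro u ψ hc0 hc1
    obtain ⟨ψ', hψ'⟩ := hτ.sub3 ev u
    have hc0' : ∀ x, (ψ' x).c0 = ev x := fun x => by rw [hψ', subT3_apply]; exact hτ.part0' _ u x
    have hc1' : ∀ x, (ψ' x).c1 = (ψ x).c1 := fun x => by rw [hψ', subT3_apply, hc1]; exact hτ.part1 _ u x
    have h2 : (ψ h).c2 - (ψ' h).c2 = 0 := hz.deriv_eq_zero (fun x => (ψ x).c2 - (ψ' x).c2)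
      (fun x y => by simp only [map_add, T3.add_c2]; ring)
      (fun x y => by simp only [map_mul, T3.mul_c2, hc0, hc0', hc1']; ring)
      (fun c => by simp)
    rw [sub_eq_zero.1 h2, hψ', subT3_apply]
  have keyD : ∀ (u w : Fin m → k) (Φ : B →ₐ[k] DualNumber (DualNumber k)), (∀ x, (Φ x).fst.fst = ev x) →
      (∀ x, (Φ x).fst.snd = ∑ l, ev (b.repr (KaehlerDifferential.D k B x) l) * u l) →
      (∀ x, (Φ x).snd.fst = ∑ l, ev (b.repr (KaehlerDifferential.D k B x) l) * w l) →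
      (Φ h).snd.snd = polarAt ev.toRingHom u w (τ h) := by
    intro u w Φ hc0 hc1 hc2
    obtain ⟨Φ', hΦ'⟩ := hτ.subD ev u w
    have hc0' : ∀ x, (Φ' x).fst.fst = ev x := fun x => by
      rw [hΦ', subDual_apply]; simpa using hτ.part0' ev.toRingHom u x
    have hc1' : ∀ x, (Φ' x).fst.snd = (Φ x).fst.snd := fun x => by
      rw [hΦ', subDual_apply, hc1]; simpa using hτ.part1 ev.toRingHom u x
    have hc2' : ∀ x, (Φ' x).snd.fst = (Φ x).snd.fst := fun x => by
      rw [hΦ', subDual_apply, hc2]; simpa using hτ.part1 ev.toRingHom w x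
    have h2 : (Φ h).snd.snd - (Φ' h).snd.snd = 0 := hz.deriv_eq_zero (fun x => (Φ x).snd.snd - (Φ' x).snd.snd)
      (fun x y => by simp only [map_add, TrivSqZeroExt.snd_add]; ring)
      (fun x y => by simp [hc0, hc0', hc1', hc2']; ring)
      (fun c => by simp [TrivSqZeroExt.algebraMap_eq_inl'])
    rw [sub_eq_zero.1 h2, hΦ', subDual_apply]
    simp
  constructor
  · rintro ⟨φ, hφ, -, ⟨a, ha⟩, ⟨ψ, hψ, hψh⟩, hall⟩
    obtain ⟨u, hu⟩ := tangent_eq (b := b) ev φ hφ
    have hfst : ∀ x, (φ x).fst = ev x := fun x => DFunLike.congr_fun hφ x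
    refine ⟨u, ?_, ?_, fun w => ?_⟩
    · rintro rfl
      exact ha (by simp [hu])
    · rw [← key3 u ψ (fun x => ?_) (fun x => ?_), hψh, T3.zero_c2]
      · rw [← hfst, ← hψ]; simp [T3.dualHom]
      · rw [← hu, ← hψ]; simp [T3.dualHom]
    · obtain ⟨ψw, hψw⟩ := hτ.sub3 ev w
      let χ := T3.dualHom.comp ψw
      have hχf : ∀ x, (χ x).fst = ev x := fun x => by
        simp [χ, T3.dualHom, hψw, subT3_apply]; exact hτ.part0' _ w x
      have hχs : ∀ x, (χ x).snd = ∑ l, ev (b.repr (KaehlerDifferential.D k B x) l) * w l := fun x => by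
        simp [χ, T3.dualHom, hψw, subT3_apply]; exact hτ.part1 _ w x
      have hχ : (TrivSqZeroExt.fstHom k k k).comp χ = ev := AlgHom.ext hχf
      obtain ⟨Φ, ⟨hP1, hP2⟩, hP3⟩ := hall χ hχ (hz χ hχ)
      rw [← keyD u w Φ (fun x => ?_) (fun x => ?_) (fun x => ?_), hP3]
      · simp
      · rw [← hfst, ← hP1]; simp [fstProj]
      · rw [← hu, ← hP1]; simp [fstProj]
      · rw [← hχs, ← hP2]; simp [sndProj]
  · rintro ⟨u, hu, hq, hw⟩
    obtain ⟨ψ, hψ⟩ := hτ.sub3 ev u
    let φ := T3.dualHom.comp ψ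
    have hφf : ∀ x, (φ x).fst = ev x := fun x => by
      simp [φ, T3.dualHom, hψ, subT3_apply]; exact hτ.part0' _ u x
    have hφs : ∀ x, (φ x).snd = ∑ l, ev (b.repr (KaehlerDifferential.D k B x) l) * u l := fun x => by
      simp [φ, T3.dualHom, hψ, subT3_apply]; exact hτ.part1 _ u x
    have hφ : (TrivSqZeroExt.fstHom k k k).comp φ = ev := AlgHom.ext hφf
    obtain ⟨a, ha⟩ := exists_sum_ne_zero (b := b) ev hu
    refine ⟨φ, hφ, hz φ hφ, ⟨a, by rw [hφs]; exact ha⟩, ⟨ψ, rfl, ?_⟩, fun χ hχ hχh => ?_⟩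
    · rw [hψ, subT3_apply]
      ext
      · exact (hτ.part0' _ u h).trans h0
      · exact h1 u
      · exact hq
    · obtain ⟨w, hw'⟩ := tangent_eq (b := b) ev χ hχ
      obtain ⟨Φ, hΦ⟩ := hτ.subD ev u w
      refine ⟨Φ, ⟨AlgHom.ext fun x => ?_, AlgHom.ext fun x => ?_⟩, ?_⟩
      · refine TrivSqZeroExt.ext ?_ ?_
        · rw [hφf]; simp [fstProj, hΦ, subDual_apply]; exact hτ.part0' _ u x
        · rw [hφs]; simp [fstProj, hΦ, subDual_apply]; exact hτ.part1 _ u x
      · refine TrivSqZeroExt.ext ?_ ?_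
        · rw [show (χ x).fst = ev x from DFunLike.congr_fun hχ x]; simp [sndProj, hΦ, subDual_apply]; exact hτ.part0' _ u x
        · rw [hw']; simp [sndProj, hΦ, subDual_apply]; exact hτ.part1 _ w x
      · rw [hΦ, subDual_apply, hτ.part0' _ u h, h1 u, h1 w, hw w, show ev.toRingHom h = 0 from h0]
        simp

end

end Groth.Agent.LefPenLib
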