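import Groth.Agent.LefPenLib.Smooth
import Groth.Agent.LefPenLib.QuadCone

/-!
# Two functions with dependent differentials
-/

set_option backward.isDefEq.respectTransparency false
set_option backward.isDefEq.respectTransparency.types false
set_option linter.style.haveILetI false

universe u

namespace Groth.Agent.LefPenLib

noncomputable section

variable {k : Type u} [Field k] [IsAlgClosed k]

/-- A quotient by two functions, a combination of which has a double zero, has no standard smooth neighbourhood
of dimension two less. -/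
theorem false_of_standardSmooth_pair {A : Type u} [CommRing A] [Algebra k A] [Algebra.FiniteType k A] (r : ℕ)
    (hdim : ∀ P ∈ minimalPrimes A, ringKrullDim (A ⧸ P) = r) (hsm : Algebra.Smooth k A) (I : Ideal A) (g : A)
    (ev : A →ₐ[k] k) (hI : ∀ φ : A →ₐ[k] DualNumber k, (TrivSqZeroExt.fstHom k k k).comp φ = ev → φ g = 0 → ∀ a ∈ I, φ a = 0)
    (hg : ev g = 0) (evC : (A ⧸ I) →ₐ[k] k)
    (hevC : evC.comp (Ideal.Quotient.mkₐ k _) = ev) (t : A ⧸ I) (htP : evC t ≠ 0) (d : ℕ) (hd : d + 1 < r)
    (hT : Algebra.IsStandardSmoothOfRelativeDimension d k (Localization.Away t)) : False := by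
  let C := A ⧸ I
  let T := Localization.Away t
  obtain ⟨evT, hevT⟩ := exists_extend evC htP
  haveI : Nontrivial T := evT.toRingHom.domain_nontrivial
  let bT : Module.Basis (Fin d) T Ω[T⁄k] := by
    haveI : Algebra.IsStandardSmooth k T := Algebra.IsStandardSmoothOfRelativeDimension.isStandardSmooth d
    exact Module.finBasisOfFinrankEq _ _ (BertiniAff.finrank_kaehler d)
  haveI : (RingHom.ker ev).IsPrime := RingHom.ker_isPrime ev
  obtain ⟨F, hF, hn, hsF⟩ := exists_chart_at r hdim hsm (RingHom.ker ev)
  obtain ⟨evB, hevB⟩ := exists_extend ev hF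
  let B := Localization.Away F
  haveI : Algebra.IsStandardSmooth k B := Algebra.IsStandardSmoothOfRelativeDimension.isStandardSmooth r
  let b : Module.Basis (Fin r) B Ω[B⁄k] := Module.finBasisOfFinrankEq B _ (BertiniAff.finrank_kaehler r)
  let gl : Fin r → k := fun l => evB (b.repr (KaehlerDifferential.D k B (algebraMap A B g)) l)
  let Φ : (Fin r → k) →ₗ[k] k := Fintype.linearCombination k gl
  let W := LinearMap.ker Φ
  have hW : r ≤ Module.finrank k W + 1 := by
    have h1 := Φ.finrank_range_add_finrank_ker
    have h2 := Submodule.finrank_le (LinearMap.range Φ)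
    rw [Module.finrank_fin_fun] at h1
    rw [Module.finrank_self] at h2
    show r ≤ Module.finrank k (LinearMap.ker Φ) + 1
    omega
  let bW := Module.finBasis k W
  let δ : Fin (Module.finrank k W) → A → k := fun q a =>
    ∑ l, (bW q).1 l * evB (b.repr (KaehlerDifferential.D k B (algebraMap A B a)) l)
  have hδ : ∀ q, ∃ φ : A →ₐ[k] DualNumber k, (TrivSqZeroExt.fstHom k k k).comp φ = ev ∧ ∀ a, (φ a).snd = δ q a := by
    intro q
    refine ⟨homOfDeriv ev (δ q) (fun x y => ?_) (fun x y => ?_) (fun c => ?_),
      AlgHom.ext fun a => by simp [homOfDeriv], fun a => by simp [homOfDeriv]⟩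
    · simp only [δ, map_add, Finsupp.add_apply, mul_add, Finset.sum_add_distrib]
    · have h1 : ∀ a, evB (algebraMap A B a) = ev a := fun a => DFunLike.congr_fun hevB a
      simp only [δ, map_mul, Derivation.leibniz, map_add, map_smul, Finsupp.add_apply, Finsupp.smul_apply, smul_eq_mul,
        h1, mul_add, Finset.sum_add_distrib, Finset.mul_sum, mul_left_comm ((bW q).1 _)]
    · simp only [δ]
      refine Finset.sum_eq_zero fun l _ => ?_
      rw [show algebraMap A B (algebraMap k A c) = algebraMap k B c from (IsScalarTower.algebraMap_apply k A B c).symm,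
        Derivation.map_algebraMap, map_zero, Finsupp.zero_apply, map_zero, mul_zero]
  choose φA hφA hsnd using hδ
  have hφg : ∀ q, φA q g = 0 := fun q => by
    refine TrivSqZeroExt.ext ?_ ?_
    · exact ((DFunLike.congr_fun (hφA q) g).trans hg).trans TrivSqZeroExt.fst_zero.symm
    · rw [hsnd, TrivSqZeroExt.snd_zero]
      have := (bW q).2
      rw [LinearMap.mem_ker, Fintype.linearCombination_apply] at this
      simpa [δ, gl] using this
  let φC : Fin (Module.finrank k W) → (C →ₐ[k] DualNumber k) := fun q => Ideal.Quotient.liftₐ I (φA q) fun a ha =>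
    hI _ (hφA q) (hφg q) a ha
  have hφC : ∀ l, (TrivSqZeroExt.fstHom k k k).comp (φC l) = evC := fun l =>
    Ideal.Quotient.algHom_ext k (AlgHom.ext fun a => (DFunLike.congr_fun (hφA l) a).trans (DFunLike.congr_fun hevC a).symm)
  have hu : ∀ (l : Fin (Module.finrank k W)) (y : Submonoid.powers t), IsUnit (φC l y) := by
    rintro l ⟨_, m, rfl⟩
    rw [map_pow]; exact (isUnit_of_fst (hφC l) htP).pow m
  let ψ : Fin (Module.finrank k W) → (T →ₐ[k] DualNumber k) := fun l => IsLocalization.liftAlgHom (M := Submonoid.powers t) (hu l)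
  have hψC : ∀ l c, ψ l (algebraMap C T c) = φC l c := fun l c => by
    show IsLocalization.liftAlgHom (M := Submonoid.powers t) (hu l) (algebraMap C T c) = _
    rw [IsLocalization.liftAlgHom_apply]
    exact IsLocalization.lift_eq _ c
  have hψ : ∀ l, (TrivSqZeroExt.fstHom k k k).comp (ψ l) = evT := fun l =>
    IsLocalization.algHom_ext (Submonoid.powers t) (AlgHom.ext fun c =>
      (congrArg TrivSqZeroExt.fst (hψC l c)).trans
        ((DFunLike.congr_fun (hφC l) c).trans (DFunLike.congr_fun hevT c).symm))
  choose L hL hLD using fun l => exists_lift evT (ψ l) (hψ l)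
  have hdep : ¬ LinearIndependent k (fun l : Fin (Module.finrank k W) => (fun m => L l (bT m) : Fin d → k)) :=
    fun hli => by
      have := hli.fintype_card_le_finrank
      rw [Fintype.card_fin, Module.finrank_fin_fun] at this
      omega
  obtain ⟨c, hc, l₀, hl₀⟩ := Fintype.not_linearIndependent_iff.1 hdep
  let cc : Fin r → k := (∑ q, c q • (bW q)).1
  have hA : ∀ a : A, ∑ l, cc l * evB (b.repr (KaehlerDifferential.D k B (algebraMap A B a)) l) = 0 := by
    intro a
    let x : T := algebraMap C T (Ideal.Quotient.mk _ a)
    have hl : ∀ q, δ q a = L q (KaehlerDifferential.D k T x) := fun q => by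
      rw [hLD, hψC, ← hsnd]; rfl
    have h0 : ∑ l, cc l * evB (b.repr (KaehlerDifferential.D k B (algebraMap A B a)) l) = ∑ q, c q * δ q a := by
      simp only [cc, δ, Submodule.coe_sum, Submodule.coe_smul, Finset.sum_apply, Pi.smul_apply, smul_eq_mul,
        Finset.sum_mul, Finset.mul_sum, mul_assoc]
      exact Finset.sum_comm
    rw [h0]
    simp only [hl]
    rw [← bT.sum_repr (KaehlerDifferential.D k T x)]
    simp only [map_sum, hL, Finset.mul_sum]
    rw [Finset.sum_comm]
    refine Finset.sum_eq_zero fun m _ => ?_
    have h3 := congrFun hc m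
    rw [Finset.sum_apply] at h3
    simp only [Pi.smul_apply, smul_eq_mul, Pi.zero_apply] at h3
    rw [show ∑ q, c q * (evT (bT.repr (KaehlerDifferential.D k T x) m) * L q (bT m)) =
      evT (bT.repr (KaehlerDifferential.D k T x) m) * ∑ q, c q * L q (bT m) by
        rw [Finset.mul_sum]; exact Finset.sum_congr rfl fun l _ => by ring, h3, mul_zero]
  have hspan' : ∀ w : Ω[B⁄k], ∑ l, cc l * evB (b.repr w l) = 0 := by
    intro w
    have hw : w ∈ Submodule.span B (Set.range (KaehlerDifferential.map k k A B ∘ KaehlerDifferential.D k A)) := by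
      rw [KaehlerDifferential.span_range_map_derivation_of_isLocalization (R := k) (S := A) (T := B) (Submonoid.powers F)]
      trivial
    induction hw using Submodule.span_induction with
    | mem w hw =>
      obtain ⟨a, rfl⟩ := hw
      rw [Function.comp_apply, KaehlerDifferential.map_D]
      exact hA a
    | zero => simp
    | add x y _ _ hx hy => simp [map_add, mul_add, Finset.sum_add_distrib, hx, hy]
    | smul s x _ hx => simp [mul_left_comm _ (evB s), ← Finset.mul_sum, hx]
  have hcc : ∑ q, c q • bW q = 0 := Subtype.ext (funext fun l => by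
    have h4 := hspan' (b l)
    rw [Finset.sum_eq_single l (fun l' _ hl => by
      rw [b.repr_self, Finsupp.single_eq_of_ne hl, map_zero, mul_zero]) (fun hh => absurd (Finset.mem_univ l) hh),
      b.repr_self, Finsupp.single_eq_same, map_one, mul_one] at h4
    exact h4)
  exact hl₀ (Fintype.linearIndependent_iff.1 bW.linearIndependent c hcc l₀)

end

end Groth.Agent.LefPenLib
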