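import Groth.Agent.LefPenLib.Ord
import Groth.Agent.LefPenLib.Two
import Groth.Agent.LefPenLib.TwoConv

/-!
# Transversal base loci
-/

set_option backward.isDefEq.respectTransparency false
set_option backward.isDefEq.respectTransparency.types false
set_option linter.unusedSectionVars false
set_option linter.style.haveILetI false

universe u

open CategoryTheory CategoryTheory.Limits AlgebraicGeometry TopologicalSpace Opposite

namespace Groth.Agent.LefPenLib

noncomputable section

variable {r : ℕ} {k : Type u} [Field k] {X : Scheme.{u}} (ι : X ⟶ CohB1.ProjSpace r k) {d : ℕ}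

attribute [local instance] wAlgebra

/-- The ideal of the intersection of two hypersurface sections. -/
theorem secIdeal_pair [IsAffineHom ι] (F G : LefPen.Form r k d) (i : Fin (r + 1)) :
    (LefPen.secIdeal ι ({F, G} : Set (LefPen.Form r k d))).ideal ⟨wOpen ι i, isAffine_wOpen ι i⟩ =
      Ideal.span {pullForm ι i F, pullForm ι i G} := by
  have h : LefPen.secIdeal ι ({F, G} : Set (LefPen.Form r k d)) =
      LefPen.secIdeal ι ({F} : Set (LefPen.Form r k d)) ⊔ LefPen.secIdeal ι ({G} : Set (LefPen.Form r k d)) := by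
    simp only [LefPen.secIdeal, iSup_pair, iSup_singleton, Scheme.IdealSheafData.comap_sup]
  rw [h, Scheme.IdealSheafData.ideal_sup, Pi.sup_apply, secIdeal_singleton, secIdeal_singleton,
    ← Ideal.span_union, Set.singleton_union]

/-- Smoothness of a base locus is checked on the charts. -/
theorem smoothRelDim_secToSpec_pair [IsAffineHom ι] (F G : LefPen.Form r k d) (m : ℕ)
    (h : ∀ i, SmoothOfRelativeDimension m (Spec.map (CommRingCat.ofHom
      (algebraMap k (Γ(X, wOpen ι i) ⧸ Ideal.span {pullForm ι i F, pullForm ι i G}))))) :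
    SmoothOfRelativeDimension m (LefPen.secToSpec ι ({F, G} : Set (LefPen.Form r k d))) := by
  let I := LefPen.secIdeal ι ({F, G} : Set (LefPen.Form r k d))
  let U : Fin (r + 1) → X.affineOpens := fun i => ⟨wOpen ι i, isAffine_wOpen ι i⟩
  let 𝒰 : I.subscheme.OpenCover :=
    Scheme.Cover.mkOfCovers (Fin (r + 1))
      (fun i => Spec (CommRingCat.of (Γ(X, U i) ⧸ I.ideal (U i)))) (fun i => I.subschemeCover.f (U i))
      (fun y => by
        have hy : ι (I.subschemeι y) ∈ (⨆ i, LefPen.chart r k i : (CohB1.ProjSpace r k).Opens) := by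
          rw [iSup_chart]; trivial
        obtain ⟨i, hi⟩ := Opens.mem_iSup.1 hy
        refine ⟨i, ?_⟩
        have h2 : y ∈ (I.subschemeCover.f (U i)).opensRange := by
          rw [Scheme.IdealSheafData.opensRange_subschemeCover_map]; exact hi
        exact h2)
      (fun i => by exact I.subschemeCover.map_prop (U i))
  refine IsZariskiLocalAtSource.of_openCover (P := @SmoothOfRelativeDimension m) 𝒰 fun i => ?_
  show SmoothOfRelativeDimension m (I.subschemeCover.f (U i) ≫ I.subschemeι ≫ ι ≫ CohB1.ProjSpace.toSpec r k)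
  rw [← Category.assoc, Scheme.IdealSheafData.subschemeCover_map_subschemeι]
  unfold Scheme.IdealSheafData.glueDataObjι
  rw [Category.assoc, Category.assoc, IsAffineOpen.isoSpec_inv_ι_assoc, fromSpec_comp, ← Spec.map_comp]
  have hI : I.ideal (U i) = Ideal.span {pullForm ι i F, pullForm ι i G} := secIdeal_pair ι F G i
  have key : ∀ J : Ideal Γ(X, wOpen ι i),
      SmoothOfRelativeDimension m (Spec.map (CommRingCat.ofHom (algebraMap k (Γ(X, wOpen ι i) ⧸ J)))) →
      SmoothOfRelativeDimension m (Spec.map (CommRingCat.ofHom (SmoothReg.affMap (ι ≫ CohB1.ProjSpace.toSpec r k)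
        (wOpen ι i)) ≫ CommRingCat.ofHom (Ideal.Quotient.mk J))) := fun J hJ => hJ
  exact key (I.ideal (U i)) (hI ▸ h i)

/-- A base point where some member of the pencil is tangent to `X`. -/
def BadBase (i : Fin (r + 1)) (ev : Γ(X, wOpen ι i) →ₐ[k] k) (F G : LefPen.Form r k d) : Prop :=
  ev (pullForm ι i F) = 0 ∧ ev (pullForm ι i G) = 0 ∧
    ∃ s t : k, (s ≠ 0 ∨ t ≠ 0) ∧ DblZero ev (s • pullForm ι i F + t • pullForm ι i G)

variable [IsAlgClosed k] [IsClosedImmersion ι] [IrreducibleSpace X] {n : ℕ}
  [hsmo : SmoothOfRelativeDimension n (ι ≫ CohB1.ProjSpace.toSpec r k)]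

include hsmo

/-- The base locus is transversal iff no member is tangent at a base point. -/
theorem transversal_pair_iff (hn : 1 ≤ n) (F G : LefPen.Form r k d) :
    LefPen.Transversal k n 2 (LefPen.secToSpec ι ({F, G} : Set (LefPen.Form r k d))) ↔
      ∀ i ev, ¬ BadBase ι i ev F G := by
  let I := LefPen.secIdeal ι ({F, G} : Set (LefPen.Form r k d))
  constructor
  · rintro htr i ev ⟨hf, hg, s, t, hst, hz⟩
    obtain ⟨hsm, hft⟩ := wOpen_smooth (n := n) ι i
    obtain ⟨-, hdim, -, -⟩ := wOpen_domain (n := n) ι i ev.toRingHom.domain_nontrivial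
    haveI := hft
    let U : X.affineOpens := ⟨wOpen ι i, isAffine_wOpen ι i⟩
    let J : Ideal Γ(X, wOpen ι i) := Ideal.span {pullForm ι i F, pullForm ι i G}
    have hJ : I.ideal U = J := secIdeal_pair ι F G i
    have hJle : ∀ a ∈ J, ev a = 0 := fun a ha => by
      have : J ≤ RingHom.ker ev := Ideal.span_le.2 (by rintro z (rfl | rfl) <;> assumption)
      exact this ha
    let evC : (Γ(X, wOpen ι i) ⧸ J) →ₐ[k] k := Ideal.Quotient.liftₐ J ev hJle
    rcases htr with ⟨h2, hs⟩ | ⟨-, hE⟩
    · have h1 : SmoothOfRelativeDimension (n - 2)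
          (I.subschemeCover.f U ≫ LefPen.secToSpec ι ({F, G} : Set (LefPen.Form r k d))) :=
        IsZariskiLocalAtSource.comp (P := @SmoothOfRelativeDimension (n - 2)) hs _
      change SmoothOfRelativeDimension (n - 2)
        (I.subschemeCover.f U ≫ I.subschemeι ≫ ι ≫ CohB1.ProjSpace.toSpec r k) at h1
      rw [← Category.assoc, Scheme.IdealSheafData.subschemeCover_map_subschemeι] at h1
      unfold Scheme.IdealSheafData.glueDataObjι at h1
      rw [Category.assoc, Category.assoc, IsAffineOpen.isoSpec_inv_ι_assoc, fromSpec_comp, ← Spec.map_comp] at h1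
      have key : ∀ J' : Ideal Γ(X, wOpen ι i), J' = J →
          SmoothOfRelativeDimension (n - 2) (Spec.map (CommRingCat.ofHom
            (SmoothReg.affMap (ι ≫ CohB1.ProjSpace.toSpec r k) (wOpen ι i)) ≫ CommRingCat.ofHom (Ideal.Quotient.mk J'))) →
          SmoothOfRelativeDimension (n - 2) (Spec.map (CommRingCat.ofHom
            (algebraMap k (Γ(X, wOpen ι i) ⧸ J)))) := by
        rintro _ rfl h
        exact h
      have hs' := key (I.ideal U) hJ h1
      rw [HasRingHomProperty.Spec_iff (P := @SmoothOfRelativeDimension (n - 2)), CommRingCat.hom_ofHom] at hs'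
      obtain ⟨S, hspan, hst'⟩ := hs'
      obtain ⟨u, huS, huP⟩ : ∃ u ∈ S, evC u ≠ 0 := by
        by_contra! hc
        have h1 : (1 : Γ(X, wOpen ι i) ⧸ J) ∈ RingHom.ker evC := by
          have : Ideal.span S ≤ RingHom.ker evC := Ideal.span_le.2 fun x hx => hc x hx
          rw [hspan] at this; exact this trivial
        rw [RingHom.mem_ker, map_one] at h1
        exact one_ne_zero h1
      have hT : Algebra.IsStandardSmoothOfRelativeDimension (n - 2) k (Localization.Away u) := by
        rw [← RingHom.isStandardSmoothOfRelativeDimension_algebraMap,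
          IsScalarTower.algebraMap_eq k (Γ(X, wOpen ι i) ⧸ J) (Localization.Away u)]
        exact hst' u huS
      have hzero : ∀ (φ : Γ(X, wOpen ι i) →ₐ[k] DualNumber k), (TrivSqZeroExt.fstHom k k k).comp φ = ev →
          s • φ (pullForm ι i F) + t • φ (pullForm ι i G) = 0 := fun φ hφ => by
        have := hz φ hφ
        rwa [map_add, map_smul, map_smul] at this
      by_cases hs0 : s = 0
      · refine false_of_standardSmooth_pair n hdim hsm J (pullForm ι i F) ev (fun φ hφ hφF a ha => ?_) hf evC
          (Ideal.Quotient.liftₐ_comp _ _ _) u huP (n - 2) (by omega) hT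
        have hG : φ (pullForm ι i G) = 0 := by
          have h := hzero φ hφ
          rw [hs0, zero_smul, zero_add] at h
          exact (smul_eq_zero.1 h).resolve_left (hst.resolve_left fun h => h hs0)
        have : J ≤ RingHom.ker φ := Ideal.span_le.2 (by rintro z (rfl | rfl) <;> assumption)
        exact this ha
      · refine false_of_standardSmooth_pair n hdim hsm J (pullForm ι i G) ev (fun φ hφ hφG a ha => ?_) hg evC
          (Ideal.Quotient.liftₐ_comp _ _ _) u huP (n - 2) (by omega) hT
        have hF : φ (pullForm ι i F) = 0 := by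
          have h := hzero φ hφ
          rw [hφG, smul_zero, add_zero] at h
          exact (smul_eq_zero.1 h).resolve_left hs0
        have : J ≤ RingHom.ker φ := Ideal.span_le.2 (by rintro z (rfl | rfl) <;> assumption)
        exact this ha
    · have hq : ∀ J' : Ideal Γ(X, wOpen ι i), J' = J → Nonempty (Spec (CommRingCat.of (Γ(X, wOpen ι i) ⧸ J'))) := by
        rintro _ rfl
        exact ⟨⟨RingHom.ker evC, RingHom.ker_isPrime evC⟩⟩
      obtain ⟨z⟩ := hq _ hJ
      exact hE.false (I.subschemeCover.f U z)
  · intro hno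
    have hchart : ∀ (i : Fin (r + 1)) (q : Ideal (Γ(X, wOpen ι i) ⧸ Ideal.span ({pullForm ι i F, pullForm ι i G} : Set Γ(X, wOpen ι i)))),
        q.IsPrime → 2 ≤ n ∧ ∃ F' ∉ q, Algebra.IsStandardSmoothOfRelativeDimension (n - 2) k (Localization.Away F') := by
      intro i q hq
      have hne : Nontrivial Γ(X, wOpen ι i) := by
        by_contra hc
        rw [not_nontrivial_iff_subsingleton] at hc
        refine hq.ne_top ((Ideal.eq_top_iff_one q).2 ?_)
        rw [show (1 : Γ(X, wOpen ι i) ⧸ Ideal.span ({pullForm ι i F, pullForm ι i G} : Set Γ(X, wOpen ι i))) = 0 by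
          rw [← map_one (Ideal.Quotient.mk _), Subsingleton.elim (1 : Γ(X, wOpen ι i)) 0, map_zero]]
        exact q.zero_mem
      obtain ⟨hsm, hft⟩ := wOpen_smooth (n := n) ι i
      obtain ⟨-, hdim, -, -⟩ := wOpen_domain (n := n) ι i hne
      haveI := hft
      refine exists_chart_two n hdim hsm _ _ q fun ev hev s t hz => ?_
      by_contra hc
      have hmem : ∀ a ∈ ({pullForm ι i F, pullForm ι i G} : Set Γ(X, wOpen ι i)), ev a = 0 := fun a ha => by
        refine hev a ?_
        rw [Ideal.mem_comap, Ideal.Quotient.eq_zero_iff_mem.2 (Ideal.subset_span ha)]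
        exact q.zero_mem
      refine hno i ev ⟨hmem _ (by simp), hmem _ (by simp), s, t, ?_, hz⟩
      by_contra h'
      push Not at h'
      exact hc h'
    by_cases h2 : 2 ≤ n
    · refine Or.inl ⟨h2, smoothRelDim_secToSpec_pair ι F G (n - 2) fun i =>
        smoothRelDim_Spec_of_forall_prime fun q hq => ?_⟩
      obtain ⟨-, F', hF', hstd⟩ := hchart i q hq
      refine ⟨F', hF', ?_⟩
      rw [HasRingHomProperty.Spec_iff (P := @SmoothOfRelativeDimension (n - 2)), CommRingCat.hom_ofHom]
      exact RingHom.locally_of RingHom.isStandardSmoothOfRelativeDimension_respectsIso _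
        ((RingHom.isStandardSmoothOfRelativeDimension_algebraMap _).2 hstd)
    · refine Or.inr ⟨by omega, ⟨fun y => ?_⟩⟩
      have hy : ι (I.subschemeι y) ∈ (⨆ i, LefPen.chart r k i : (CohB1.ProjSpace r k).Opens) := by
        rw [iSup_chart]; trivial
      obtain ⟨i, hi⟩ := Opens.mem_iSup.1 hy
      let U : X.affineOpens := ⟨wOpen ι i, isAffine_wOpen ι i⟩
      have h2' : y ∈ (I.subschemeCover.f U).opensRange := by
        rw [Scheme.IdealSheafData.opensRange_subschemeCover_map]; exact hi
      obtain ⟨z, -⟩ := h2'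
      have hq : ∀ J' : Ideal Γ(X, wOpen ι i), J' = Ideal.span ({pullForm ι i F, pullForm ι i G} : Set Γ(X, wOpen ι i)) →
          PrimeSpectrum (Γ(X, wOpen ι i) ⧸ J') → 2 ≤ n := by
        rintro _ rfl z'
        exact (hchart i _ z'.2).1
      exact h2 (hq _ (secIdeal_pair ι F G i) z)

end

end Groth.Agent.LefPenLib
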