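import Groth.Agent.LefPenLib.Pair
import Groth.Agent.LefPenLib.SecPair
import Groth.Agent.LefPenLib.Irreducible

/-!
# Lefschetz pencils form an open set
-/

set_option backward.isDefEq.respectTransparency false
set_option backward.isDefEq.respectTransparency.types false
set_option linter.unusedSectionVars false
set_option linter.style.haveILetI false

universe u

open CategoryTheory AlgebraicGeometry

namespace Groth.Agent.LefPenLib

noncomputable section

variable {r : ℕ} {k : Type u} [Field k] {X : Scheme.{u}} (ι : X ⟶ CohB1.ProjSpace r k) {d : ℕ}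

attribute [local instance] wAlgebra

theorem isPolyFun_eval_dual {V : Type u} [AddCommGroup V] [Module k V] {E : Type} (L : E → V →ₗ[k] k)
    (g : MvPolynomial E k) : LefPen.IsPolyFun k (fun x : V => MvPolynomial.eval (fun e => L e x) g) := by
  have e : (fun x : V => MvPolynomial.eval (fun e => L e x) g) =
      MvPolynomial.aeval (fun e => ((L e : V →ₗ[k] k) : V → k)) g := by
    induction g using MvPolynomial.induction_on with
    | C c => ext H; simp
    | add p q hp hq => rw [map_add, ← hp, ← hq]; ext H; simp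
    | mul_X p s hp => rw [map_mul, ← hp, MvPolynomial.aeval_X]; ext H; simp
  rw [LefPen.IsPolyFun, e]
  refine SetLike.le_def.1 ?_ ((Algebra.adjoin_range_eq_range_aeval k
    (fun e => ((L e : V →ₗ[k] k) : V → k))).symm ▸ AlgHom.mem_range_self _ g)
  exact Algebra.adjoin_mono (Set.range_subset_iff.2 fun e => ⟨L e, rfl⟩)

/-- The coefficients of a pair of forms. -/
def coeffPair (FG : LefPen.Form r k d × LefPen.Form r k d) : Expo r d ⊕ Expo r d → k :=
  Sum.elim (fun e => coeffL e FG.1) (fun e => coeffL e FG.2)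

theorem isPolyFun_eval_pair (g : MvPolynomial (Expo r d ⊕ Expo r d) k) :
    LefPen.IsPolyFun k (fun FG : LefPen.Form r k d × LefPen.Form r k d => MvPolynomial.eval (coeffPair FG) g) := by
  have h := isPolyFun_eval_dual (V := LefPen.Form r k d × LefPen.Form r k d)
    (Sum.elim (fun e => (coeffL e).comp (LinearMap.fst k _ _)) (fun e => (coeffL e).comp (LinearMap.snd k _ _))) g
  convert h using 1
  funext FG
  congr 2
  funext e
  rcases e with e | e <;> rfl

/-- Forms with given coefficients. -/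
def pairOf (a : Expo r d ⊕ Expo r d → k) : LefPen.Form r k d × LefPen.Form r k d :=
  (ofCoeff fun e => a (Sum.inl e), ofCoeff fun e => a (Sum.inr e))

theorem coeffPair_pairOf (a : Expo r d ⊕ Expo r d → k) : coeffPair (pairOf a) = a := by
  funext e
  rcases e with e | e <;> exact coeffL_ofCoeff _ _

theorem pairOf_coeffPair (FG : LefPen.Form r k d × LefPen.Form r k d) : pairOf (coeffPair FG) = FG :=
  Prod.ext (ofCoeff_coeffL _) (ofCoeff_coeffL _)

theorem pullForm_lin [IsAffineHom ι] (i : Fin (r + 1)) (s t : k) (F G : LefPen.Form r k d) :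
    pullForm ι i (s • F + t • G) = s • pullForm ι i F + t • pullForm ι i G := by
  simp only [pullForm_eq, Submodule.coe_add, Submodule.coe_smul_of_tower, map_add, map_smul]

theorem bad_smul_iff [IsAffineHom ι] (i : Fin (r + 1)) (ev : Γ(X, wOpen ι i) →ₐ[k] k) {c : k} (hc : c ≠ 0)
    (H : LefPen.Form r k d) : Bad ι i ev (c • H) ↔ Bad ι i ev H := by
  have h : pullForm ι i (c • H) = algebraMap k Γ(X, wOpen ι i) c * pullForm ι i H := by
    rw [← Algebra.smul_def]; simp only [pullForm_eq, Submodule.coe_smul_of_tower, map_smul]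
  rw [Bad, h]
  exact dblZero_mul_unit (by rw [AlgHom.commutes]; exact hc)

theorem pairBad_smul [IsAffineHom ι] (i : Fin (r + 1)) (ev : Γ(X, wOpen ι i) →ₐ[k] k) {c : k} (hc : c ≠ 0)
    (H : LefPen.Form r k d) (h : PairBad ι i ev (c • H)) : PairBad ι i ev H := by
  have e : pullForm ι i (c • H) = algebraMap k Γ(X, wOpen ι i) c * pullForm ι i H := by
    rw [← Algebra.smul_def]; simp only [pullForm_eq, Submodule.coe_smul_of_tower, map_smul]
  obtain ⟨hb, hor⟩ := h
  refine ⟨(bad_smul_iff ι i ev hc H).1 hb, hor.imp (fun hd => ?_) fun ⟨i', ev', hb', hne⟩ =>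
    ⟨i', ev', (bad_smul_iff ι i' ev' hc H).1 hb', hne⟩⟩
  rw [e] at hd
  exact (degPt_unit_mul (by rw [AlgHom.commutes]; exact hc) _).1 hd

section Substitution

variable {E : Type}

/-- Substituting a combination of two forms for the coefficients. -/
def substComb {R : Type u} [CommRing R] (i : k →+* R) (s t : R) (A B : E → R) : MvPolynomial E k →+* R :=
  MvPolynomial.eval₂Hom i fun e => s * A e + t * B e

theorem ringHom_substComb {R : Type u} [CommRing R] (i : k →+* R) (φ : R →+* k)
    (hφ : ∀ c, φ (i c) = c) (s t : R) (A B : E → R) (p : MvPolynomial E k) :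
    φ (substComb i s t A B p) = MvPolynomial.eval (fun e => φ s * φ (A e) + φ t * φ (B e)) p := by
  induction p using MvPolynomial.induction_on with
  | C c => simp [substComb, hφ]
  | add p q hp hq => simp only [map_add, hp, hq]
  | mul_X p e hp =>
    simp only [map_mul, hp, MvPolynomial.eval_X]
    simp [substComb]

end Substitution

theorem coeff_lin (e : Expo r d) (s t : k) (F G : LefPen.Form r k d) :
    coeffL e (s • F + t • G) = s * coeffL e F + t * coeffL e G := by
  rw [map_add, map_smul, map_smul, smul_eq_mul, smul_eq_mul]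

variable [IsAlgClosed k] [IsClosedImmersion ι] [IrreducibleSpace X] {n : ℕ}
  [hsmo : SmoothOfRelativeDimension n (ι ≫ CohB1.ProjSpace.toSpec r k)]

include hsmo

/-- A polynomial in two parameters from one on forms, for members normalised at a coordinate. -/
theorem exists_member_poly (P : LefPen.Form r k d → Prop) (hP : ∀ H, P H → ∀ c : k, c ≠ 0 → P (c • H))
    (a0 : Expo r d ⊕ Expo r d → k)
    (hloc : ∀ H : LefPen.Form r k d, (∃ s t : k, (s ≠ 0 ∨ t ≠ 0) ∧ H = s • (pairOf a0).1 + t • (pairOf a0).2) →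
      ∃ D : MvPolynomial (Expo r d) k, MvPolynomial.eval (fun e => coeffL e H) D ≠ 0 ∧
        ∀ H', P H' → MvPolynomial.eval (fun e => coeffL e H') D = 0) :
    ∃ D : MvPolynomial (Expo r d ⊕ Expo r d) k, MvPolynomial.eval a0 D ≠ 0 ∧
      ∀ a, MvPolynomial.eval a D ≠ 0 → ∀ s t : k, (s ≠ 0 ∨ t ≠ 0) → ¬ P (s • (pairOf a).1 + t • (pairOf a).2) := by
  let S : Set (MvPolynomial (Fin (1 + 1)) (MvPolynomial (Expo r d ⊕ Expo r d) k)) :=
    {Q | (∃ m : ℕ, Q.IsHomogeneous m) ∧ ∀ a (u : Fin (1 + 1) → k),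
      P (u 0 • (pairOf a).1 + u 1 • (pairOf a).2) → evalAt a u Q = 0}
  obtain ⟨D, hD0, hD⟩ := exists_elim S (fun Q hQ => hQ.1) a0 fun u hu => by
    obtain ⟨i, hi⟩ := Function.ne_iff.1 hu
    change u i ≠ 0 at hi
    let w : Fin (1 + 1) → k := fun l => (u i)⁻¹ * u l
    have hw : w i = 1 := inv_mul_cancel₀ hi
    obtain ⟨D, hD0, hD⟩ := hloc _ ⟨w 0, w 1, by
      fin_cases i
      · exact Or.inl (fun h => one_ne_zero (hw.symm.trans h))
      · exact Or.inr (fun h => one_ne_zero (hw.symm.trans h)), rfl⟩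
    let p : MvPolynomial (Fin (1 + 1)) (MvPolynomial (Expo r d ⊕ Expo r d) k) :=
      substComb (MvPolynomial.C.comp MvPolynomial.C) (MvPolynomial.X 0) (MvPolynomial.X 1) (fun e => MvPolynomial.C (MvPolynomial.X (Sum.inl e)))
        (fun e => MvPolynomial.C (MvPolynomial.X (Sum.inr e))) D
    have hp : ∀ a (v : Fin (1 + 1) → k), evalAt a v p =
        MvPolynomial.eval (fun e => coeffL e (v 0 • (pairOf a).1 + v 1 • (pairOf a).2)) D := fun a v => by
      refine (ringHom_substComb _ (((MvPolynomial.eval v).comp (MvPolynomial.map (MvPolynomial.eval a))))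
        (fun c => by simp [RingHom.comp_apply, MvPolynomial.eval₂_C]) _ _ _ _ D).trans ?_
      congr 2
      funext e
      simp [coeff_lin, pairOf, coeffL_ofCoeff]
    refine ⟨homog i p, ⟨⟨_, isHomogeneous_homog i p⟩, fun a v hv => ?_⟩, ?_⟩
    · by_cases hvi : v i = 0
      · exact evalAt_homog_zero i p a hvi
      · let v' : Fin (1 + 1) → k := fun l => (v i)⁻¹ * v l
        rw [show v = fun l => v i * v' l from funext fun l => by simp only [v']; field_simp,
          evalAt_homog i p _ _ (inv_mul_cancel₀ hvi), hp, hD _ (?_), mul_zero]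
        have := hP _ hv _ (inv_ne_zero hvi)
        rwa [smul_add, smul_smul, smul_smul] at this
    · rw [show u = fun l => u i * w l from funext fun l => by simp only [w]; field_simp,
        evalAt_homog i p _ _ hw, hp]
      exact mul_ne_zero (pow_ne_zero _ hi) hD0
  refine ⟨D, hD0, fun a ha s t hst hPst => ?_⟩
  have h := hD a ![s, t] ha fun Q hQ => hQ.2 a ![s, t] (by simpa using hPst)
  rcases hst with h1 | h1
  · exact h1 (congrFun h 0)
  · exact h1 (congrFun h 1)

/-- Not having a degenerate tangency or two tangencies is open. -/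
theorem exists_open_not_pairBad (hn : 1 ≤ n) (H0 : LefPen.Form r k d)
    (h0 : LefPen.Transversal k n 1 (LefPen.secToSpec ι ({H0} : Set (LefPen.Form r k d))) ∨ LefPen.OneOrdQuad k n ι H0) :
    ∃ D : MvPolynomial (Expo r d) k, MvPolynomial.eval (fun e => coeffL e H0) D ≠ 0 ∧
      ∀ H : LefPen.Form r k d, (∃ i ev, PairBad ι i ev H) → MvPolynomial.eval (fun e => coeffL e H) D = 0 := by
  rcases h0 with h0 | h0
  · obtain ⟨f, hf, hf0, hfH⟩ := isZOpen_transversal (n := n) ι hn H0 h0
    obtain ⟨g, hg⟩ := exists_eval_of_isPolyFun hf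
    refine ⟨g, by rwa [← hg], fun H ⟨i, ev, hb, _⟩ => by_contra fun hne => ?_⟩
    exact (transversal_iff ι hn H).1 (hfH H (by rwa [hg])) i ev hb
  · obtain ⟨j0, ev0, hb0, hnd, huniq⟩ := (oneOrdQuad_iff (n := n) ι H0 hn).1 h0
    obtain ⟨D, hD0, hD⟩ := exists_open_oneTangency (n := n) ι H0 j0 ev0 hnd
      fun i' ev' hb' => ((pointOf_eq_iff ι).2 (huniq i' ev' hb')).symm
    exact ⟨D, hD0, fun H ⟨i, ev, hb⟩ => by_contra fun hne => hD H hne i ev hb⟩

theorem oneOrdQuad_of_not_pairBad (hn : 1 ≤ n) (H : LefPen.Form r k d)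
    (hH : ¬ LefPen.Transversal k n 1 (LefPen.secToSpec ι ({H} : Set (LefPen.Form r k d))))
    (h : ¬ ∃ i ev, PairBad ι i ev H) : LefPen.OneOrdQuad k n ι H := by
  rw [transversal_iff (n := n) ι hn H] at hH
  push Not at hH
  obtain ⟨j, ev, hb⟩ := hH
  refine (oneOrdQuad_iff (n := n) ι H hn).2 ⟨j, ev, hb, fun hd => h ⟨j, ev, hb, Or.inl hd⟩,
    fun j' ev' hb' => (pointOf_eq_iff ι).1 ?_⟩
  by_contra hc
  exact h ⟨j, ev, hb, Or.inr ⟨j', ev', hb', Ne.symm hc⟩⟩

/-- A transversal base locus stays transversal nearby. -/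
theorem exists_open_not_badBase (a0 : Expo r d ⊕ Expo r d → k)
    (h0 : ∀ i ev, ¬ BadBase ι i ev (pairOf a0).1 (pairOf a0).2) :
    ∃ D : MvPolynomial (Expo r d ⊕ Expo r d) k, MvPolynomial.eval a0 D ≠ 0 ∧
      ∀ a, MvPolynomial.eval a D ≠ 0 → ∀ i ev, ¬ BadBase ι i ev (pairOf a).1 (pairOf a).2 := by
  refine exists_open_avoid ι (E := Expo r d ⊕ Expo r d) (fun i ev a => BadBase ι i ev (pairOf a).1 (pairOf a).2)
    (fun i j evj evi a hne hrel hW => ?_) a0 fun v hv => ?_
  · obtain ⟨hf, hg, s, t, hst, hz⟩ := hW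
    have hval : ∀ F : LefPen.Form r k d, evj (pullForm ι j F) = 0 → evi (pullForm ι i F) = 0 := by
      intro F h
      rw [pullForm_eq, eval_pullPoly, show vec ι j evj = fun l => vec ι j evj i * vec ι i evi l from funext hrel,
        eval_smul_of_isHomogeneous ((MvPolynomial.mem_homogeneousSubmodule d _).1 F.2)] at h
      rw [pullForm_eq, eval_pullPoly]
      exact (mul_eq_zero.1 h).resolve_left (pow_ne_zero _ hne)
    refine ⟨hval _ hf, hval _ hg, s, t, hst, ?_⟩
    rw [← pullForm_lin] at hz ⊢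
    exact (bad_change_iff ι hne hrel _).2 hz
  obtain ⟨i, hi⟩ := Function.ne_iff.1 hv
  change v i ≠ 0 at hi
  refine ⟨i, hi, ?_⟩
  let w : Fin (r + 1) → k := fun l => (v i)⁻¹ * v l
  have hval : ∀ (g : Expo r d → Expo r d ⊕ Expo r d) (pr : (Expo r d ⊕ Expo r d → k) → LefPen.Form r k d),
      (∀ a e, coeffL e (pr a) = a (g e)) → (∀ i ev a, BadBase ι i ev (pairOf a).1 (pairOf a).2 → ev (pullForm ι i (pr a)) = 0) →
      MvPolynomial.eval w (pr a0).1 ≠ 0 →
      ∃ p : MvPolynomial (Fin (r + 1)) (MvPolynomial (Expo r d ⊕ Expo r d) k),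
        evalAt a0 w p ≠ 0 ∧ ∀ ev a, BadBase ι i ev (pairOf a).1 (pairOf a).2 → evalAt a (vec ι i ev) p = 0 := by
    intro g pr hg hW hne
    refine ⟨∑ e : Expo r d, MvPolynomial.monomial e.1 (MvPolynomial.X (g e)), ?_, fun ev a hb => ?_⟩
    · rw [eq_sum_coeff (pr a0), map_sum] at hne
      simpa [evalAt, map_sum, MvPolynomial.map_monomial, hg] using hne
    · have h1 := hW i ev a hb
      rw [pullForm_eq, eval_pullPoly, eq_sum_coeff (pr a), map_sum] at h1
      simpa [evalAt, map_sum, MvPolynomial.map_monomial, hg] using h1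
  by_cases hF : MvPolynomial.eval w (pairOf a0).1.1 = 0
  swap
  · exact hval Sum.inl (fun a => (pairOf a).1) (fun a e => coeffL_ofCoeff _ e) (fun _ _ _ h => h.1) hF
  by_cases hG : MvPolynomial.eval w (pairOf a0).2.1 = 0
  swap
  · exact hval Sum.inr (fun a => (pairOf a).2) (fun a e => coeffL_ofCoeff _ e) (fun _ _ _ h => h.2.1) hG
  let E' := Fin (r + 1) ⊕ (Expo r d ⊕ Expo r d)
  let S : Set (MvPolynomial (Fin (1 + 1)) (MvPolynomial (Fin (r + 1) ⊕ (Expo r d ⊕ Expo r d)) k)) :=
    {Q | (∃ m : ℕ, Q.IsHomogeneous m) ∧ ∀ (ev : Γ(X, wOpen ι i) →ₐ[k] k) a (u : Fin (1 + 1) → k),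
      Bad ι i ev (u 0 • (pairOf a).1 + u 1 • (pairOf a).2) → evalAt (Sum.elim (vec ι i ev) a) u Q = 0}
  obtain ⟨D', hD'0, hD'⟩ := exists_elim S (fun Q hQ => hQ.1) (Sum.elim w a0) fun u hu => by
    obtain ⟨l, hl⟩ := Function.ne_iff.1 hu
    change u l ≠ 0 at hl
    let u0 : Fin (1 + 1) → k := fun m => (u l)⁻¹ * u m
    have hu0 : u0 l = 1 := inv_mul_cancel₀ hl
    let H0 : LefPen.Form r k d := u0 0 • (pairOf a0).1 + u0 1 • (pairOf a0).2
    obtain ⟨p, hp0, hp⟩ := exists_separating (n := n) ι i H0 w fun ev hev hb => by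
      have hz : ∀ F : LefPen.Form r k d, MvPolynomial.eval w F.1 = 0 → ev (pullForm ι i F) = 0 := fun F h => by
        rw [pullForm_eq, eval_pullPoly, hev, h]
      refine h0 i ev ⟨hz _ hF, hz _ hG, u0 0, u0 1, ?_, by rw [← pullForm_lin]; exact hb⟩
      fin_cases l
      · exact Or.inl fun h => one_ne_zero (hu0.symm.trans h)
      · exact Or.inr fun h => one_ne_zero (hu0.symm.trans h)
    let p' : MvPolynomial (Fin (1 + 1)) (MvPolynomial (Fin (r + 1) ⊕ (Expo r d ⊕ Expo r d)) k) :=
      MvPolynomial.eval₂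
        (substComb (MvPolynomial.C.comp MvPolynomial.C) (MvPolynomial.X 0) (MvPolynomial.X 1)
          (fun e => MvPolynomial.C (MvPolynomial.X (Sum.inr (Sum.inl e))))
          (fun e => MvPolynomial.C (MvPolynomial.X (Sum.inr (Sum.inr e)))))
        (fun m => MvPolynomial.C (MvPolynomial.X (Sum.inl m))) p
    have hp' : ∀ (v' : Fin (r + 1) → k) a (u' : Fin (1 + 1) → k), evalAt (Sum.elim v' a) u' p' =
        evalAt (fun e => coeffL e (u' 0 • (pairOf a).1 + u' 1 • (pairOf a).2)) v' p := fun v' a u' => by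
      show ((MvPolynomial.eval u').comp (MvPolynomial.map (MvPolynomial.eval (Sum.elim v' a)))) p' = _
      rw [evalAt, MvPolynomial.eval_map, MvPolynomial.eval₂_comp_left]
      congr 1
      · refine RingHom.ext fun c => ?_
        rw [RingHom.comp_apply]
        refine (ringHom_substComb _ ((MvPolynomial.eval u').comp (MvPolynomial.map (MvPolynomial.eval (Sum.elim v' a))))
          (fun c => by simp [RingHom.comp_apply, MvPolynomial.eval₂_C]) _ _ _ _ c).trans ?_
        congr 2
        funext e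
        simp [coeff_lin, pairOf, coeffL_ofCoeff]
      · funext m; simp
    refine ⟨homog l p', ⟨⟨_, isHomogeneous_homog l p'⟩, fun ev a u' hb => ?_⟩, ?_⟩
    · by_cases hul : u' l = 0
      · exact evalAt_homog_zero l p' _ hul
      · let u'' : Fin (1 + 1) → k := fun m => (u' l)⁻¹ * u' m
        rw [show u' = fun m => u' l * u'' m from funext fun m => by simp only [u'']; field_simp,
          evalAt_homog l p' _ _ (inv_mul_cancel₀ hul), hp', hp ev _ ?_, mul_zero]
        have := (bad_smul_iff ι i ev (inv_ne_zero hul) _).2 hb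
        rwa [smul_add, smul_smul, smul_smul] at this
    · rw [show u = fun m => u l * u0 m from funext fun m => by simp only [u0]; field_simp,
        evalAt_homog l p' _ _ hu0, hp']
      exact mul_ne_zero (pow_ne_zero _ hl) hp0
  let p : MvPolynomial (Fin (r + 1)) (MvPolynomial (Expo r d ⊕ Expo r d) k) := MvPolynomial.eval₂Hom
    (MvPolynomial.C.comp (MvPolynomial.C : k →+* MvPolynomial (Expo r d ⊕ Expo r d) k))
    (Sum.elim MvPolynomial.X fun e => MvPolynomial.C (MvPolynomial.X e)) D'
  have hp : ∀ (v' : Fin (r + 1) → k) (a : Expo r d ⊕ Expo r d → k),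
      evalAt a v' p = MvPolynomial.eval (Sum.elim v' a) D' := fun v' a => by
    refine DFunLike.congr_fun (f := (MvPolynomial.eval v').comp ((MvPolynomial.map
      (MvPolynomial.eval a)).comp (MvPolynomial.eval₂Hom _ _)))
      (g := MvPolynomial.eval (Sum.elim v' a)) (MvPolynomial.ringHom_ext (fun c => ?_) fun s => ?_) D'
    · simp [RingHom.comp_apply, MvPolynomial.eval₂_C]
    · rcases s with s | s <;> simp [MvPolynomial.eval₂_C]
  refine ⟨p, by rw [hp]; exact hD'0, fun ev a hW => ?_⟩
  obtain ⟨-, -, s, t, hst, hz⟩ := hW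
  rw [hp]
  by_contra hne
  have h := hD' _ ![s, t] hne fun Q hQ => hQ.2 ev a ![s, t] (by
    rw [Bad, pullForm_lin]
    simpa using hz)
  rcases hst with h1 | h1
  · exact h1 (congrFun h 0)
  · exact h1 (congrFun h 1)

/-- The pairs spanning Lefschetz pencils form an open set. -/
theorem isZOpen_lefschetzPencil (hn : 1 ≤ n) :
    LefPen.IsZOpen k {FG : LefPen.Form r k d × LefPen.Form r k d | LefPen.IsLefschetzPencil k n ι d FG.1 FG.2} := by
  classical
  rintro ⟨F0, G0⟩ ⟨hli, hbase, hfin, hmem⟩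
  let a0 := coeffPair (F0, G0)
  have ha0 : pairOf a0 = (F0, G0) := pairOf_coeffPair _
  -- independence
  obtain ⟨J, hJ, hdet⟩ := exists_minor_of_linearIndependent
    (Matrix.of fun (m : Fin 2) (e : Expo r d) => coeffL e (![F0, G0] m)) (by
      rw [Fintype.linearIndependent_iff]
      intro c hc
      refine Fintype.linearIndependent_iff.1 hli c ?_
      refine (ofCoeff_coeffL _).symm.trans ?_
      refine Eq.trans (congrArg ofCoeff (funext fun e => ?_)) (ofCoeff_coeffL (0 : LefPen.Form r k d))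
      rw [map_sum, map_zero]
      simpa [Matrix.row] using congrFun hc e)
  let D1 : MvPolynomial (Expo r d ⊕ Expo r d) k :=
    (Matrix.of fun (m m' : Fin 2) => MvPolynomial.X (![Sum.inl (J m'), Sum.inr (J m')] m)).det
  have hD1 : ∀ FG : LefPen.Form r k d × LefPen.Form r k d, MvPolynomial.eval (coeffPair FG) D1 =
      (Matrix.of fun (m m' : Fin 2) => coeffL (J m') (![FG.1, FG.2] m)).det := fun FG => by
    rw [show D1 = (Matrix.of fun (m m' : Fin 2) => MvPolynomial.X (![Sum.inl (J m'), Sum.inr (J m')] m)).det from rfl,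
      RingHom.map_det]
    congr 1
    ext m m'
    fin_cases m <;> simp [coeffPair]
  -- base locus
  obtain ⟨D2, hD20, hD2⟩ := exists_open_not_badBase (n := n) ι a0 (by
    rw [ha0]; exact (transversal_pair_iff (n := n) ι hn F0 G0).1 hbase)
  -- members
  obtain ⟨D3, hD30, hD3⟩ := exists_member_poly (n := n) ι (fun H => ∃ i ev, PairBad ι i ev H)
    (fun H ⟨i, ev, h⟩ c hc => ⟨i, ev, pairBad_smul ι i ev (inv_ne_zero hc) _ (by rwa [smul_smul, inv_mul_cancel₀ hc, one_smul])⟩)
    a0 (fun H ⟨s, t, hst, hH⟩ => by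
      rw [ha0] at hH
      have key : ∀ (H' : LefPen.Form r k d) (c : k), c ≠ 0 → H = c • H' → H' ∈ LefPen.members k F0 G0 →
          ∃ D : MvPolynomial (Expo r d) k, MvPolynomial.eval (fun e => coeffL e H) D ≠ 0 ∧
            ∀ H'', (∃ i ev, PairBad ι i ev H'') → MvPolynomial.eval (fun e => coeffL e H'') D = 0 := by
        intro H' c hc hHc hH'
        obtain ⟨D, hD0, hD⟩ := exists_open_not_pairBad (n := n) ι hn H' (or_iff_not_imp_left.2 (hmem H' hH'))
        let D' : MvPolynomial (Expo r d) k := MvPolynomial.aeval (fun e => MvPolynomial.C c⁻¹ * MvPolynomial.X e) D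
        have hev : ∀ H'' : LefPen.Form r k d, MvPolynomial.eval (fun e => coeffL e H'') D' =
            MvPolynomial.eval (fun e => coeffL e (c⁻¹ • H'')) D := fun H'' => by
          refine hom_aeval (MvPolynomial.aeval fun e => coeffL e H'') _ _ (fun e => ?_) D
          simp
        refine ⟨D', by rwa [hev, hHc, smul_smul, inv_mul_cancel₀ hc, one_smul], fun H'' ⟨i, ev, h⟩ => ?_⟩
        rw [hev]
        exact hD _ ⟨i, ev, pairBad_smul ι i ev hc _ (by rwa [smul_smul, mul_inv_cancel₀ hc, one_smul])⟩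
      by_cases hs : s = 0
      · refine key G0 t (hst.resolve_left fun h => h hs) ?_ (Set.mem_union_left _ rfl)
        rw [hH, hs, zero_smul, zero_add]
      · refine key (F0 + (s⁻¹ * t) • G0) s hs ?_ (Set.mem_union_right _ ⟨_, rfl⟩)
        rw [hH, smul_add, smul_smul, ← mul_assoc, mul_inv_cancel₀ hs, one_mul])
  -- one transversal member
  obtain ⟨c1, hc1⟩ := hfin.infinite_compl.nonempty
  rw [Set.mem_compl_iff, Set.mem_setOf_eq, not_not] at hc1
  obtain ⟨f, hf, hf0, hfH⟩ := isZOpen_transversal (n := n) ι hn _ hc1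
  obtain ⟨g, hg⟩ := exists_eval_of_isPolyFun hf
  let D4 : MvPolynomial (Expo r d ⊕ Expo r d) k :=
    substComb MvPolynomial.C 1 (MvPolynomial.C c1) (fun e => MvPolynomial.X (Sum.inl e)) (fun e => MvPolynomial.X (Sum.inr e)) g
  have hD4 : ∀ FG : LefPen.Form r k d × LefPen.Form r k d, MvPolynomial.eval (coeffPair FG) D4 =
      f (FG.1 + c1 • FG.2) := fun FG => by
    rw [hg]
    refine (ringHom_substComb _ _ (fun c => by simp) _ _ _ _ g).trans ?_
    congr 2
    funext e
    simp [coeffPair]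
  refine ⟨_, isPolyFun_eval_pair (D1 * D2 * D3 * D4), ?_, ?_⟩
  · simp only [map_mul]
    refine mul_ne_zero (mul_ne_zero (mul_ne_zero ?_ hD20) hD30) (by rw [hD4]; exact hf0)
    rw [hD1]; exact hdet
  rintro ⟨F, G⟩ hne
  simp only [map_mul, mul_ne_zero_iff] at hne
  obtain ⟨⟨⟨h1, h2⟩, h3⟩, h4⟩ := hne
  have hpair : pairOf (coeffPair (F, G)) = (F, G) := pairOf_coeffPair _
  refine ⟨?_, ?_, ?_, fun H hH hnt => oneOrdQuad_of_not_pairBad (n := n) ι hn H hnt ?_⟩
  · rw [hD1] at h1
    rw [Fintype.linearIndependent_iff]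
    intro c hc
    have hrow : Matrix.vecMul c (Matrix.of fun (m m' : Fin 2) => coeffL (J m') (![F, G] m)) = 0 := by
      funext m'
      have := congrArg (coeffL (J m')) hc
      rw [map_sum, map_zero] at this
      simpa [Matrix.vecMul, dotProduct, map_smul] using this
    have := Matrix.vecMul_injective_of_isUnit ((Matrix.isUnit_iff_isUnit_det _).2 (isUnit_iff_ne_zero.2 h1))
      (hrow.trans (Matrix.zero_vecMul _).symm)
    exact congrFun this
  · have := hD2 _ h2
    rw [hpair] at this
    exact (transversal_pair_iff (n := n) ι hn F G).2 this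
  · rw [hD4] at h4
    obtain ⟨f', hf', hf'0, hf'H⟩ := isZOpen_transversal (n := n) ι hn _ (hfH _ h4)
    obtain ⟨g', hg'⟩ := exists_eval_of_isPolyFun hf'
    let q : Polynomial k := substComb Polynomial.C 1 Polynomial.X (fun e => Polynomial.C (coeffL e F)) (fun e => Polynomial.C (coeffL e G)) g'
    have hq : ∀ c, q.eval c = f' (F + c • G) := fun c => by
      rw [hg']
      refine (ringHom_substComb _ (Polynomial.evalRingHom c) (fun c' => by simp) _ _ _ _ g').trans ?_
      congr 2
      funext e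
      simp
    have hq0 : q ≠ 0 := fun h => hf'0 (by rw [← hq, h, Polynomial.eval_zero])
    refine (Polynomial.finite_setOf_isRoot hq0).subset fun c hc => ?_
    by_contra hr
    exact hc (hf'H _ (by rw [← hq]; exact hr))
  · have key : ∀ s t : k, (s ≠ 0 ∨ t ≠ 0) → H = s • F + t • G → ¬ ∃ i ev, PairBad ι i ev H := fun s t hst e => by
      have := hD3 _ h3 s t hst
      rw [hpair] at this
      rwa [e]
    rcases hH with hH | ⟨c, rfl⟩
    · exact key 0 1 (Or.inr one_ne_zero) (by rw [Set.mem_singleton_iff.1 hH, zero_smul, zero_add, one_smul])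
    · exact key 1 c (Or.inl one_ne_zero) (by rw [one_smul])

end

end Groth.Agent.LefPenLib
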