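import Groth.Agent.LefPenLib.Taylor2
import Mathlib.RingTheory.Smooth.StandardSmooth
import Mathlib.LinearAlgebra.Matrix.Rank

/-!
# Zero loci with independent differentials
-/

set_option backward.isDefEq.respectTransparency false
set_option backward.isDefEq.respectTransparency.types false
set_option linter.style.haveILetI false

universe u

open MvPolynomial

namespace Groth.Agent.LefPenLib

noncomputable section

variable {k : Type u} [Field k]

/-- Independent rows give an invertible minor. -/
theorem exists_minor_of_linearIndependent {σ τ : Type} [Fintype σ] [Fintype τ] [DecidableEq τ] (A : Matrix τ σ k)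
    (h : LinearIndependent k A.row) : ∃ I : τ → σ, Function.Injective I ∧ (A.submatrix id I).det ≠ 0 := by
  classical
  have hr : Module.finrank k (Submodule.span k (Set.range A.col)) = Fintype.card τ := by
    rw [← Matrix.rank_eq_finrank_span_cols, h.rank_matrix]
  obtain ⟨f, hf, -, hli⟩ := Submodule.exists_fun_fin_finrank_span_eq k (Set.range A.col)
  choose idx hidx using hf
  let e : τ ≃ Fin (Module.finrank k (Submodule.span k (Set.range A.col))) :=
    (Fintype.equivFin τ).trans (finCongr hr.symm)
  let I : τ → σ := fun t => idx (e t)
  have hli' : LinearIndependent k fun t => A.col (I t) := by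
    simp only [I, hidx]
    exact hli.comp _ e.injective
  refine ⟨I, fun a b hab => hli'.injective (by simp only [hab]), ?_⟩
  rw [← Matrix.det_transpose]
  exact ((Matrix.isUnit_iff_isUnit_det _).1 (Matrix.linearIndependent_rows_iff_isUnit.1 hli')).ne_zero

variable {σ : Type} [Fintype σ] [DecidableEq σ] {B : Type u} [CommRing B] [Algebra k B]

/-- The velocity of a polynomial along a tangent vector. -/
theorem snd_aeval_dual (x : σ → B) (ev : B →ₐ[k] k) (φ : B →ₐ[k] DualNumber k)
    (hφ : (TrivSqZeroExt.fstHom k k k).comp φ = ev) (P : MvPolynomial σ k) :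
    (φ (aeval x P)).snd = ∑ i, eval (fun i => ev (x i)) (pderiv i P) * (φ (x i)).snd := by
  induction P using MvPolynomial.induction_on with
  | C c => simp [TrivSqZeroExt.algebraMap_eq_inl]
  | add p q hp hq => simp only [map_add, TrivSqZeroExt.snd_add, hp, hq, add_mul, Finset.sum_add_distrib]
  | mul_X p s hp =>
    have hf : ∀ b, (φ b).fst = ev b := fun b => DFunLike.congr_fun hφ b
    rw [map_mul, map_mul, TrivSqZeroExt.snd_mul, hp, aeval_X]
    simp only [smul_eq_mul, op_smul_eq_smul, hf, hom_aeval ev x _ (fun _ => rfl) p]
    have h : ∀ i, eval (fun i => ev (x i)) (pderiv i (p * X s)) * (φ (x i)).snd =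
        ev (x s) * (eval (fun i => ev (x i)) (pderiv i p) * (φ (x i)).snd) +
          (if i = s then eval (fun i => ev (x i)) p * (φ (x i)).snd else 0) := by
      intro i
      by_cases h : i = s
      · subst h
        simp
        ring
      · simp [pderiv_X, h, Ne.symm h]
        ring
    simp only [h, Finset.sum_add_distrib, Finset.sum_ite_eq', Finset.mem_univ, if_true, ← Finset.mul_sum]
    exact add_comm _ _

/-- A polynomial quotient is standard smooth where a minor of the Jacobian does not vanish. -/
theorem standardSmooth_away_minor {τ : Type} [Fintype τ] [DecidableEq τ] (F : τ → MvPolynomial σ k) (I : τ → σ)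
    (hI : Function.Injective I) :
    Algebra.IsStandardSmoothOfRelativeDimension (Fintype.card σ - Fintype.card τ) k
      (Localization.Away (Ideal.Quotient.mk (Ideal.span (Set.range F))
        (Matrix.of fun j i => pderiv (I i) (F j)).det)) := by
  let P := Algebra.PreSubmersivePresentation.naive (R := k) (v := F) I hI
  have hj : P.jacobian = Ideal.Quotient.mk (Ideal.span (Set.range F))
      (Matrix.of fun j i => pderiv (I i) (F j)).det := by
    rw [Algebra.PreSubmersivePresentation.jacobian_eq_jacobiMatrix_det, ← Matrix.det_transpose (Matrix.of _)]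
    show (Ideal.Quotient.mk (Ideal.span (Set.range F))) _ = _
    congr 2
    ext i j
    simp [P]
  rw [← hj]
  let T := Localization.Away P.jacobian
  let L := Algebra.SubmersivePresentation.localizationAway T P.jacobian
  let Q := L.toPreSubmersivePresentation.comp P
  have hQ : IsUnit Q.jacobian := by
    rw [Algebra.PreSubmersivePresentation.comp_jacobian_eq_jacobian_smul_jacobian, Algebra.smul_def]
    exact (IsLocalization.Away.algebraMap_isUnit P.jacobian).mul L.jacobian_isUnit
  refine Algebra.SubmersivePresentation.isStandardSmoothOfRelativeDimension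
    (P := (⟨Q, hQ⟩ : Algebra.SubmersivePresentation k T _ _)) ?_
  show Q.toPresentation.dimension = _
  simp [Algebra.Presentation.dimension, Nat.card_eq_fintype_card, Nat.add_sub_add_left]

end

end Groth.Agent.LefPenLib
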