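import Groth.Agent.BertiniAff.Chart
import Groth.Agent.LefPenLib.MultiQuot
import Groth.Agent.LefPenLib.Smooth

/-!
# Linear conditions varying over an algebra of small dimension
-/

set_option linter.unusedSectionVars false

universe u

open Matrix

namespace Groth.Agent.LefPenLib

noncomputable section

variable {k : Type u} [Field k] {C : Type u} [CommRing C] [Algebra k C] [Algebra.FiniteType k C]

/-- If over an algebra of dimension `m` a linear system has rank at least `c > m` at the points considered,
its solutions at these points lie in a proper closed subset. -/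
theorem exists_rank_bad {R E : Type} [Fintype R] [DecidableEq R] [Fintype E] [DecidableEq E] (m c : ℕ)
    (hC : ringKrullDim C ≤ m) (hc : m < c) (M : Matrix R E C) (S : Set (C →ₐ[k] k))
    (hS : ∀ ev ∈ S, ∃ s : Fin c → R, ∀ u : Fin c → k, ∃ a : E → k, ∀ t, ((M.map ev).mulVec a) (s t) = u t) :
    ∃ g : MvPolynomial E k, g ≠ 0 ∧ ∀ ev ∈ S, ∀ a : E → k, (M.map ev).mulVec a = 0 →
      MvPolynomial.eval a g = 0 := by
  classical
  have hone : ∀ (p : (Fin c → R) × (Fin c → E)), ∃ g : MvPolynomial E k, g ≠ 0 ∧
      ∀ ev : C →ₐ[k] k, ev (M.submatrix p.1 p.2).det ≠ 0 → ∀ a : E → k, (M.map ev).mulVec a = 0 →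
        MvPolynomial.eval a g = 0 := by
    rintro ⟨s, J⟩
    by_cases hex : ∃ ev : C →ₐ[k] k, ev (M.submatrix s J).det ≠ 0
    · obtain ⟨ev0, hev0⟩ := hex
      let D := (M.submatrix s J).det
      let CD := Localization.Away D
      obtain ⟨ev0', -⟩ := exists_extend ev0 hev0
      haveI : Algebra.FiniteType k CD := Algebra.FiniteType.trans (S := C) inferInstance inferInstance
      have hdim : ringKrullDim CD ≤ m := by
        refine le_trans ?_ hC
        refine Order.krullDim_le_of_strictMono (PrimeSpectrum.comap (algebraMap C CD)) ?_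
        intro P Q hPQ
        exact lt_of_le_of_ne (Ideal.comap_mono hPQ.le) fun h =>
          hPQ.ne (PrimeSpectrum.localization_comap_injective _ (Submonoid.powers D) h)
      let σ := ULift.{u} (Fin c)
      let τ := ULift.{u} E
      let M' : Matrix σ τ CD := Matrix.of fun t e => algebraMap C CD (M (s t.down) e.down)
      let U : Matrix (Fin c) (Fin c) CD := (M.submatrix s J).map (algebraMap C CD)
      have hU : IsUnit U.det := by
        rw [show U.det = algebraMap C CD D from ((algebraMap C CD).map_det _).symm]
        exact IsLocalization.Away.algebraMap_isUnit (S := CD) D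
      let N : Matrix τ σ CD := Matrix.of fun e t => ∑ q : Fin c, if J q = e.down then U⁻¹ q t.down else 0
      have hMN : M' * N = 1 := by
        ext t t'
        have h1 := congrFun (congrFun (Matrix.mul_nonsing_inv U hU) t.down) t'.down
        rw [Matrix.mul_apply] at h1
        rw [Matrix.mul_apply]
        show (∑ e : ULift.{u} E, algebraMap C (Localization.Away D) (M (s t.down) e.down) *
          ∑ q : Fin c, if J q = e.down then U⁻¹ q t'.down else 0) = _
        simp only [Finset.mul_sum]
        rw [Finset.sum_comm]
        refine Eq.trans (Finset.sum_congr rfl fun q _ => ?_) (h1.trans ?_)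
        · rw [Finset.sum_eq_single (ULift.up (J q))]
          · simp [U, CD]
          · intro e _ he
            rw [if_neg (fun h => he (ULift.ext _ _ h.symm)), mul_zero]
          · intro h; exact absurd (Finset.mem_univ _) h
        · by_cases h : t = t'
          · subst h; simp
          · rw [Matrix.one_apply_ne h, Matrix.one_apply_ne (fun h' => h (ULift.ext _ _ h'))]
      obtain ⟨g, hg0, hg⟩ := BertiniAff.exists_ne_zero_eval (k := k) m hdim σ τ (by simpa [σ] using hc) M' N hMN
      refine ⟨MvPolynomial.renameEquiv k Equiv.ulift g, (map_ne_zero_iff _ (AlgEquiv.injective _)).2 hg0,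
        fun ev hev a ha => ?_⟩
      obtain ⟨evD, hevD⟩ := exists_extend ev hev
      rw [MvPolynomial.renameEquiv_apply, MvPolynomial.eval_rename]
      refine hg (a ∘ Equiv.ulift) k evD (_root_.funext fun t => ?_)
      have h1 := congrFun ha (s t.down)
      simp only [mulVec, dotProduct, Matrix.map_apply, Pi.zero_apply] at h1 ⊢
      rw [← Equiv.ulift.symm.sum_comp]
      refine Eq.trans (Finset.sum_congr rfl fun e _ => ?_) h1
      rw [← DFunLike.congr_fun hevD (M (s t.down) e)]
      simp [M', CD, D]
    · exact ⟨1, one_ne_zero, fun ev hev => absurd ⟨ev, hev⟩ hex⟩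
  choose g hg0 hg using hone
  refine ⟨∏ p, g p, Finset.prod_ne_zero_iff.2 fun p _ => hg0 p, fun ev hev a ha => ?_⟩
  obtain ⟨s, hs⟩ := hS ev hev
  have hli : LinearIndependent k ((M.map ev).submatrix s id).row := by
    rw [← Matrix.vecMul_injective_iff]
    intro v w hvw
    choose a' ha' using fun t => hs (Pi.single t 1)
    funext t
    have := congrArg (fun z => z ⬝ᵥ a' t) hvw
    simp only [← Matrix.dotProduct_mulVec] at this
    have h2 : ((M.map ev).submatrix s id).mulVec (a' t) = Pi.single t 1 := by
      funext q; exact ha' t q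
    simpa [h2] using this
  obtain ⟨J, -, hJ⟩ := exists_minor_of_linearIndependent _ hli
  have hdet : ev (M.submatrix s J).det ≠ 0 := by
    rw [show ev (M.submatrix s J).det = ev.toRingHom (M.submatrix s J).det from rfl, RingHom.map_det]
    exact hJ
  rw [map_prod]
  exact Finset.prod_eq_zero (Finset.mem_univ (s, J)) (hg (s, J) ev hdet a ha)

end

end Groth.Agent.LefPenLib
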