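import Groth.Agent.LefPenLib.TanSpace
import Groth.Agent.LefPenLib.RankBad
import Groth.Agent.LefPenLib.Pencil
import Mathlib.RingTheory.KrullDimension.NonZeroDivisors

/-!
# Forms with a single ordinary tangency
-/

set_option backward.isDefEq.respectTransparency false
set_option backward.isDefEq.respectTransparency.types false
set_option linter.unusedSectionVars false
set_option linter.style.haveILetI false

universe u

open CategoryTheory AlgebraicGeometry

namespace Groth.Agent.LefPenLib

noncomputable section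

variable {r : ℕ} {k : Type u} [Field k] {X : Scheme.{u}} (ι : X ⟶ CohB1.ProjSpace r k) {d : ℕ}

attribute [local instance] wAlgebra

/-- Pulling forms back to a chart, linearly. -/
def pullFormL (i : Fin (r + 1)) : LefPen.Form r k d →ₗ[k] Γ(X, wOpen ι i) :=
  (pullPoly ι i).toLinearMap.comp (CohB1.polyGrading r k d).subtype

theorem pullFormL_apply (i : Fin (r + 1)) (H : LefPen.Form r k d) : pullFormL ι i H = pullForm ι i H :=
  (pullForm_eq ι i H).symm

/-- The monomial forms. -/
def mono (e : Expo r d) : LefPen.Form r k d := ⟨MvPolynomial.monomial e.1 1, monomial_mem e 1⟩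

theorem ofCoeff_eq_sum (a : Expo r d → k) : ofCoeff a = ∑ e, a e • (mono e : LefPen.Form r k d) :=
  Finset.sum_congr rfl fun e _ => Subtype.ext (by
    rw [Submodule.coe_smul_of_tower, mono, MvPolynomial.smul_monomial, smul_eq_mul, mul_one])

theorem ringKrullDim_quotient_le {B : Type u} [CommRing B] [IsDomain B] {z : B} (hz : z ≠ 0) {n : ℕ}
    (hB : ringKrullDim B ≤ (n + 1 : ℕ)) : ringKrullDim (B ⧸ Ideal.span {z}) ≤ n := by
  have h := (ringKrullDim_quotient_succ_le_of_nonZeroDivisor (mem_nonZeroDivisors_of_ne_zero hz)).trans hB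
  generalize ringKrullDim (B ⧸ Ideal.span {z}) = x at h ⊢
  cases x with
  | bot => exact bot_le
  | coe x =>
    have h' : x + 1 ≤ ((n + 1 : ℕ) : ℕ∞) := by exact_mod_cast h
    have : x ≤ (n : ℕ∞) := by
      cases x with
      | top => simp at h'
      | coe x => exact_mod_cast Nat.le_of_succ_le_succ (by exact_mod_cast h' : x + 1 ≤ n + 1)
    exact_mod_cast this

variable [IsAlgClosed k] [IsClosedImmersion ι] [IrreducibleSpace X] {n : ℕ}
  [hsmo : SmoothOfRelativeDimension n (ι ≫ CohB1.ProjSpace.toSpec r k)]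

include hsmo

section Chart

variable {i : Fin (r + 1)} {F : Γ(X, wOpen ι i)} [Nontrivial (Localization.Away F)]
  [Algebra.IsStandardSmoothOfRelativeDimension n k (Localization.Away F)]

/-- Forms from a subspace touching at points of an algebra of small dimension are special. -/
theorem exists_avoid (b : Module.Basis (Fin n) (Localization.Away F) Ω[Localization.Away F⁄k])
    (π : LefPen.Form r k d →ₗ[k] LefPen.Form r k d) (K : Submodule k (LefPen.Form r k d)) (hπ : ∀ G ∈ K, π G = G)
    {C : Type u} [CommRing C] [Algebra k C] [Algebra.FiniteType k C] (q : Localization.Away F →ₐ[k] C)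
    (m c : ℕ) (hC : ringKrullDim C ≤ m) (hc : m < c) (S : Set (C →ₐ[k] k))
    (hS : ∀ ev ∈ S, ∃ s : Fin c → Option (Fin n), ∀ u : Fin c → k,
      ∃ G ∈ K, ∀ t, jet ι b (ev.comp q) (pullForm ι i G) (s t) = u t) :
    ∃ g : MvPolynomial (Expo r d) k, g ≠ 0 ∧ ∀ ev ∈ S, ∀ a : Expo r d → k,
      Bad ι i ((ev.comp q).comp (IsScalarTower.toAlgHom k _ _)) (π (ofCoeff a)) → MvPolynomial.eval a g = 0 := by
  classical
  let gg : Expo r d → Localization.Away F := fun e => algebraMap _ _ (pullFormL ι i (π (mono e)))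
  let M : Matrix (Option (Fin n)) (Expo r d) C := (jetMatrix b gg).map q
  have hM : ∀ (ev : C →ₐ[k] k) (a : Expo r d → k),
      (M.map ev).mulVec a = jet ι b (ev.comp q) (pullForm ι i (π (ofCoeff a))) := by
    intro ev a
    have h0 : M.map ev = (jetMatrix b gg).map (ev.comp q) := by ext o e; rfl
    have h1 : algebraMap Γ(X, wOpen ι i) (Localization.Away F) (pullForm ι i (π (ofCoeff a))) = ∑ e, a e • gg e := by
      rw [← pullFormL_apply, ofCoeff_eq_sum, map_sum, map_sum, map_sum]
      refine Finset.sum_congr rfl fun e _ => ?_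
      rw [map_smul, map_smul]
      exact map_smul (IsScalarTower.toAlgHom k _ (Localization.Away F)) _ _
    funext o
    rcases o with _ | l
    · rw [jet_none, h1, h0, eval_sum b gg]
    · rw [jet_some, h1, h0, repr_D_sum b gg]
  obtain ⟨g, hg0, hg⟩ := exists_rank_bad m c hC hc M S fun ev hev => by
    obtain ⟨s, hs⟩ := hS ev hev
    refine ⟨s, fun u => ?_⟩
    obtain ⟨G, hG, hGu⟩ := hs u
    refine ⟨fun e => coeffL e G, fun t => ?_⟩
    rw [hM, ofCoeff_coeffL, hπ G hG]
    exact hGu t
  refine ⟨g, hg0, fun ev hev a hb => hg ev hev a ?_⟩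
  rw [hM]
  exact (jet_eq_zero_iff ι b (ev.comp q) _).2 hb

/-- Over one chart: a general form touching at `x` touches nowhere else. -/
theorem exists_avoid_chart (hn : 1 ≤ n) (j : Fin (r + 1)) (evx : Γ(X, wOpen ι j) →ₐ[k] k)
    (π : LefPen.Form r k d →ₗ[k] LefPen.Form r k d) (hπ : ∀ G ∈ tanForms ι j evx, π G = G) (hd : 2 ≤ d)
    (hcrit : 3 ≤ d ∨ ∃ m : LefPen.Form r k 1, Bad ι j evx m ∧ pullForm ι j m ≠ 0) :
    ∃ g : MvPolynomial (Expo r d) k, g ≠ 0 ∧ ∀ (ev : Γ(X, wOpen ι i) →ₐ[k] k) (a : Expo r d → k), ev F ≠ 0 →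
      pointOf ι j evx ≠ pointOf ι i ev → Bad ι i ev (π (ofCoeff a)) → MvPolynomial.eval a g = 0 := by
  classical
  have hne : Nontrivial Γ(X, wOpen ι i) := (algebraMap Γ(X, wOpen ι i) (Localization.Away F)).domain_nontrivial
  obtain ⟨hsm, hft⟩ := wOpen_smooth (n := n) ι i
  haveI := hft
  obtain ⟨hdom, -, -, hnem⟩ := wOpen_domain (n := n) ι i hne
  haveI := hdom
  have hF0 : F ≠ 0 := fun h => by
    have hu : IsUnit (algebraMap Γ(X, wOpen ι i) (Localization.Away F) F) :=
      IsLocalization.Away.algebraMap_isUnit (S := Localization.Away F) F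
    exact hu.ne_zero ((congrArg _ h).trans (map_zero _))
  haveI : IsDomain (Localization.Away F) :=
    IsLocalization.isDomain_localization (powers_le_nonZeroDivisors_of_noZeroDivisors hF0)
  haveI : Algebra.FiniteType k (Localization.Away F) :=
    Algebra.FiniteType.trans (S := Γ(X, wOpen ι i)) inferInstance inferInstance
  haveI : Algebra.IsStandardSmooth k (Localization.Away F) :=
    Algebra.IsStandardSmoothOfRelativeDimension.isStandardSmooth n
  let b : Module.Basis (Fin n) (Localization.Away F) Ω[Localization.Away F⁄k] :=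
    Module.finBasisOfFinrankEq _ _ (BertiniAff.finrank_kaehler n)
  let toB := IsScalarTower.toAlgHom k Γ(X, wOpen ι i) (Localization.Away F)
  -- the points where all jets are realised
  let Full : Set (Localization.Away F →ₐ[k] k) := {ev | ∃ e e', e + e' = d ∧ 1 ≤ e' ∧
    ∃ q : LefPen.Form r k e, Bad ι j evx q ∧ jet ι b ev (pullForm ι i q) none ≠ 0}
  obtain ⟨g1, hg10, hg1⟩ := exists_avoid ι b π (tanForms ι j evx) hπ (AlgHom.id k (Localization.Away F)) n (n + 1)
    (SmoothDim.ringKrullDim_eq k (Localization.Away F) n).le (by omega) Full (by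
    rintro ev ⟨e, e', he, he', q, hq, hqy⟩
    refine ⟨fun t => finSuccEquiv n t, fun u => ?_⟩
    obtain ⟨G, hG, hGu⟩ := exists_jet_tan ι b ev j evx he he' q hq hqy fun o => u ((finSuccEquiv n).symm o)
    refine ⟨G, hG, fun t => ?_⟩
    rw [AlgHom.comp_id, hGu]
    simp)
  obtain ⟨g2, hg20, hg2⟩ : ∃ g : MvPolynomial (Expo r d) k, g ≠ 0 ∧
      ∀ (evB : Localization.Away F →ₐ[k] k) (a : Expo r d → k), pointOf ι j evx ≠ pointOf ι i (evB.comp toB) →
        evB ∉ Full → Bad ι i (evB.comp toB) (π (ofCoeff a)) → MvPolynomial.eval a g = 0 := by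
    by_cases h3 : 3 ≤ d
    · refine ⟨1, one_ne_zero, fun evB a hne' hnF => absurd ?_ hnF⟩
      obtain ⟨l, hl, hly⟩ := exists_lin_sep ι evx (evB.comp toB) hne'
      refine ⟨2, d - 2, by omega, by omega, mulForm l l rfl, ?_, ?_⟩
      · show DblZero evx _
        rw [pullForm_mulForm]; exact dblZero_mul_zero hl hl
      · rw [pullForm_mulForm, jet_mul_none]
        exact mul_ne_zero hly hly
    obtain rfl : d = 2 := by omega
    obtain ⟨m, hm, hm0⟩ := hcrit.resolve_left h3
    let z : Localization.Away F := toB (pullForm ι i m)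
    have hz : z ≠ 0 := fun h => hm0 (pullForm_eq_zero_of (n := n) ι m i j hnem
      (IsLocalization.injective (Localization.Away F) (powers_le_nonZeroDivisors_of_noZeroDivisors hF0)
        (h.trans (map_zero _).symm)))
    obtain ⟨n', rfl⟩ : ∃ n', n = n' + 1 := ⟨n - 1, by omega⟩
    obtain ⟨g, hg0, hg⟩ := exists_avoid ι b π (tanForms ι j evx) hπ
      (Ideal.Quotient.mkₐ k (Ideal.span {z})) n' (n' + 1)
      (ringKrullDim_quotient_le hz (SmoothDim.ringKrullDim_eq k (Localization.Away F) (n' + 1)).le) (by omega)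
      {ev : (Localization.Away F ⧸ Ideal.span {z}) →ₐ[k] k | pointOf ι j evx ≠ pointOf ι i ((ev.comp (Ideal.Quotient.mkₐ k (Ideal.span {z}))).comp toB)} (fun ev hev => by
        obtain ⟨l, hl, hly⟩ := exists_lin_sep ι evx _ hev
        exact exists_jet_tan_two ι b _ j evx l hl hly)
    refine ⟨g, hg0, fun evB a hne' hnF hb => ?_⟩
    have hz0 : evB z = 0 := by
      by_contra hc
      exact hnF ⟨1, 1, rfl, le_rfl, m, hm, hc⟩
    let evC : (Localization.Away F ⧸ Ideal.span {z}) →ₐ[k] k := Ideal.Quotient.liftₐ _ evB fun y hy => by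
      obtain ⟨c, rfl⟩ := Ideal.mem_span_singleton'.1 hy
      rw [map_mul, hz0, mul_zero]
    have hevC : evC.comp (Ideal.Quotient.mkₐ k (Ideal.span {z})) = evB := AlgHom.ext fun y => rfl
    refine hg evC ?_ a ?_
    · show _ ≠ _
      rw [hevC]; exact hne'
    · rw [hevC]; exact hb
  refine ⟨g1 * g2, mul_ne_zero hg10 hg20, fun ev a hF hne' hb => ?_⟩
  obtain ⟨evB, hevB⟩ := exists_extend ev hF
  rw [map_mul]
  by_cases hfull : evB ∈ Full
  · rw [hg1 evB hfull a (by rw [AlgHom.comp_id, hevB]; exact hb), zero_mul]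
  · rw [hg2 evB a (by rw [hevB]; exact hne') hfull (by rw [hevB]; exact hb), mul_zero]

end Chart

/-- A form with exactly one ordinary tangency, unless `X` is linear. -/
theorem exists_oneOrdQuad_of_crit (hn : 1 ≤ n) (hd : 2 ≤ d) (j : Fin (r + 1)) (evx : Γ(X, wOpen ι j) →ₐ[k] k)
    (hcrit : 3 ≤ d ∨ ∃ m : LefPen.Form r k 1, Bad ι j evx m ∧ pullForm ι j m ≠ 0) :
    ∃ H : LefPen.Form r k d, LefPen.OneOrdQuad k n ι H := by
  classical
  obtain ⟨H0, hb0, hnd0⟩ := exists_bad_nondeg (n := n) ι j evx d hd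
  obtain ⟨g0, hg0⟩ := LinearMap.exists_extend (K := k) (V := LefPen.Form r k d) (V' := ↥(tanForms (d := d) ι j evx))
    (p := tanForms (d := d) ι j evx) LinearMap.id
  let π : LefPen.Form r k d →ₗ[k] LefPen.Form r k d := (tanForms (d := d) ι j evx).subtype.comp g0
  have hπ : ∀ G ∈ tanForms ι j evx, π G = G := fun G hG => by
    have h := DFunLike.congr_fun hg0 (⟨G, hG⟩ : ↥(tanForms (d := d) ι j evx))
    exact congrArg Subtype.val h
  have hcover : ∀ i : Fin (r + 1), ∃ g : MvPolynomial (Expo r d) k, g ≠ 0 ∧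
      ∀ (ev : Γ(X, wOpen ι i) →ₐ[k] k) (a : Expo r d → k),
        pointOf ι j evx ≠ pointOf ι i ev → Bad ι i ev (π (ofCoeff a)) → MvPolynomial.eval a g = 0 := by
    intro i
    rcases subsingleton_or_nontrivial Γ(X, wOpen ι i) with hs | hne
    · exact ⟨1, one_ne_zero, fun ev => absurd ev.toRingHom.domain_nontrivial (not_nontrivial _)⟩
    obtain ⟨hsm, hft⟩ := wOpen_smooth (n := n) ι i
    obtain ⟨-, hdim, -, -⟩ := wOpen_domain (n := n) ι i hne
    haveI := hft
    choose F hF using fun p : PrimeSpectrum Γ(X, wOpen ι i) => exists_chart_at n hdim hsm p.asIdeal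
    obtain ⟨T, hT⟩ := CompactSpace.isCompact_univ.elim_finite_subcover (fun p => (PrimeSpectrum.basicOpen (F p) : Set (PrimeSpectrum Γ(X, wOpen ι i))))
      (fun p => (PrimeSpectrum.basicOpen (F p)).2) (fun p _ => Set.mem_iUnion.2 ⟨p, (hF p).1⟩)
    have hT' : ∀ ev : Γ(X, wOpen ι i) →ₐ[k] k, ∃ p ∈ T, ev (F p) ≠ 0 := fun ev => by
      obtain ⟨p, hp, hmem⟩ := Set.mem_iUnion₂.1 (hT (Set.mem_univ ⟨RingHom.ker ev, RingHom.ker_isPrime ev⟩))
      exact ⟨p, hp, hmem⟩
    have hloc : ∀ p, ∃ g : MvPolynomial (Expo r d) k, g ≠ 0 ∧ ∀ (ev : Γ(X, wOpen ι i) →ₐ[k] k) (a : Expo r d → k),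
        ev (F p) ≠ 0 → pointOf ι j evx ≠ pointOf ι i ev → Bad ι i ev (π (ofCoeff a)) → MvPolynomial.eval a g = 0 := by
      intro p
      haveI := (hF p).2.1
      haveI := (hF p).2.2
      exact exists_avoid_chart ι hn j evx π hπ hd hcrit
    choose g hg0' hg using hloc
    refine ⟨∏ p ∈ T, g p, Finset.prod_ne_zero_iff.2 fun p _ => hg0' p, fun ev a hne' hb => ?_⟩
    obtain ⟨p, hp, hev⟩ := hT' ev
    rw [map_prod]
    exact Finset.prod_eq_zero hp (hg p ev a hev hne' hb)
  choose g hg0' hg using hcover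
  obtain ⟨P, hP0, hP⟩ := exists_pair_poly (n := n) ι j evx H0 hb0 hnd0
  let qd : MvPolynomial (Expo r d) k := MvPolynomial.aeval
    (Sum.elim (Sum.elim (fun l => MvPolynomial.C (vec ι j evx l)) fun l => MvPolynomial.C (vec ι j evx l))
      fun e => ∑ e', MvPolynomial.C (coeffL e (π (mono e'))) * MvPolynomial.X e') P
  have hqd : ∀ a, MvPolynomial.eval a qd = MvPolynomial.eval
      (Sum.elim (Sum.elim (vec ι j evx) (vec ι j evx)) fun e => coeffL e (π (ofCoeff a))) P := fun a => by
    refine Eq.trans (congrFun (MvPolynomial.aeval_eq_eval a).symm qd) (hom_aeval (MvPolynomial.aeval a) _ _ (fun s => ?_) P)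
    rcases s with (s | s) | e
    · simp
    · simp
    · simp [ofCoeff_eq_sum, mul_comm]
  have hprod : qd * ∏ i, g i ≠ 0 := by
    refine mul_ne_zero (fun h => hP0 ?_) (Finset.prod_ne_zero_iff.2 fun i _ => hg0' i)
    have := hqd fun e => coeffL e H0
    rw [h, map_zero, ofCoeff_coeffL, hπ H0 hb0] at this
    exact this.symm
  obtain ⟨a, ha⟩ : ∃ a, MvPolynomial.eval a (qd * ∏ i, g i) ≠ 0 := by
    by_contra! hc
    exact hprod (MvPolynomial.funext fun a => by rw [hc a, map_zero])
  rw [map_mul, map_prod, mul_ne_zero_iff, Finset.prod_ne_zero_iff, hqd] at ha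
  have hb : Bad ι j evx (π (ofCoeff a)) := (g0 (ofCoeff a)).2
  refine ⟨π (ofCoeff a), (oneOrdQuad_iff (n := n) ι (π (ofCoeff a)) hn).2 ⟨j, evx, hb,
    fun h => ha.1 (hP evx evx _ hb hb (Or.inr h)), fun j' ev' hb' => (pointOf_eq_iff ι).1 ?_⟩⟩
  by_contra hc
  exact ha.2 j' (Finset.mem_univ _) (hg j' ev' a hc hb')

/-- On a linear subvariety a nondegenerate tangent quadric touches once. -/
theorem exists_oneOrdQuad_of_linear (hn : 1 ≤ n) (j : Fin (r + 1)) (evx : Γ(X, wOpen ι j) →ₐ[k] k)
    (hlin : ∀ m : LefPen.Form r k 1, Bad ι j evx m → pullForm ι j m = 0) :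
    ∃ H : LefPen.Form r k 2, LefPen.OneOrdQuad k n ι H := by
  classical
  obtain ⟨P, hP, hP0, hdec, H, hH, hb, hnd⟩ := exists_bad_nondeg_aux (n := n) ι j evx 2 le_rfl
  refine ⟨H, (oneOrdQuad_iff (n := n) ι H hn).2 ⟨j, evx, hb, hnd, fun i ev hb' => (pointOf_eq_iff ι).1 ?_⟩⟩
  by_contra hne
  obtain ⟨l, hl, hly⟩ := exists_lin_sep ι evx ev hne
  have hne' : Nontrivial Γ(X, wOpen ι j) := evx.toRingHom.domain_nontrivial
  obtain ⟨-, -, -, hnem⟩ := wOpen_domain (n := n) ι j hne'
  -- linear forms are combinations of the coordinates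
  have hcomb : ∀ p : MvPolynomial (Fin (r + 1)) k, p.IsHomogeneous 1 → ∃ α : Fin n → k,
      pullPoly ι i p = ∑ a, α a • pullPoly ι i (P a) + evx (pullPoly ι j p) • pullPoly ι i (MvPolynomial.X j) := by
    intro p hp
    obtain ⟨α, hα⟩ := hdec (p - evx (pullPoly ι j p) • MvPolynomial.X j) (by
      rw [map_sub, map_smul, pullPoly_X_self, map_sub, map_smul, map_one, smul_eq_mul, mul_one, sub_self])
    let m : LefPen.Form r k 1 := ⟨p - evx (pullPoly ι j p) • MvPolynomial.X j - ∑ a, α a • P a,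
      Submodule.sub_mem _ (Submodule.sub_mem _ hp (Submodule.smul_mem _ _ (LefPen.X_mem r k j)))
        (Submodule.sum_mem _ fun a _ => Submodule.smul_mem _ _ (hP a))⟩
    have hm : pullForm ι j m = 0 := hlin m (by show DblZero evx _; rw [pullForm_eq]; exact hα)
    have hm' := pullForm_eq_zero_of (n := n) ι m j i hnem hm
    rw [pullForm_eq, map_sub, map_sub, map_smul, map_sum, sub_eq_zero, sub_eq_iff_eq_add] at hm'
    exact ⟨α, hm'.trans (by simp only [map_smul])⟩
  obtain ⟨F, -, hstd, evB, hevB⟩ := exists_localData (n := n) ι i ev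
  haveI := hstd
  haveI : Algebra.IsStandardSmooth k (Localization.Away F) :=
    Algebra.IsStandardSmoothOfRelativeDimension.isStandardSmooth n
  haveI : Nontrivial (Localization.Away F) := evB.toRingHom.domain_nontrivial
  let b : Module.Basis (Fin n) (Localization.Away F) Ω[Localization.Away F⁄k] :=
    Module.finBasisOfFinrankEq _ _ (BertiniAff.finrank_kaehler n)
  -- the jets of the coordinates form a basis
  let T : Option (Fin n) → Γ(X, wOpen ι i) := fun o =>
    Option.elim o (pullPoly ι i (MvPolynomial.X j)) fun a => pullPoly ι i (P a)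
  let Mx : Matrix (Option (Fin n)) (Option (Fin n)) k := Matrix.of fun o o' => jet ι b evB (T o') o
  have hMx : Function.Surjective Mx.mulVec := by
    intro v
    obtain ⟨G, hG⟩ := exists_jet ι b evB 1 le_rfl v
    obtain ⟨α, hα⟩ := hcomb G.1 G.2
    refine ⟨fun o => Option.elim o (evx (pullPoly ι j G.1)) α, funext fun o => ?_⟩
    rw [← hG, pullForm_eq, hα, map_add, map_sum, Pi.add_apply, Finset.sum_apply]
    simp only [Matrix.mulVec, dotProduct, Fintype.sum_option, Mx, Matrix.of_apply, T, Option.elim_none,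
      Option.elim_some, map_smul, Pi.smul_apply, smul_eq_mul, mul_comm]
    exact add_comm _ _
  have hMx' : Function.Surjective fun v => Matrix.vecMul v Mx :=
    Matrix.vecMul_surjective_iff_isUnit.2 (Matrix.mulVec_surjective_iff_isUnit.1 hMx)
  -- the quadric
  let u : Fin n → k := fun a => ev (pullPoly ι i (P a))
  let z : Option (Fin n) → Fin n → k := fun o a => jet ι b evB (pullPoly ι i (P a)) o
  have hz0 : z none = u := funext fun a => by
    show evB (algebraMap _ _ _) = ev _
    rw [← hevB]; rfl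
  have hpull : pullForm ι i H = ∑ a : Fin n, ∑ a' : Fin n, (nondegCoeff n a a' : k) • (pullPoly ι i (P a) * pullPoly ι i (P a')) := by
    rw [pullForm_eq, hH, Nat.sub_self, pow_zero, mul_one, map_sum]
    refine Finset.sum_congr rfl fun a _ => ?_
    rw [map_sum]
    exact Finset.sum_congr rfl fun a' _ => by rw [← MvPolynomial.smul_eq_C_mul, map_smul, map_mul]
  have hj0 : jet ι b evB (pullForm ι i H) = 0 := (jet_eq_zero_iff ι b evB _).2 (by rw [hevB]; exact hb')
  rw [hpull, map_sum] at hj0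
  simp only [map_sum, map_smul] at hj0
  have hq : ∑ a : Fin n, ∑ a' : Fin n, (nondegCoeff n a a' : k) * (u a * u a') = 0 := by
    have h := congrFun hj0 none
    simp only [Finset.sum_apply, Pi.smul_apply, jet_mul_none, smul_eq_mul, Pi.zero_apply] at h
    rw [← hz0]
    exact h
  let B : (Fin n → k) →ₗ[k] k :=
    { toFun := fun w => ∑ a : Fin n, ∑ a' : Fin n, (nondegCoeff n a a' : k) * (u a * w a' + w a * u a')
      map_add' := fun w w' => by simp only [Pi.add_apply, mul_add, add_mul, Finset.sum_add_distrib]; ring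
      map_smul' := fun c w => by
        simp only [Pi.smul_apply, smul_eq_mul, RingHom.id_apply, Finset.mul_sum]
        exact Finset.sum_congr rfl fun a _ => Finset.sum_congr rfl fun a' _ => by ring }
  have hBz : ∀ o, B (z o) = 0 := by
    rintro (_ | s)
    · show ∑ a : Fin n, ∑ a' : Fin n, (nondegCoeff n a a' : k) * (u a * z none a' + z none a * u a') = 0
      rw [hz0]
      simp only [mul_add, Finset.sum_add_distrib, hq, add_zero]
    · have h := congrFun hj0 (some s)
      simp only [Finset.sum_apply, Pi.smul_apply, jet_mul_some, smul_eq_mul, Pi.zero_apply] at h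
      refine Eq.trans ?_ h
      show ∑ a : Fin n, ∑ a' : Fin n, (nondegCoeff n a a' : k) * (u a * z (some s) a' + z (some s) a * u a') = _
      rw [← hz0]
      exact Finset.sum_congr rfl fun a _ => Finset.sum_congr rfl fun a' _ => by simp only [z]; ring
  have hu : u = 0 := nondegCoeff_spec n u hq fun p => by
    obtain ⟨c, hc⟩ := hMx' fun o => Option.elim o 0 (Pi.single p 1 : Fin n → k)
    have hw : (Pi.single p 1 : Fin n → k) = ∑ o, c o • z o := funext fun a => by
      have h := congrFun hc (some a)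
      rw [Finset.sum_apply]
      exact h.symm
    show B (Pi.single p 1) = 0
    rw [hw, map_sum]
    exact Finset.sum_eq_zero fun o _ => by rw [map_smul, hBz, smul_zero]
  -- all linear forms vanishing at `x` vanish at the point
  refine hly ?_
  obtain ⟨α, hα⟩ := hcomb l.1 l.2
  rw [pullForm_eq] at hl
  rw [pullForm_eq, hα, hl, zero_smul, add_zero, map_sum]
  exact Finset.sum_eq_zero fun a _ => by rw [map_smul, show ev (pullPoly ι i (P a)) = 0 from congrFun hu a, smul_zero]

/-- There is a form with exactly one ordinary tangency. -/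
theorem exists_oneOrdQuad (hn : 1 ≤ n) (hd : 2 ≤ d) (j : Fin (r + 1)) (evx : Γ(X, wOpen ι j) →ₐ[k] k) :
    ∃ H : LefPen.Form r k d, LefPen.OneOrdQuad k n ι H := by
  by_cases h : 3 ≤ d ∨ ∃ m : LefPen.Form r k 1, Bad ι j evx m ∧ pullForm ι j m ≠ 0
  · exact exists_oneOrdQuad_of_crit ι hn hd j evx h
  · push Not at h
    obtain rfl : d = 2 := by omega
    exact exists_oneOrdQuad_of_linear ι hn j evx h.2

end

end Groth.Agent.LefPenLib
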