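import Groth.Agent.LefPenLib.Through
import Groth.Agent.LefPenLib.OneTangency
import Groth.Agent.LefPenLib.FiniteProj
import Groth.Agent.LefPenLib.Irreducible

/-!
# Existence of Lefschetz pencils
-/

set_option backward.isDefEq.respectTransparency false
set_option backward.isDefEq.respectTransparency.types false
set_option linter.unusedSectionVars false
set_option linter.style.haveILetI false

universe u

open CategoryTheory AlgebraicGeometry

namespace Groth.Agent.LefPenLib

noncomputable section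

variable {r : ℕ} {k : Type u} [Field k] {X : Scheme.{u}} (ι : X ⟶ CohB1.ProjSpace r k) {d : ℕ}

attribute [local instance] wAlgebra

variable [IsAlgClosed k] [IsClosedImmersion ι] [IrreducibleSpace X] {n : ℕ}
  [hsmo : SmoothOfRelativeDimension n (ι ≫ CohB1.ProjSpace.toSpec r k)]

include hsmo

/-- The zero form touches degenerately everywhere. -/
theorem wBad_zero (hn : 1 ≤ n) (j : Fin (r + 1)) (ev : Γ(X, wOpen ι j) →ₐ[k] k) :
    WBad ι (0 : LefPen.Form r k d) := by
  have h0 : pullForm ι j (0 : LefPen.Form r k d) = 0 := by rw [pullForm_eq]; exact map_zero _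
  refine ⟨j, ev, ?_, Or.inl ?_⟩
  · show DblZero ev _
    rw [h0]
    exact fun φ _ => map_zero φ
  obtain ⟨F, -, hstd, evB, hevB⟩ := exists_localData (n := n) ι j ev
  haveI := hstd
  haveI : Algebra.IsStandardSmooth k (Localization.Away F) :=
    Algebra.IsStandardSmoothOfRelativeDimension.isStandardSmooth n
  haveI : Nontrivial (Localization.Away F) := evB.toRingHom.domain_nontrivial
  let b : Module.Basis (Fin n) (Localization.Away F) Ω[Localization.Away F⁄k] :=
    Module.finBasisOfFinrankEq _ _ (BertiniAff.finrank_kaehler n)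
  obtain ⟨τ, hτ⟩ := exists_isTaylor (k := k) b
  have key := (isTestEquiv_localization (A := Γ(X, wOpen ι j)) (Submonoid.powers F) evB).degPt (0 : Γ(X, wOpen ι j))
  rw [hevB] at key
  rw [h0, key, map_zero, degPt_iff hτ evB 0 (fun φ _ => map_zero φ)]
  refine ⟨Pi.single ⟨0, hn⟩ 1, fun h => ?_, ?_, fun w => ?_⟩
  · have := congrFun h ⟨0, hn⟩
    simp at this
  · obtain ⟨ψ, hψ⟩ := hτ.sub3 evB (Pi.single ⟨0, hn⟩ 1)
    have h := congrArg T3.c2 (hψ 0)
    rw [map_zero, subT3_apply] at h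
    exact h.symm
  · obtain ⟨Φ, hΦ⟩ := hτ.subD evB (Pi.single ⟨0, hn⟩ 1) w
    have h := congrArg (fun z => z.snd.snd) (hΦ 0)
    simp only [map_zero, subDual_apply] at h
    simpa using h.symm

/-- The coefficient vectors of the forms not cutting transversally. -/
def tanSet : Set (Expo r d → k) := {a | ∃ i ev, Bad ι i ev (ofCoeff a)}

theorem coeff_mem_tanSet (hn : 1 ≤ n) (H : LefPen.Form r k d) :
    (¬ LefPen.Transversal k n 1 (LefPen.secToSpec ι ({H} : Set (LefPen.Form r k d)))) ↔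
      (fun e => coeffL e H) ∈ tanSet (d := d) ι := by
  rw [transversal_iff (n := n) ι hn H]
  show _ ↔ ∃ i ev, Bad ι i ev (ofCoeff fun e => coeffL e H)
  rw [ofCoeff_coeffL]
  push Not
  exact Iff.rfl

theorem tanSet_irreducible (hn : 1 ≤ n) (hd : 1 ≤ d) (p q : MvPolynomial (Expo r d) k)
    (hpq : ∀ a ∈ tanSet (d := d) ι, MvPolynomial.eval a p * MvPolynomial.eval a q = 0) :
    (∀ a ∈ tanSet (d := d) ι, MvPolynomial.eval a p = 0) ∨ (∀ a ∈ tanSet (d := d) ι, MvPolynomial.eval a q = 0) := by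
  have hZ' : ∀ a ∈ tanSet (d := d) ι, ¬ LefPen.Transversal k n 1 (LefPen.secToSpec ι ({ofCoeff a} : Set (LefPen.Form r k d))) :=
    fun a ha => (coeff_mem_tanSet (n := n) ι hn _).2 (by rwa [funext (coeffL_ofCoeff a)])
  rcases dichotomy (n := n) ι hn hd _ _ (isPolyFun_eval_coeff p) (isPolyFun_eval_coeff q)
    (fun H hH => hpq _ ((coeff_mem_tanSet (n := n) ι hn H).1 hH)) with h | h
  · exact Or.inl fun a ha => by simpa [funext (coeffL_ofCoeff a)] using h _ (hZ' a ha)
  · exact Or.inr fun a ha => by simpa [funext (coeffL_ofCoeff a)] using h _ (hZ' a ha)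

theorem tanSet_cone (a : Expo r d → k) (ha : a ∈ tanSet (d := d) ι) (t : k) (ht : t ≠ 0) :
    t • a ∈ tanSet (d := d) ι := by
  obtain ⟨i, ev, hb⟩ := ha
  refine ⟨i, ev, ?_⟩
  rw [show ofCoeff (t • a) = t • ofCoeff a by
    simp only [ofCoeff_eq_sum, Finset.smul_sum, smul_smul, Pi.smul_apply, smul_eq_mul]]
  exact (bad_smul_iff ι i ev ht _).2 hb

theorem tanSet_nonempty (hn : 1 ≤ n) : (0 : Expo r d → k) ∈ tanSet (d := d) ι := by
  haveI : Nonempty X := inferInstance
  haveI : Smooth (ι ≫ CohB1.ProjSpace.toSpec r k) := SmoothOfRelativeDimension.smooth n _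
  haveI : LocallyOfFiniteType (ι ≫ CohB1.ProjSpace.toSpec r k) := inferInstance
  haveI := LocallyOfFiniteType.jacobsonSpace (ι ≫ CohB1.ProjSpace.toSpec r k)
  obtain ⟨x, -, hx⟩ := nonempty_inter_closedPoints (X := X) (Z := Set.univ) Set.univ_nonempty isOpen_univ.isLocallyClosed
  have hy : ι x ∈ (⨆ i, LefPen.chart r k i : (CohB1.ProjSpace r k).Opens) := by rw [iSup_chart]; trivial
  obtain ⟨j, hj⟩ := TopologicalSpace.Opens.mem_iSup.1 hy
  obtain ⟨evx, -⟩ := exists_pointOf_eq ι j x hx hj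
  refine ⟨j, evx, ?_⟩
  rw [show ofCoeff (0 : Expo r d → k) = 0 by rw [ofCoeff_eq_sum]; simp]
  intro φ _
  rw [pullForm_eq]
  simp

/-- A line through a transversal form avoiding the bad forms, from an invariant equation. -/
theorem exists_line_avoid_of (hn : 1 ≤ n) (hd : 1 ≤ d)
    (hinv : ∀ (a0 : Expo r d → k) (f : MvPolynomial (Expo r d) k), a0 ≠ 0 → MvPolynomial.eval a0 f ≠ 0 →
      (∀ a ∈ tanSet (d := d) ι, MvPolynomial.eval a f = 0) →
      ∃ s : MvPolynomial (Expo r d) k, s ≠ 0 ∧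
        (∀ H : LefPen.Form r k d, WBad ι H → MvPolynomial.eval (fun e => coeffL e H) s = 0) ∧
        ∀ (a : Expo r d → k) (t : k), MvPolynomial.eval (a + t • a0) s = MvPolynomial.eval a s) :
    ∃ H0 G : LefPen.Form r k d, LefPen.Transversal k n 1 (LefPen.secToSpec ι ({H0} : Set (LefPen.Form r k d))) ∧
      LinearIndependent k ![H0, G] ∧ ∀ s t : k, (s ≠ 0 ∨ t ≠ 0) → ¬ WBad ι (s • H0 + t • G) := by
  classical
  -- a transversal form
  choose g hg0 hg using fun i => exists_generic_chart (n := n) ι (d := d) hd i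
  obtain ⟨a0, ha0⟩ : ∃ a, MvPolynomial.eval a (∏ i, g i) ≠ 0 := by
    by_contra! hc
    exact Finset.prod_ne_zero_iff.2 (fun i _ => hg0 i) (MvPolynomial.funext fun a => by rw [hc a, map_zero])
  let H0 : LefPen.Form r k d := ofCoeff a0
  have h0 : LefPen.Transversal k n 1 (LefPen.secToSpec ι ({H0} : Set (LefPen.Form r k d))) :=
    Or.inl ⟨hn, smoothRelDim_secToSpec ι H0 (n - 1) fun i => hg i H0 (by
      intro h
      apply ha0
      rw [map_prod]
      refine Finset.prod_eq_zero (Finset.mem_univ i) ?_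
      simpa [H0, coeffL_ofCoeff] using h)⟩
  obtain ⟨f, hf, hf0, hfH⟩ := isZOpen_transversal (n := n) ι hn H0 h0
  obtain ⟨pf, hpf⟩ := exists_eval_of_isPolyFun hf
  have ha0' : a0 ≠ 0 := fun h => by
    refine (coeff_mem_tanSet (n := n) ι hn H0).2 ?_ h0
    rw [show (fun e => coeffL e H0) = a0 from funext (coeffL_ofCoeff a0), h]
    exact tanSet_nonempty (n := n) ι hn
  obtain ⟨s, hs0, hsW, hsinv⟩ := hinv a0 pf ha0' (by rw [← funext (coeffL_ofCoeff a0), ← hpf]; exact hf0)
    (fun a ha => by_contra fun hne => (coeff_mem_tanSet (n := n) ι hn (ofCoeff a)).2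
      (by rwa [funext (coeffL_ofCoeff a)]) (hfH _ (by rwa [hpf, funext (coeffL_ofCoeff a)])))
  obtain ⟨a, ha⟩ : ∃ a, MvPolynomial.eval a s ≠ 0 := by
    by_contra! hc
    exact hs0 (MvPolynomial.funext fun a => by rw [hc a, map_zero])
  have hkey : ∀ c : k, ¬ WBad ι (ofCoeff a + c • H0) := fun c hW => by
    have h := hsW _ hW
    rw [show (fun e => coeffL e (ofCoeff a + c • H0)) = a + c • a0 from funext fun e => by
      simp [H0, coeffL_ofCoeff], hsinv] at h
    exact ha h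
  have hH0 : H0 ≠ 0 := fun h => ha0' (funext fun e => by rw [← coeffL_ofCoeff a0 e]; show coeffL e H0 = 0; rw [h, map_zero])
  have hW0 : WBad ι (0 : LefPen.Form r k d) := by
    obtain ⟨j, evx, -⟩ := tanSet_nonempty (n := n) (d := d) ι hn
    exact wBad_zero (n := n) ι hn j evx
  refine ⟨H0, ofCoeff a, h0, ?_, fun u t hut hW => ?_⟩
  · rw [LinearIndependent.pair_iff]
    intro u t h
    by_cases ht : t = 0
    · rw [ht, zero_smul, add_zero, smul_eq_zero] at h
      exact ⟨h.resolve_right hH0, ht⟩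
    · exfalso
      refine hkey (t⁻¹ * u) ?_
      rw [show ofCoeff a + (t⁻¹ * u) • H0 = t⁻¹ • (u • H0 + t • ofCoeff a) by
        rw [smul_add, smul_smul, smul_smul, inv_mul_cancel₀ ht, one_smul, add_comm], h, smul_zero]
      exact hW0
  · by_cases ht : t = 0
    · have hu : u ≠ 0 := hut.resolve_right fun h => h ht
      rw [ht, zero_smul, add_zero] at hW
      have h := wBad_smul ι (inv_ne_zero hu) hW
      rw [smul_smul, inv_mul_cancel₀ hu, one_smul] at h
      exact not_wBad_of (n := n) ι hn H0 (Or.inl h0) h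
    · refine hkey (t⁻¹ * u) ?_
      have h := wBad_smul ι (inv_ne_zero ht) hW
      rwa [smul_add, smul_smul, smul_smul, inv_mul_cancel₀ ht, one_smul, add_comm] at h

/-- An invariant equation of the bad forms, from one form with a single ordinary tangency. -/
theorem exists_invariant_of_oneOrdQuad (hn : 1 ≤ n) (hd : 1 ≤ d) (H1 : LefPen.Form r k d)
    (hH1 : LefPen.OneOrdQuad k n ι H1) (a0 : Expo r d → k) (f : MvPolynomial (Expo r d) k) (ha0 : a0 ≠ 0)
    (hf0 : MvPolynomial.eval a0 f ≠ 0) (hf : ∀ a ∈ tanSet (d := d) ι, MvPolynomial.eval a f = 0) :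
    ∃ s : MvPolynomial (Expo r d) k, s ≠ 0 ∧
      (∀ H : LefPen.Form r k d, WBad ι H → MvPolynomial.eval (fun e => coeffL e H) s = 0) ∧
      ∀ (a : Expo r d → k) (t : k), MvPolynomial.eval (a + t • a0) s = MvPolynomial.eval a s := by
  obtain ⟨D, hD1, hD⟩ := exists_open_not_pairBad (n := n) ι hn H1 (Or.inr hH1)
  obtain ⟨j1, ev1, hb1, -⟩ := (oneOrdQuad_iff (n := n) ι H1 hn).1 hH1
  obtain ⟨s, hs0, hsD, hsinv⟩ := exists_invariant (tanSet (d := d) ι) (tanSet_cone (n := n) ι) ⟨_, tanSet_nonempty (n := n) ι hn⟩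
    (tanSet_irreducible (n := n) ι hn hd) a0 ha0 f hf0 hf D (fun e => coeffL e H1) ⟨j1, ev1, by rwa [ofCoeff_coeffL]⟩ hD1
  refine ⟨s, hs0, fun H hW => hsD _ ?_ (hD H hW), hsinv⟩
  obtain ⟨i, ev, hb, -⟩ := hW
  exact ⟨i, ev, by rwa [ofCoeff_coeffL]⟩

/-- One Lefschetz pencil gives many. -/
theorem isLefschetzEmb_of_line (hn : 1 ≤ n) (hd : 1 ≤ d)
    (h : ∃ H0 G : LefPen.Form r k d, LefPen.Transversal k n 1 (LefPen.secToSpec ι ({H0} : Set (LefPen.Form r k d))) ∧
      LinearIndependent k ![H0, G] ∧ ∀ s t : k, (s ≠ 0 ∨ t ≠ 0) → ¬ WBad ι (s • H0 + t • G)) :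
    LefPen.IsLefschetzEmb k n ι d := by
  obtain ⟨H0, G', h0, hli, hG'⟩ := h
  obtain ⟨f, -, ⟨G, hG⟩, hfG⟩ := isGeneric_through_of_line (n := n) ι hn hd H0 G' h0 hli hG'
  have hp := hfG G hG
  rw [Set.mem_ofPred_eq] at hp
  obtain ⟨F, hF, hF0, hFp⟩ := isZOpen_lefschetzPencil (n := n) (d := d) ι hn (H0, G) hp
  exact ⟨F, hF, ⟨_, hF0⟩, hFp⟩

/-- In degree at least two there are many Lefschetz pencils. -/
theorem isLefschetzEmb_of_two_le (hn : 1 ≤ n) (hd : 2 ≤ d) : LefPen.IsLefschetzEmb k n ι d := by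
  obtain ⟨j, evx, -⟩ := tanSet_nonempty (n := n) (d := d) ι hn
  obtain ⟨H1, hH1⟩ := exists_oneOrdQuad (n := n) (d := d) ι hn hd j evx
  exact isLefschetzEmb_of_line (n := n) ι hn (by omega) (exists_line_avoid_of (n := n) ι hn (by omega)
    (exists_invariant_of_oneOrdQuad (n := n) ι hn (by omega) H1 hH1))

end

end Groth.Agent.LefPenLib
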