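import Groth.Agent.LefPenLib.FamilyAlg
import Groth.Agent.LefPenLib.LineExists

/-!
# A form with one ordinary tangency in characteristic zero
-/

set_option backward.isDefEq.respectTransparency false
set_option backward.isDefEq.respectTransparency.types false
set_option linter.unusedSectionVars false
set_option linter.style.haveILetI false

universe u

open CategoryTheory AlgebraicGeometry

namespace Groth.Agent.LefPenLib

noncomputable section

/-- A nonzero polynomial vanishing on a nonempty set and of minimal degree has a derivative that does not vanish there. -/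
theorem exists_pderiv {k : Type u} [Field k] [CharZero k] {E : Type} [Fintype E] (Z : Set (E → k)) (hZ : Z.Nonempty)
    (f : MvPolynomial E k) (hf0 : f ≠ 0) (hf : ∀ a ∈ Z, MvPolynomial.eval a f = 0) :
    ∃ (p : MvPolynomial E k) (e : E), (∀ a ∈ Z, MvPolynomial.eval a p = 0) ∧
      ∃ a ∈ Z, MvPolynomial.eval a (MvPolynomial.pderiv e p) ≠ 0 := by
  classical
  suffices h : ∀ (N : ℕ) (f : MvPolynomial E k), f.totalDegree ≤ N → f ≠ 0 → (∀ a ∈ Z, MvPolynomial.eval a f = 0) →
      ∃ (p : MvPolynomial E k) (e : E), (∀ a ∈ Z, MvPolynomial.eval a p = 0) ∧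
        ∃ a ∈ Z, MvPolynomial.eval a (MvPolynomial.pderiv e p) ≠ 0 from h _ f le_rfl hf0 hf
  intro N
  induction N with
  | zero =>
    intro f hdeg hf0 hf
    exfalso
    obtain ⟨a, ha⟩ := hZ
    rw [MvPolynomial.totalDegree_eq_zero_iff_eq_C.1 (Nat.le_zero.1 hdeg)] at hf hf0
    have h := hf a ha
    rw [MvPolynomial.eval_C] at h
    exact hf0 (by rw [h, map_zero])
  | succ N ih =>
    intro f hdeg hf0 hf
    by_contra! hc
    have hzero : ∀ e, MvPolynomial.pderiv e f = 0 := by
      intro e
      by_contra hne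
      have hlt : (MvPolynomial.pderiv e f).totalDegree ≤ N := by
        rw [MvPolynomial.totalDegree, Finset.sup_le_iff]
        intro μ hμ
        have h := MvPolynomial.mem_support_iff.1 hμ
        rw [MvPolynomial.coeff_pderiv] at h
        have hmem : μ + Finsupp.single e 1 ∈ f.support := MvPolynomial.mem_support_iff.2 fun h0 => h (by simp [h0])
        have := (MvPolynomial.le_totalDegree hmem).trans hdeg
        rw [Finsupp.sum_add_index' (fun _ => rfl) (fun _ _ _ => rfl), Finsupp.sum_single_index rfl] at this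
        omega
      obtain ⟨p, e', hp, a, ha, hne'⟩ := ih _ hlt hne fun a ha => hc f e hf a ha
      exact hne' (hc p e' hp a ha)
    obtain ⟨μ, hμ, hμ0⟩ : ∃ μ ∈ f.support, μ ≠ 0 := by
      by_contra! h0
      obtain ⟨a, ha⟩ := hZ
      have hC : f = MvPolynomial.C (f.coeff 0) := by
        ext μ
        rw [MvPolynomial.coeff_C]
        split_ifs with h
        · rw [h]
        · by_contra h'; exact h (h0 μ (MvPolynomial.mem_support_iff.2 h')).symm
      have h := hf a ha
      rw [hC, MvPolynomial.eval_C] at h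
      exact hf0 (by rw [hC, h, map_zero])
    obtain ⟨e, he⟩ : ∃ e, μ e ≠ 0 := Finsupp.ne_iff.1 hμ0
    have h := congrArg (MvPolynomial.coeff (μ - Finsupp.single e 1)) (hzero e)
    rw [MvPolynomial.coeff_pderiv, MvPolynomial.coeff_zero,
      tsub_add_cancel_of_le (Finsupp.single_le_iff.2 (Nat.one_le_iff_ne_zero.2 he))] at h
    refine mul_ne_zero (MvPolynomial.mem_support_iff.1 hμ) ?_ h
    exact Nat.cast_add_one_ne_zero _

variable {r : ℕ} {k : Type u} [Field k] {X : Scheme.{u}} (ι : X ⟶ CohB1.ProjSpace r k) {d : ℕ}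

attribute [local instance] wAlgebra

variable [IsAlgClosed k] [IsClosedImmersion ι] [IrreducibleSpace X] {n : ℕ}
  [hsmo : SmoothOfRelativeDimension n (ι ≫ CohB1.ProjSpace.toSpec r k)]

include hsmo

/-- Finitely many standard charts cover the rational points of a chart. -/
theorem exists_chart_cover (i : Fin (r + 1)) : ∃ T : Finset Γ(X, wOpen ι i),
    (∀ F ∈ T, Nontrivial (Localization.Away F) ∧
      Algebra.IsStandardSmoothOfRelativeDimension n k (Localization.Away F)) ∧
    ∀ ev : Γ(X, wOpen ι i) →ₐ[k] k, ∃ F ∈ T, ev F ≠ 0 := by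
  classical
  rcases subsingleton_or_nontrivial Γ(X, wOpen ι i) with hs | hne
  · exact ⟨∅, fun F hF => absurd hF (Finset.notMem_empty F), fun ev => absurd ev.toRingHom.domain_nontrivial (not_nontrivial _)⟩
  obtain ⟨hsm, hft⟩ := wOpen_smooth (n := n) ι i
  obtain ⟨-, hdim, -, -⟩ := wOpen_domain (n := n) ι i hne
  haveI := hft
  choose F hF using fun p : PrimeSpectrum Γ(X, wOpen ι i) => exists_chart_at n hdim hsm p.asIdeal
  obtain ⟨T, hT⟩ := CompactSpace.isCompact_univ.elim_finite_subcover (fun p => (PrimeSpectrum.basicOpen (F p) : Set (PrimeSpectrum Γ(X, wOpen ι i))))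
    (fun p => (PrimeSpectrum.basicOpen (F p)).2) (fun p _ => Set.mem_iUnion.2 ⟨p, (hF p).1⟩)
  refine ⟨T.image F, fun G hG => ?_, fun ev => ?_⟩
  · obtain ⟨p, -, rfl⟩ := Finset.mem_image.1 hG
    exact (hF p).2
  · obtain ⟨p, hp, hmem⟩ := Set.mem_iUnion₂.1 (hT (Set.mem_univ ⟨RingHom.ker ev, RingHom.ker_isPrime ev⟩))
    exact ⟨F p, Finset.mem_image.2 ⟨p, hp, rfl⟩, hmem⟩

/-- Good data attached to the tangencies over part of a chart. -/
theorem exists_deg_local [CharZero k] (hn : 1 ≤ n) (i : Fin (r + 1)) (F : Γ(X, wOpen ι i))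
    [Nontrivial (Localization.Away F)] [Algebra.IsStandardSmoothOfRelativeDimension n k (Localization.Away F)]
    (b1 : Module.Basis (Fin n) (Localization.Away F) Ω[Localization.Away F⁄k]) (J : Option (Fin n) → Expo r d)
    (p : MvPolynomial (Expo r d) k)
    (hp : ∀ (ev : Γ(X, wOpen ι i) →ₐ[k] k) (a : Expo r d → k), Bad ι i ev (ofCoeff a) → MvPolynomial.eval a p = 0)
    {σ : Type} [Fintype σ] (hσ : Fintype.card σ + 1 = Fintype.card (Expo r d))
    (η : MvPolynomial σ k →ₐ[k] MvPolynomial (Expo r d) k) :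
    ∃ s : MvPolynomial σ k, s ≠ 0 ∧ ∀ (evB : Localization.Away F →ₐ[k] k) (a : Expo r d → k),
      evB ((jetMatrix b1 fun e => algebraMap Γ(X, wOpen ι i) (Localization.Away F)
        (pullPoly ι i (MvPolynomial.monomial e.1 1))).submatrix id J).det ≠ 0 →
      Bad ι i (evB.comp (IsScalarTower.toAlgHom k _ _)) (ofCoeff a) →
      MvPolynomial.eval a (η s) ≠ 0 →
        ¬ DegPt (evB.comp (IsScalarTower.toAlgHom k _ _)) (pullForm ι i (ofCoeff a : LefPen.Form r k d)) ∧
        ∀ G : LefPen.Form r k d, evB (algebraMap _ _ (pullForm ι i G)) = 0 →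
          ∑ e, MvPolynomial.eval a (MvPolynomial.pderiv e p) * coeffL e G = 0 := by
  classical
  let g1 : Expo r d → Localization.Away F := fun e => algebraMap Γ(X, wOpen ι i) (Localization.Away F)
    (pullPoly ι i (MvPolynomial.monomial e.1 1))
  let D := ((jetMatrix b1 g1).submatrix id J).det
  by_cases hex : ∃ evB : Localization.Away F →ₐ[k] k, evB D ≠ 0
  swap
  · exact ⟨1, one_ne_zero, fun evB a h => absurd ⟨evB, h⟩ hex⟩
  obtain ⟨ev0, hev0⟩ := hex
  have hne : Nontrivial Γ(X, wOpen ι i) := (algebraMap Γ(X, wOpen ι i) (Localization.Away F)).domain_nontrivial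
  obtain ⟨hsm, hft⟩ := wOpen_smooth (n := n) ι i
  haveI := hft
  obtain ⟨hdom, -, -, -⟩ := wOpen_domain (n := n) ι i hne
  haveI := hdom
  have hF0 : F ≠ 0 := fun h => by
    have hu : IsUnit (algebraMap Γ(X, wOpen ι i) (Localization.Away F) F) :=
      IsLocalization.Away.algebraMap_isUnit (S := Localization.Away F) F
    exact hu.ne_zero ((congrArg _ h).trans (map_zero _))
  haveI : IsDomain (Localization.Away F) :=
    IsLocalization.isDomain_localization (powers_le_nonZeroDivisors_of_noZeroDivisors hF0)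
  haveI : Algebra.FiniteType k (Localization.Away F) :=
    Algebra.FiniteType.trans (S := Γ(X, wOpen ι i)) inferInstance inferInstance
  haveI : Algebra.IsStandardSmooth k (Localization.Away F) :=
    Algebra.IsStandardSmoothOfRelativeDimension.isStandardSmooth n
  have hD0 : D ≠ 0 := fun h => hev0 (by rw [h, map_zero])
  let B := Localization.Away D
  haveI : IsDomain B := IsLocalization.isDomain_localization (powers_le_nonZeroDivisors_of_noZeroDivisors hD0)
  haveI : Algebra.FiniteType k B := Algebra.FiniteType.trans (S := Localization.Away F) inferInstance inferInstance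
  haveI : Algebra.FormallyEtale (Localization.Away F) B := Algebra.FormallyEtale.of_isLocalization (Submonoid.powers D)
  haveI : Algebra.FormallySmooth k B := Algebra.FormallySmooth.comp k (Localization.Away F) B
  let b : Module.Basis (Fin n) B Ω[B⁄k] :=
    b1.ofIsLocalizedModule B (Submonoid.powers D) (KaehlerDifferential.map k k (Localization.Away F) B)
  let g : Expo r d → B := fun e => algebraMap (Localization.Away F) B (g1 e)
  have hjet : jetMatrix b g = (jetMatrix b1 g1).map (algebraMap (Localization.Away F) B) := by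
    ext o e
    rcases o with _ | l
    · rfl
    · show b.repr (KaehlerDifferential.D k B (algebraMap (Localization.Away F) B (g1 e))) l = _
      rw [← KaehlerDifferential.map_D k k (Localization.Away F) B]
      exact Module.Basis.ofIsLocalizedModule_repr_apply B (Submonoid.powers D) _ b1 _ l
  have hinj : Function.Injective J := by
    intro o o' h
    by_contra hne'
    refine hD0 (Matrix.det_zero_of_column_eq hne' fun q => ?_)
    simp [h]
  obtain ⟨T⟩ := exists_tanFamily b g J (by
    rw [hjet, Matrix.submatrix_map]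
    rw [show ((((jetMatrix b1 g1).submatrix id J)).map (algebraMap (Localization.Away F) B)).det =
      algebraMap (Localization.Away F) B D from ((algebraMap (Localization.Away F) B).map_det _).symm]
    exact IsLocalization.Away.algebraMap_isUnit (S := B) D) hinj
  have hmem : ∀ a : Expo r d → k, member g a =
      algebraMap (Localization.Away F) B (algebraMap Γ(X, wOpen ι i) (Localization.Away F) (pullForm ι i (ofCoeff a))) := by
    intro a
    rw [pullForm_eq_sum, map_sum, map_sum]
    refine Finset.sum_congr rfl fun e _ => ?_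
    rw [coeffL_ofCoeff]
    exact ((congrArg _ (map_smul (IsScalarTower.toAlgHom k _ (Localization.Away F)) _ _)).trans
      (map_smul (IsScalarTower.toAlgHom k (Localization.Away F) B) _ _)).symm
  have hbadiff : ∀ (ev : B →ₐ[k] k) (a : Expo r d → k), DblZero ev (member g a) ↔
      Bad ι i ((ev.comp (IsScalarTower.toAlgHom k (Localization.Away F) B)).comp (IsScalarTower.toAlgHom k _ _)) (ofCoeff a) := by
    intro ev a
    rw [hmem, dblZero_localization D ev, dblZero_localization F]
    exact Iff.rfl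
  have hdimB : ringKrullDim B ≤ n := by
    refine le_trans ?_ (SmoothDim.ringKrullDim_eq k (Localization.Away F) n).le
    refine Order.krullDim_le_of_strictMono (PrimeSpectrum.comap (algebraMap (Localization.Away F) B)) ?_
    intro P Q hPQ
    exact lt_of_le_of_ne (Ideal.comap_mono hPQ.le) fun h =>
      hPQ.ne (PrimeSpectrum.localization_comap_injective _ (Submonoid.powers D) h)
  obtain ⟨s, hs0, hs⟩ := T.exists_deg hinj hn hdimB hσ η
  refine ⟨s, hs0, fun evB a hD hb hne' => ?_⟩
  obtain ⟨ev, hev⟩ := exists_extend evB hD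
  have hbB : DblZero ev (member g a) := (hbadiff ev a).2 (by rw [hev]; exact hb)
  refine ⟨fun hdeg => hne' (hs ev a hbB (Or.inl ?_)), fun G hG => ?_⟩
  · have k1 := (isTestEquiv_localization (A := Γ(X, wOpen ι i)) (Submonoid.powers F) evB).degPt (pullForm ι i (ofCoeff a : LefPen.Form r k d))
    have k2 := (isTestEquiv_localization (A := Localization.Away F) (Submonoid.powers D) ev).degPt
      (algebraMap Γ(X, wOpen ι i) (Localization.Away F) (pullForm ι i (ofCoeff a : LefPen.Form r k d)))
    rw [hev] at k2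
    rw [hmem]
    exact k2.1 (k1.1 hdeg)
  · have hdet : T.point ev a T.hess.det ≠ 0 := fun h => hne' (hs ev a hbB (Or.inr h))
    refine T.grad p (T.aeval_eq_zero p fun ev' a' hb' => hp _ a' ((hbadiff ev' a').1 hb')) ev a hbB hdet _ ?_
    rw [← ev_member, hmem, ofCoeff_coeffL, ← hG]
    exact DFunLike.congr_fun hev _

/-- Over a standard chart all tangencies of a generic member are ordinary and see the gradient. -/
theorem exists_deg_chart [CharZero k] (hn : 1 ≤ n) (hd : 1 ≤ d) (i : Fin (r + 1)) (F : Γ(X, wOpen ι i))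
    [Nontrivial (Localization.Away F)] [Algebra.IsStandardSmoothOfRelativeDimension n k (Localization.Away F)]
    (p : MvPolynomial (Expo r d) k)
    (hp : ∀ (ev : Γ(X, wOpen ι i) →ₐ[k] k) (a : Expo r d → k), Bad ι i ev (ofCoeff a) → MvPolynomial.eval a p = 0)
    {σ : Type} [Fintype σ] (hσ : Fintype.card σ + 1 = Fintype.card (Expo r d))
    (η : MvPolynomial σ k →ₐ[k] MvPolynomial (Expo r d) k) :
    ∃ s : MvPolynomial σ k, s ≠ 0 ∧ ∀ (ev : Γ(X, wOpen ι i) →ₐ[k] k) (a : Expo r d → k), ev F ≠ 0 →
      Bad ι i ev (ofCoeff a) → MvPolynomial.eval a (η s) ≠ 0 →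
        ¬ DegPt ev (pullForm ι i (ofCoeff a : LefPen.Form r k d)) ∧
        ∀ G : LefPen.Form r k d, ev (pullForm ι i G) = 0 →
          ∑ e, MvPolynomial.eval a (MvPolynomial.pderiv e p) * coeffL e G = 0 := by
  classical
  haveI : Algebra.IsStandardSmooth k (Localization.Away F) :=
    Algebra.IsStandardSmoothOfRelativeDimension.isStandardSmooth n
  let b1 : Module.Basis (Fin n) (Localization.Away F) Ω[Localization.Away F⁄k] :=
    Module.finBasisOfFinrankEq _ _ (BertiniAff.finrank_kaehler n)
  choose s hs0 hs using fun J => exists_deg_local ι hn i F b1 J p hp hσ η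
  refine ⟨∏ J, s J, Finset.prod_ne_zero_iff.2 fun J _ => hs0 J, fun ev a hevF hb hne => ?_⟩
  obtain ⟨evB, hevB⟩ := exists_extend ev hevF
  let g1 : Expo r d → Localization.Away F := fun e => algebraMap Γ(X, wOpen ι i) (Localization.Away F)
    (pullPoly ι i (MvPolynomial.monomial e.1 1))
  have hrows : LinearIndependent k ((jetMatrix b1 g1).map evB).row := by
    rw [← Matrix.vecMul_injective_iff]
    intro v w hvw
    funext o
    obtain ⟨G, hG⟩ := exists_jet ι b1 evB d hd (Pi.single o 1)
    have h := congrArg (fun z => z ⬝ᵥ (fun e => coeffL e G)) hvw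
    simp only [← Matrix.dotProduct_mulVec] at h
    have h2 : ((jetMatrix b1 g1).map evB).mulVec (fun e => coeffL e G) = Pi.single o 1 := by
      rw [← hG]
      have h1 : algebraMap Γ(X, wOpen ι i) (Localization.Away F) (pullForm ι i G) = ∑ e, coeffL e G • g1 e := by
        rw [pullForm_eq_sum, map_sum]
        exact Finset.sum_congr rfl fun e _ => map_smul (IsScalarTower.toAlgHom k _ (Localization.Away F)) _ _
      funext q
      rcases q with _ | l
      · rw [jet_none, h1, eval_sum b1 g1]
      · rw [jet_some, h1, repr_D_sum b1 g1]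
    simpa [h2] using h
  obtain ⟨J, -, hJ⟩ := exists_minor_of_linearIndependent _ hrows
  have hD : evB ((jetMatrix b1 g1).submatrix id J).det ≠ 0 := by
    rw [show evB ((jetMatrix b1 g1).submatrix id J).det = evB.toRingHom ((jetMatrix b1 g1).submatrix id J).det from rfl,
      RingHom.map_det]
    exact hJ
  obtain ⟨h1, h2⟩ := hs J evB a hD (by rw [hevB]; exact hb) fun h0 => hne (by
    rw [map_prod, map_prod]
    exact Finset.prod_eq_zero (Finset.mem_univ J) h0)
  rw [hevB] at h1
  exact ⟨h1, fun G hG => h2 G (by rw [← hevB] at hG; exact hG)⟩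

/-- In characteristic zero: either a line avoids all tangent forms or some form has one ordinary tangency. -/
theorem exists_oneOrdQuad_charZero [CharZero k] (hn : 1 ≤ n) (hd : 1 ≤ d) {σ : Type} [Fintype σ]
    (hσ : Fintype.card σ + 1 = Fintype.card (Expo r d)) (η : MvPolynomial σ k →ₐ[k] MvPolynomial (Expo r d) k)
    (Z : Set (Expo r d → k)) (hZ : ∀ a, a ∈ Z ↔ ∃ i ev, Bad ι i ev (ofCoeff a)) (hne : Z.Nonempty)
    (hirr : ∀ p q : MvPolynomial (Expo r d) k, (∀ a ∈ Z, MvPolynomial.eval a p * MvPolynomial.eval a q = 0) →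
      (∀ a ∈ Z, MvPolynomial.eval a p = 0) ∨ (∀ a ∈ Z, MvPolynomial.eval a q = 0))
    (f : MvPolynomial (Expo r d) k) (hf0 : f ≠ 0) (hf : ∀ a ∈ Z, MvPolynomial.eval a f = 0)
    (hη : ∀ s : MvPolynomial σ k, s ≠ 0 → ∃ a ∈ Z, MvPolynomial.eval a (η s) ≠ 0) :
    ∃ H : LefPen.Form r k d, LefPen.OneOrdQuad k n ι H := by
  classical
  obtain ⟨p, e0, hp, a1, ha1, hpa1⟩ := exists_pderiv Z hne f hf0 hf
  choose T hT1 hT2 using fun i => exists_chart_cover (n := n) ι i
  have hloc : ∀ (i : Fin (r + 1)) (F : Γ(X, wOpen ι i)), ∃ s : MvPolynomial σ k,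
      s ≠ 0 ∧ (F ∈ T i → ∀ (ev : Γ(X, wOpen ι i) →ₐ[k] k) (a : Expo r d → k), ev F ≠ 0 →
        Bad ι i ev (ofCoeff a) → MvPolynomial.eval a (η s) ≠ 0 →
          ¬ DegPt ev (pullForm ι i (ofCoeff a : LefPen.Form r k d)) ∧
          ∀ G : LefPen.Form r k d, ev (pullForm ι i G) = 0 →
            ∑ e, MvPolynomial.eval a (MvPolynomial.pderiv e p) * coeffL e G = 0) := by
    intro i F
    by_cases hF : F ∈ T i
    · haveI := (hT1 i F hF).1
      haveI := (hT1 i F hF).2
      obtain ⟨s, hs0, hs⟩ := exists_deg_chart ι hn hd i F p (fun ev a hb => hp a ((hZ a).2 ⟨i, ev, hb⟩)) hσ η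
      exact ⟨s, hs0, fun _ => hs⟩
    · exact ⟨1, one_ne_zero, fun h => absurd h hF⟩
  choose s hs0 hs using hloc
  let S : MvPolynomial σ k := ∏ i, ∏ F ∈ T i, s i F
  have hS0 : S ≠ 0 := Finset.prod_ne_zero_iff.2 fun i _ => Finset.prod_ne_zero_iff.2 fun F _ => hs0 i F
  obtain ⟨a2, ha2, hSa2⟩ := hη S hS0
  obtain ⟨a, haZ, haS, hap⟩ : ∃ a ∈ Z, MvPolynomial.eval a (η S) ≠ 0 ∧
      MvPolynomial.eval a (MvPolynomial.pderiv e0 p) ≠ 0 := by
    by_contra! hc
    rcases hirr (η S) (MvPolynomial.pderiv e0 p) (fun a ha => by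
      by_cases h : MvPolynomial.eval a (η S) = 0
      · rw [h, zero_mul]
      · rw [hc a ha h, mul_zero]) with h | h
    · exact hSa2 (h a2 ha2)
    · exact hpa1 (h a1 ha1)
  let H : LefPen.Form r k d := ofCoeff a
  -- every tangency of `H` is ordinary and sees the gradient
  have hgood : ∀ i ev, Bad ι i ev H → ¬ DegPt ev (pullForm ι i H) ∧
      ∀ G : LefPen.Form r k d, ev (pullForm ι i G) = 0 →
        ∑ e, MvPolynomial.eval a (MvPolynomial.pderiv e p) * coeffL e G = 0 := by
    intro i ev hb
    obtain ⟨F, hF, hevF⟩ := hT2 i ev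
    refine hs i F hF ev a hevF hb ?_
    intro h0
    apply haS
    simp only [S, map_prod]
    exact Finset.prod_eq_zero (Finset.mem_univ i) (Finset.prod_eq_zero hF h0)
  obtain ⟨i, ev, hb⟩ := (hZ a).1 haZ
  refine ⟨H, (oneOrdQuad_iff (n := n) ι H hn).2 ⟨i, ev, hb, (hgood i ev hb).1, fun j ev' hb' => (pointOf_eq_iff ι).1 ?_⟩⟩
  by_contra hne'
  obtain ⟨l, hl, hly⟩ := exists_lin_sep ι ev ev' hne'
  let L : LefPen.Form r k d := ⟨l.1 ^ d, by
    have := MvPolynomial.IsHomogeneous.pow l.2 d
    rwa [one_mul] at this⟩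
  have hLx : ev (pullForm ι i L) = 0 := by
    rw [pullForm_eq, map_pow, map_pow, ← pullForm_eq, hl, zero_pow (by omega)]
  have hLy : ev' (pullForm ι j L) ≠ 0 := by
    rw [pullForm_eq, map_pow, map_pow, ← pullForm_eq]
    exact pow_ne_zero _ hly
  let ℓ : LefPen.Form r k d →ₗ[k] k :=
    ∑ e, MvPolynomial.eval a (MvPolynomial.pderiv e p) • coeffL e
  have hℓ : ∀ G, ℓ G = ∑ e, MvPolynomial.eval a (MvPolynomial.pderiv e p) * coeffL e G := fun G => by simp [ℓ]
  have hall : ∀ G, ℓ G = 0 := by
    intro G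
    let c := ev' (pullForm ι j G) / ev' (pullForm ι j L)
    have h1 : ℓ (G - c • L) = 0 := by
      rw [hℓ]
      refine (hgood j ev' hb').2 _ ?_
      simp only [pullForm_eq, Submodule.coe_sub, Submodule.coe_smul_of_tower, map_sub, map_smul, smul_eq_mul]
      simp only [← pullForm_eq, c]
      rw [div_mul_cancel₀ _ hLy, sub_self]
    have h2 : ℓ L = 0 := by rw [hℓ]; exact (hgood i ev hb).2 _ hLx
    rw [map_sub, map_smul, h2, smul_zero, sub_zero] at h1
    exact h1
  refine hap ?_
  have h := hall (mono e0)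
  rw [hℓ, Finset.sum_eq_single e0 (fun e _ he => by
    rw [show coeffL e (mono e0 : LefPen.Form r k d) = 0 by
      show MvPolynomial.coeff e.1 (MvPolynomial.monomial e0.1 (1 : k)) = 0
      rw [MvPolynomial.coeff_monomial, if_neg fun h => he (Subtype.ext h.symm)], mul_zero])
    (fun h => absurd (Finset.mem_univ _) h),
    show coeffL e0 (mono e0 : LefPen.Form r k d) = 1 by
      show MvPolynomial.coeff e0.1 (MvPolynomial.monomial e0.1 (1 : k)) = 1
      rw [MvPolynomial.coeff_monomial, if_pos rfl], mul_one] at h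
  exact h

end

end Groth.Agent.LefPenLib
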