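import Groth.Agent.LefPenLib.CharZero

/-!
# Lefschetz embeddings in characteristic zero
-/

set_option backward.isDefEq.respectTransparency false
set_option backward.isDefEq.respectTransparency.types false
set_option linter.unusedSectionVars false

universe u

open CategoryTheory AlgebraicGeometry

namespace Groth.Agent.LefPenLib

noncomputable section

variable {r : ℕ} {k : Type u} [Field k] {X : Scheme.{u}} (ι : X ⟶ CohB1.ProjSpace r k) {d : ℕ}

attribute [local instance] wAlgebra

variable [IsAlgClosed k] [IsClosedImmersion ι] [IrreducibleSpace X] {n : ℕ}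
  [hsmo : SmoothOfRelativeDimension n (ι ≫ CohB1.ProjSpace.toSpec r k)]

include hsmo

theorem isLefschetzEmb_charZero [CharZero k] (hn : 1 ≤ n) (hd : 1 ≤ d) : LefPen.IsLefschetzEmb k n ι d := by
  classical
  refine isLefschetzEmb_of_line (n := n) ι hn hd (exists_line_avoid_of (n := n) ι hn hd fun a0 f ha0 hf0 hf => ?_)
  obtain ⟨e0, he0⟩ : ∃ e, a0 e ≠ 0 := Function.ne_iff.1 ha0
  let η : MvPolynomial {e : Expo r d // e ≠ e0} k →ₐ[k] MvPolynomial (Expo r d) k :=
    MvPolynomial.aeval fun e => MvPolynomial.X e.1 - MvPolynomial.C (a0 e.1 / a0 e0) * MvPolynomial.X e0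
  have heval : ∀ (a : Expo r d → k) (s : MvPolynomial {e : Expo r d // e ≠ e0} k),
      MvPolynomial.eval a (η s) = MvPolynomial.eval (fun e => a e.1 - a0 e.1 / a0 e0 * a e0) s := by
    intro a s
    induction s using MvPolynomial.induction_on with
    | C c => simp [η]
    | add p q hp hq => rw [map_add, map_add, map_add, hp, hq]
    | mul_X p e hp =>
      rw [map_mul, map_mul, map_mul, hp, MvPolynomial.eval_X]
      simp [η]
  have hη0 : ∀ s, η s = 0 → s = 0 := fun s hs => by
    refine MvPolynomial.funext fun v => ?_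
    have h := heval (fun e => if h : e ≠ e0 then v ⟨e, h⟩ else 0) s
    rw [hs, map_zero] at h
    rw [map_zero, h]
    refine congrArg (fun w => MvPolynomial.eval w s) (funext fun e => ?_)
    simp [e.2]
  have hinv : ∀ (s : MvPolynomial {e : Expo r d // e ≠ e0} k) (a : Expo r d → k) (t : k),
      MvPolynomial.eval (a + t • a0) (η s) = MvPolynomial.eval a (η s) := by
    intro s a t
    rw [heval, heval]
    refine congrArg (fun w => MvPolynomial.eval w s) (funext fun e => ?_)
    simp only [Pi.add_apply, Pi.smul_apply, smul_eq_mul]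
    field_simp
    ring
  by_cases h : ∃ s : MvPolynomial {e : Expo r d // e ≠ e0} k, s ≠ 0 ∧
      ∀ a ∈ tanSet (d := d) ι, MvPolynomial.eval a (η s) = 0
  · obtain ⟨s, hs0, hs⟩ := h
    refine ⟨η s, fun h0 => hs0 (hη0 s h0), fun H hW => hs _ ?_, hinv s⟩
    obtain ⟨i, ev, hb, -⟩ := hW
    exact ⟨i, ev, by rwa [ofCoeff_coeffL]⟩
  · push Not at h
    have hf' : f ≠ 0 := fun h0 => hf0 (by rw [h0, map_zero])
    have hcard : Fintype.card {e : Expo r d // e ≠ e0} + 1 = Fintype.card (Expo r d) := by
      rw [Fintype.card_subtype_compl, Fintype.card_subtype_eq]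
      have : 0 < Fintype.card (Expo r d) := Fintype.card_pos_iff.2 ⟨e0⟩
      omega
    obtain ⟨H1, hH1⟩ := exists_oneOrdQuad_charZero (n := n) ι hn hd hcard η (tanSet (d := d) ι) (fun _ => Iff.rfl)
      ⟨_, tanSet_nonempty (n := n) ι hn⟩ (tanSet_irreducible (n := n) ι hn hd) f hf' hf h
    exact exists_invariant_of_oneOrdQuad (n := n) ι hn hd H1 hH1 a0 f ha0 hf0 hf

end

end Groth.Agent.LefPenLib
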