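import Groth.Agent.LefPenLib.Coord

/-!
# Coefficients of forms
-/

set_option linter.unusedSectionVars false

universe u

open MvPolynomial

namespace Groth.Agent.LefPenLib

variable {r : ℕ} {k : Type u} [Field k]

noncomputable section

/-- Exponents of monomials of degree `d`. -/
abbrev Expo (r d : ℕ) : Type := {e : Fin (r + 1) →₀ ℕ // e.degree = d}

instance (r d : ℕ) : Fintype (Expo r d) :=
  Fintype.ofInjective
    (fun e j => (⟨e.1 j, Nat.lt_succ_of_le ((Finsupp.le_degree j e.1).trans_eq e.2)⟩ : Fin (d + 1)))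
    fun a b h => Subtype.ext (Finsupp.ext fun j => Fin.val_eq_of_eq (congrFun h j))

variable {d : ℕ}

/-- The coefficient of a form. -/
def coeffL (e : Expo r d) : LefPen.Form r k d →ₗ[k] k :=
  MvPolynomial.lcoeff k e.1 ∘ₗ (CohB1.polyGrading r k d).subtype

theorem monomial_mem (e : Expo r d) (c : k) : monomial e.1 c ∈ CohB1.polyGrading r k d :=
  (mem_homogeneousSubmodule d _).2 (isHomogeneous_monomial c e.2)

/-- The form with given coefficients. -/
def ofCoeff (a : Expo r d → k) : LefPen.Form r k d := ∑ e, ⟨monomial e.1 (a e), monomial_mem e _⟩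

theorem coe_ofCoeff (a : Expo r d → k) : (ofCoeff a).1 = ∑ e : Expo r d, monomial e.1 (a e) :=
  AddSubmonoidClass.coe_finsetSum _ _

theorem coeffL_ofCoeff (a : Expo r d → k) (e : Expo r d) : coeffL e (ofCoeff a) = a e := by
  classical
  show MvPolynomial.coeff e.1 (ofCoeff a).1 = a e
  rw [coe_ofCoeff, coeff_sum, Finset.sum_eq_single e (fun b _ hb => by
    rw [coeff_monomial, if_neg fun h => hb (Subtype.ext h)]) (fun h => absurd (Finset.mem_univ e) h),
    coeff_monomial, if_pos rfl]

theorem eq_sum_coeff (H : LefPen.Form r k d) : H.1 = ∑ e : Expo r d, monomial e.1 (coeffL e H) := by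
  classical
  ext m
  rw [coeff_sum]
  by_cases hm : m.degree = d
  · rw [Finset.sum_eq_single (⟨m, hm⟩ : Expo r d) (fun b _ hb => by
      rw [coeff_monomial, if_neg fun h => hb (Subtype.ext h)]) (fun h => absurd (Finset.mem_univ _) h),
      coeff_monomial, if_pos rfl]
    rfl
  · rw [Finset.sum_eq_zero fun b _ => by rw [coeff_monomial, if_neg fun (h : b.1 = m) => hm (h ▸ b.2)]]
    exact ((mem_homogeneousSubmodule d _).1 H.2).coeff_eq_zero (by simpa [Finsupp.degree] using hm)

theorem isPolyFun_eval_coeff (g : MvPolynomial (Expo r d) k) :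
    LefPen.IsPolyFun k (fun H : LefPen.Form r k d => eval (fun e => coeffL e H) g) := by
  have e : (fun H : LefPen.Form r k d => eval (fun e => coeffL e H) g) =
      aeval (fun e => ((coeffL e : LefPen.Form r k d →ₗ[k] k) : LefPen.Form r k d → k)) g := by
    induction g using MvPolynomial.induction_on with
    | C c => ext H; simp
    | add p q hp hq => rw [map_add, ← hp, ← hq]; ext H; simp
    | mul_X p s hp => rw [map_mul, ← hp, aeval_X]; ext H; simp
  rw [LefPen.IsPolyFun, e]
  refine SetLike.le_def.1 ?_ ((Algebra.adjoin_range_eq_range_aeval k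
    (fun e => ((coeffL e : LefPen.Form r k d →ₗ[k] k) : LefPen.Form r k d → k))).symm ▸
      AlgHom.mem_range_self _ g)
  exact Algebra.adjoin_mono (Set.range_subset_iff.2 fun e => ⟨coeffL e, rfl⟩)

end

end Groth.Agent.LefPenLib
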