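import Groth.Agent.LefPenLib.Tangent
import Groth.Agent.Adic7.Lift
import Mathlib.RingTheory.AdicCompletion.Algebra

/-!
# Second order infinitesimal points
-/

set_option backward.isDefEq.respectTransparency false
set_option backward.isDefEq.respectTransparency.types false

universe u

namespace Groth.Agent.LefPenLib

noncomputable section

/-- `k[ε]/(ε³)`. -/
@[ext] structure T3 (k : Type u) where
  /-- constant coefficient -/
  c0 : k
  /-- linear coefficient -/
  c1 : k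
  /-- quadratic coefficient -/
  c2 : k

namespace T3

variable {k : Type u} [Field k]

instance : Zero (T3 k) := ⟨⟨0, 0, 0⟩⟩
instance : One (T3 k) := ⟨⟨1, 0, 0⟩⟩
instance : Add (T3 k) := ⟨fun a b => ⟨a.c0 + b.c0, a.c1 + b.c1, a.c2 + b.c2⟩⟩
instance : Neg (T3 k) := ⟨fun a => ⟨-a.c0, -a.c1, -a.c2⟩⟩
instance : Sub (T3 k) := ⟨fun a b => ⟨a.c0 - b.c0, a.c1 - b.c1, a.c2 - b.c2⟩⟩
instance : Mul (T3 k) :=
  ⟨fun a b => ⟨a.c0 * b.c0, a.c0 * b.c1 + a.c1 * b.c0, a.c0 * b.c2 + a.c1 * b.c1 + a.c2 * b.c0⟩⟩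

@[simp] theorem zero_c0 : (0 : T3 k).c0 = 0 := rfl
@[simp] theorem zero_c1 : (0 : T3 k).c1 = 0 := rfl
@[simp] theorem zero_c2 : (0 : T3 k).c2 = 0 := rfl
@[simp] theorem one_c0 : (1 : T3 k).c0 = 1 := rfl
@[simp] theorem one_c1 : (1 : T3 k).c1 = 0 := rfl
@[simp] theorem one_c2 : (1 : T3 k).c2 = 0 := rfl
@[simp] theorem add_c0 (a b : T3 k) : (a + b).c0 = a.c0 + b.c0 := rfl
@[simp] theorem add_c1 (a b : T3 k) : (a + b).c1 = a.c1 + b.c1 := rfl
@[simp] theorem add_c2 (a b : T3 k) : (a + b).c2 = a.c2 + b.c2 := rfl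
@[simp] theorem neg_c0 (a : T3 k) : (-a).c0 = -a.c0 := rfl
@[simp] theorem neg_c1 (a : T3 k) : (-a).c1 = -a.c1 := rfl
@[simp] theorem neg_c2 (a : T3 k) : (-a).c2 = -a.c2 := rfl
@[simp] theorem sub_c0 (a b : T3 k) : (a - b).c0 = a.c0 - b.c0 := rfl
@[simp] theorem sub_c1 (a b : T3 k) : (a - b).c1 = a.c1 - b.c1 := rfl
@[simp] theorem sub_c2 (a b : T3 k) : (a - b).c2 = a.c2 - b.c2 := rfl
@[simp] theorem mul_c0 (a b : T3 k) : (a * b).c0 = a.c0 * b.c0 := rfl
@[simp] theorem mul_c1 (a b : T3 k) : (a * b).c1 = a.c0 * b.c1 + a.c1 * b.c0 := rfl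
@[simp] theorem mul_c2 (a b : T3 k) : (a * b).c2 = a.c0 * b.c2 + a.c1 * b.c1 + a.c2 * b.c0 := rfl

instance : CommRing (T3 k) where
  add_assoc a b c := by ext <;> simp [add_assoc]
  zero_add a := by ext <;> simp
  add_zero a := by ext <;> simp
  add_comm a b := by ext <;> simp [add_comm]
  neg_add_cancel a := by ext <;> simp
  sub_eq_add_neg a b := by ext <;> simp [sub_eq_add_neg]
  mul_assoc a b c := by ext <;> simp <;> ring
  one_mul a := by ext <;> simp
  mul_one a := by ext <;> simp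
  left_distrib a b c := by ext <;> simp <;> ring
  right_distrib a b c := by ext <;> simp <;> ring
  zero_mul a := by ext <;> simp
  mul_zero a := by ext <;> simp
  mul_comm a b := by ext <;> simp <;> ring
  nsmul := nsmulRec
  zsmul := zsmulRec

/-- The constants. -/
def ofConst : k →+* T3 k where
  toFun c := ⟨c, 0, 0⟩
  map_one' := rfl
  map_mul' a b := by ext <;> simp
  map_zero' := rfl
  map_add' a b := by ext <;> simp

instance : Algebra k (T3 k) := (ofConst (k := k)).toAlgebra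

@[simp] theorem algebraMap_c0 (c : k) : (algebraMap k (T3 k) c).c0 = c := rfl
@[simp] theorem algebraMap_c1 (c : k) : (algebraMap k (T3 k) c).c1 = 0 := rfl
@[simp] theorem algebraMap_c2 (c : k) : (algebraMap k (T3 k) c).c2 = 0 := rfl

/-- The constant coefficient. -/
def fstHom : T3 k →ₐ[k] k where
  toFun a := a.c0
  map_one' := rfl
  map_mul' _ _ := rfl
  map_zero' := rfl
  map_add' _ _ := rfl
  commutes' _ := rfl

/-- The first order part. -/
def dualHom : T3 k →ₐ[k] DualNumber k where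
  toFun a := TrivSqZeroExt.inl a.c0 + TrivSqZeroExt.inr a.c1
  map_one' := by simp
  map_mul' a b := by ext <;> simp [mul_comm, add_comm]
  map_zero' := by simp
  map_add' a b := by ext <;> simp
  commutes' c := by ext <;> simp [TrivSqZeroExt.algebraMap_eq_inl]

end T3

variable {k : Type u} [Field k]

/-- The second projection of `k[ε, δ]/(ε², δ²)` to the dual numbers. -/
def sndProj : DualNumber (DualNumber k) →ₐ[k] DualNumber k where
  toFun a := TrivSqZeroExt.inl (TrivSqZeroExt.fst a).fst + TrivSqZeroExt.inr (TrivSqZeroExt.snd a).fst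
  map_one' := by simp
  map_mul' a b := by ext <;> simp [mul_comm, add_comm]
  map_zero' := by simp
  map_add' a b := by ext <;> simp
  commutes' c := by
    ext <;> simp [TrivSqZeroExt.algebraMap_eq_inl']

/-- The first projection of `k[ε, δ]/(ε², δ²)` to the dual numbers. -/
def fstProj : DualNumber (DualNumber k) →ₐ[k] DualNumber k where
  toFun a := TrivSqZeroExt.fst a
  map_one' := rfl
  map_mul' a b := TrivSqZeroExt.fst_mul a b
  map_zero' := rfl
  map_add' a b := rfl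
  commutes' c := by simp [TrivSqZeroExt.algebraMap_eq_inl']

/-- The augmentation of `k[ε, δ]/(ε², δ²)`. -/
def fst2 : DualNumber (DualNumber k) →ₐ[k] k where
  toFun a := (TrivSqZeroExt.fst a).fst
  map_one' := rfl
  map_mul' a b := by simp
  map_zero' := rfl
  map_add' a b := by simp
  commutes' c := by simp [TrivSqZeroExt.algebraMap_eq_inl']

/-- An augmented algebra whose augmentation ideal has cube zero. -/
structure IsTestRing {R : Type u} [CommRing R] [Algebra k R] (π : R →ₐ[k] k) : Prop where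
  cube : ∀ a b c : R, π a = 0 → π b = 0 → π c = 0 → a * b * c = 0

theorem isTestRing_dualNumber : IsTestRing (TrivSqZeroExt.fstHom k k k : DualNumber k →ₐ[k] k) :=
  ⟨fun a b c (ha : a.fst = 0) (hb : b.fst = 0) _ => by ext <;> simp [ha, hb]⟩

theorem isTestRing_T3 : IsTestRing (T3.fstHom : T3 k →ₐ[k] k) :=
  ⟨fun a b c (ha : a.c0 = 0) (hb : b.c0 = 0) (hc : c.c0 = 0) => by ext <;> simp [ha, hb, hc]⟩

theorem isTestRing_dualDual : IsTestRing (R := DualNumber (DualNumber k)) (fst2 : DualNumber (DualNumber k) →ₐ[k] k) :=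
  ⟨fun a b c (ha : a.fst.fst = 0) (hb : b.fst.fst = 0) (hc : c.fst.fst = 0) => by ext <;> simp [ha, hb, hc]⟩

theorem IsTestRing.isUnit {R : Type u} [CommRing R] [Algebra k R] {π : R →ₐ[k] k} (hπ : IsTestRing π) {x : R}
    (hx : π x ≠ 0) : IsUnit x := by
  have h0 : π (x - algebraMap k R (π x)) = 0 := by rw [map_sub, AlgHom.commutes, Algebra.algebraMap_self_apply, sub_self]
  have hn : IsNilpotent (x - algebraMap k R (π x)) := ⟨3, by rw [pow_three, ← mul_assoc]; exact hπ.cube _ _ _ h0 h0 h0⟩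
  have h := hn.isUnit_add_left_of_commute ((isUnit_iff_ne_zero.2 hx).map (algebraMap k R)) (Commute.all _ _)
  rwa [add_sub_cancel] at h

variable {A A' A'' : Type u} [CommRing A] [Algebra k A] [CommRing A'] [Algebra k A'] [CommRing A''] [Algebra k A'']

/-- `g` identifies the second order infinitesimal points at two rational points. -/
structure IsTestEquiv (g : A →ₐ[k] A') (ev : A →ₐ[k] k) (ev' : A' →ₐ[k] k) : Prop where
  comp_eq : ev'.comp g = ev
  lift : ∀ (R : Type u) [CommRing R] [Algebra k R] (π : R →ₐ[k] k), IsTestRing π →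
    ∀ φ : A →ₐ[k] R, π.comp φ = ev → ∃ φ' : A' →ₐ[k] R, π.comp φ' = ev' ∧ φ'.comp g = φ
  unique : ∀ (R : Type u) [CommRing R] [Algebra k R] (π : R →ₐ[k] k), IsTestRing π →
    ∀ φ ψ : A' →ₐ[k] R, π.comp φ = ev' → π.comp ψ = ev' → φ.comp g = ψ.comp g → φ = ψ

theorem IsTestEquiv.trans {g : A →ₐ[k] A'} {g' : A' →ₐ[k] A''} {ev : A →ₐ[k] k} {ev' : A' →ₐ[k] k}
    {ev'' : A'' →ₐ[k] k} (h : IsTestEquiv g ev ev') (h' : IsTestEquiv g' ev' ev'') :
    IsTestEquiv (g'.comp g) ev ev'' where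
  comp_eq := by rw [← AlgHom.comp_assoc, h'.comp_eq, h.comp_eq]
  lift R _ _ π hπ φ hφ := by
    obtain ⟨φ', h1, h2⟩ := h.lift R π hπ φ hφ
    obtain ⟨φ'', h3, h4⟩ := h'.lift R π hπ φ' h1
    exact ⟨φ'', h3, by rw [← AlgHom.comp_assoc, h4, h2]⟩
  unique R _ _ π hπ φ ψ hφ hψ he := h'.unique R π hπ φ ψ hφ hψ
    (h.unique R π hπ _ _ (by rw [← AlgHom.comp_assoc, hφ, h'.comp_eq]) (by rw [← AlgHom.comp_assoc, hψ, h'.comp_eq])
      (by rw [AlgHom.comp_assoc, AlgHom.comp_assoc, he]))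

theorem isTestEquiv_algEquiv (e : A ≃ₐ[k] A') (ev' : A' →ₐ[k] k) :
    IsTestEquiv e.toAlgHom (ev'.comp e.toAlgHom) ev' where
  comp_eq := rfl
  lift R _ _ π _ φ hφ := ⟨φ.comp e.symm.toAlgHom, by
    rw [← AlgHom.comp_assoc, hφ]
    exact AlgHom.ext fun a => congrArg ev' (e.apply_symm_apply a), AlgHom.ext fun a => congrArg φ (e.symm_apply_apply a)⟩
  unique R _ _ _ _ φ ψ _ _ he := AlgHom.ext fun a => by
    have := DFunLike.congr_fun he (e.symm a)
    simpa using this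

section Localization

variable [Algebra A A'] [IsScalarTower k A A'] (M : Submonoid A) [IsLocalization M A']

include M in
theorem isTestEquiv_localization (ev' : A' →ₐ[k] k) :
    IsTestEquiv (IsScalarTower.toAlgHom k A A') (ev'.comp (IsScalarTower.toAlgHom k A A')) ev' where
  comp_eq := rfl
  lift R _ _ π hπ φ hφ := by
    have hunit : ∀ y : M, IsUnit (φ y) := fun y => hπ.isUnit (by
      rw [← AlgHom.comp_apply, hφ]
      exact ((IsLocalization.map_units A' y).map ev').ne_zero)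
    let ψ : A' →ₐ[k] R := IsLocalization.liftAlgHom (M := M) hunit
    have hψ : ψ.comp (IsScalarTower.toAlgHom k A A') = φ := AlgHom.ext fun a => by
      show IsLocalization.liftAlgHom (M := M) hunit (algebraMap A A' a) = φ a
      rw [IsLocalization.liftAlgHom_apply]
      exact IsLocalization.lift_eq _ a
    exact ⟨ψ, IsLocalization.algHom_ext M (by
      show (π.comp ψ).comp (IsScalarTower.toAlgHom k A A') = ev'.comp (IsScalarTower.toAlgHom k A A')
      rw [AlgHom.comp_assoc, hψ, hφ]), hψ⟩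
  unique R _ _ _ _ φ ψ _ _ he := IsLocalization.algHom_ext M he

end Localization

/-- Completion does not change the second order infinitesimal points. -/
theorem isTestEquiv_completion [IsNoetherianRing A] (m : Ideal A) (ev' : AdicCompletion m A →ₐ[k] k)
    (hm : ∀ a ∈ m, ev' (algebraMap A (AdicCompletion m A) a) = 0) :
    IsTestEquiv (IsScalarTower.toAlgHom k A (AdicCompletion m A))
      (ev'.comp (IsScalarTower.toAlgHom k A (AdicCompletion m A))) ev' where
  comp_eq := rfl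
  lift R _ _ π hπ φ hφ := by
    have hm3 : m ^ 3 ≤ RingHom.ker φ.toRingHom := by
      rw [pow_three, ← mul_assoc, Ideal.mul_le]
      intro ab hab c hc
      refine Submodule.mul_induction_on hab (fun a ha b hb => ?_) (fun x y hx hy => by rw [add_mul]; exact add_mem hx hy)
      rw [RingHom.mem_ker, map_mul, map_mul]
      have h : ∀ x ∈ m, π (φ x) = 0 := fun x hx => by rw [← AlgHom.comp_apply, hφ]; exact hm x hx
      exact hπ.cube _ _ _ (h a ha) (h b hb) (h c hc)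
    let ψ : AdicCompletion m A →ₐ[k] R :=
      (Ideal.Quotient.liftₐ (m ^ 3) φ fun a ha => hm3 ha).comp ((AdicCompletion.evalₐ m 3).restrictScalars k)
    have hψ : ∀ a, ψ (algebraMap A (AdicCompletion m A) a) = φ a := fun a => by
      show Ideal.Quotient.liftₐ (m ^ 3) φ (fun a ha => hm3 ha) (AdicCompletion.evalₐ m 3 (algebraMap A _ a)) = φ a
      rw [AlgHom.commutes]
      rfl
    refine ⟨ψ, AlgHom.ext fun x => ?_, AlgHom.ext hψ⟩
    obtain ⟨a, ha⟩ := Adic7.exists_sub_algebraMap_mem m (IsNoetherian.noetherian _) x 3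
    have h1 : ∀ (χ : AdicCompletion m A →ₐ[k] k), (∀ b ∈ m, χ (algebraMap A _ b) = 0) →
        χ x = χ (algebraMap A _ a) := fun χ hχ => by
      rw [← sub_eq_zero, ← map_sub]
      refine (Ideal.map_le_iff_le_comap.2 (fun b hb => hχ b hb) : m.map (algebraMap A _) ≤ RingHom.ker χ.toRingHom) ?_
      exact Ideal.pow_le_self three_ne_zero ha
    rw [h1 (π.comp ψ) (fun b hb => by rw [AlgHom.comp_apply, hψ, ← AlgHom.comp_apply, hφ]; exact hm b hb), h1 ev' hm,
      AlgHom.comp_apply, hψ, ← AlgHom.comp_apply, hφ]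
    rfl
  unique R _ _ π hπ φ ψ hφ hψ he := AlgHom.ext fun x => by
    obtain ⟨a, ha⟩ := Adic7.exists_sub_algebraMap_mem m (IsNoetherian.noetherian _) x 3
    have hkill : ∀ χ : AdicCompletion m A →ₐ[k] R, π.comp χ = ev' → χ x = χ (algebraMap A _ a) := fun χ hχ => by
      rw [← sub_eq_zero, ← map_sub]
      refine (?_ : (m.map (algebraMap A (AdicCompletion m A))) ^ 3 ≤ RingHom.ker χ.toRingHom) ha
      rw [pow_three, ← mul_assoc, Ideal.mul_le]
      intro ab hab c hc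
      refine Submodule.mul_induction_on hab (fun a ha b hb => ?_) (fun x y hx hy => by rw [add_mul]; exact add_mem hx hy)
      rw [RingHom.mem_ker, map_mul, map_mul]
      have h : ∀ y ∈ m.map (algebraMap A (AdicCompletion m A)), π (χ y) = 0 := fun y hy => by
        rw [← AlgHom.comp_apply, hχ]
        exact (Ideal.map_le_iff_le_comap.2 (fun b hb => hm b hb) : m.map (algebraMap A _) ≤ RingHom.ker ev'.toRingHom) hy
      exact hπ.cube _ _ _ (h a ha) (h b hb) (h c hc)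
    rw [hkill φ hφ, hkill ψ hψ]
    exact DFunLike.congr_fun he a

/-- The cone of second order contact of `h = 0` at `ev` has a singular line: there is a nonzero tangent
vector which extends to second order and is orthogonal to all others. -/
def DegPt (ev : A →ₐ[k] k) (h : A) : Prop :=
  ∃ φ : A →ₐ[k] DualNumber k, (TrivSqZeroExt.fstHom k k k).comp φ = ev ∧ φ h = 0 ∧
    (∃ a, TrivSqZeroExt.snd (φ a) ≠ 0) ∧
    (∃ ψ : A →ₐ[k] T3 k, T3.dualHom.comp ψ = φ ∧ ψ h = 0) ∧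
    ∀ χ : A →ₐ[k] DualNumber k, (TrivSqZeroExt.fstHom k k k).comp χ = ev → χ h = 0 →
      ∃ Φ : A →ₐ[k] DualNumber (DualNumber k),
        (fstProj.comp Φ = φ ∧ sndProj.comp Φ = χ) ∧ Φ h = 0

theorem fst_dualHom : (TrivSqZeroExt.fstHom k k k).comp (T3.dualHom : T3 k →ₐ[k] DualNumber k) = T3.fstHom :=
  AlgHom.ext fun a => by simp [T3.dualHom, T3.fstHom]

theorem fst_fstProj (φ : A →ₐ[k] DualNumber (DualNumber k)) :
    (TrivSqZeroExt.fstHom k k k).comp (fstProj.comp φ) = fst2.comp φ :=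
  AlgHom.ext fun _ => rfl

theorem fst_sndProj (φ : A →ₐ[k] DualNumber (DualNumber k)) :
    (TrivSqZeroExt.fstHom k k k).comp (sndProj.comp φ) = fst2.comp φ :=
  AlgHom.ext fun a => by simp [sndProj, fst2]

theorem IsTestEquiv.degPt {g : A →ₐ[k] A'} {ev : A →ₐ[k] k} {ev' : A' →ₐ[k] k} (H : IsTestEquiv g ev ev') (h : A) :
    DegPt ev h ↔ DegPt ev' (g h) := by
  constructor
  · rintro ⟨φ, hφ, hh, ⟨a, ha⟩, ⟨ψ, hψ, hψh⟩, hall⟩
    obtain ⟨φ', hφ', hφg⟩ := H.lift _ _ isTestRing_dualNumber φ hφ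
    obtain ⟨ψ', hψ', hψg⟩ := H.lift _ _ isTestRing_T3 ψ (by rw [← fst_dualHom, AlgHom.comp_assoc, hψ, hφ])
    refine ⟨φ', hφ', by rw [← AlgHom.comp_apply, hφg, hh], ⟨g a, by rw [← AlgHom.comp_apply, hφg]; exact ha⟩,
      ⟨ψ', H.unique _ _ isTestRing_dualNumber _ _ (by rw [← AlgHom.comp_assoc, fst_dualHom, hψ']) hφ'
        (by rw [AlgHom.comp_assoc, hψg, hψ, hφg]), by rw [← AlgHom.comp_apply, hψg, hψh]⟩,
      fun χ hχ hχh => ?_⟩
    obtain ⟨Φ, ⟨h1, h2⟩, h3⟩ := hall (χ.comp g) (by rw [← AlgHom.comp_assoc, hχ, H.comp_eq]) hχh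
    obtain ⟨Φ', hΦ', hΦg⟩ := H.lift _ _ isTestRing_dualDual Φ
      (by rw [← fst_sndProj, h2, ← AlgHom.comp_assoc, hχ, H.comp_eq])
    exact ⟨Φ', ⟨H.unique _ _ isTestRing_dualNumber _ _ (by rw [fst_fstProj, hΦ']) hφ'
        (by rw [AlgHom.comp_assoc, hΦg, h1, hφg]),
      H.unique _ _ isTestRing_dualNumber _ _ (by rw [fst_sndProj, hΦ']) hχ
        (by rw [AlgHom.comp_assoc, hΦg, h2])⟩, by rw [← AlgHom.comp_apply, hΦg, h3]⟩
  · rintro ⟨φ, hφ, hh, ⟨a, ha⟩, ⟨ψ, hψ, hψh⟩, hall⟩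
    refine ⟨φ.comp g, by rw [← AlgHom.comp_assoc, hφ, H.comp_eq], hh, ?_,
      ⟨ψ.comp g, by rw [← AlgHom.comp_assoc, hψ], hψh⟩, fun χ hχ hχh => ?_⟩
    · by_contra! hc
      let triv : A' →ₐ[k] DualNumber k := (Algebra.ofId k (DualNumber k)).comp ev'
      have htriv : (TrivSqZeroExt.fstHom k k k).comp triv = ev' := AlgHom.ext fun b => by
        simp [triv, Algebra.ofId_apply, TrivSqZeroExt.algebraMap_eq_inl]
      refine ha ?_
      rw [H.unique _ _ isTestRing_dualNumber φ triv hφ htriv (AlgHom.ext fun b => ?_)]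
      · simp [triv, Algebra.ofId_apply, TrivSqZeroExt.algebraMap_eq_inl]
      · refine TrivSqZeroExt.ext ?_ ?_
        · exact (DFunLike.congr_fun hφ (g b)).trans (DFunLike.congr_fun htriv (g b)).symm
        · exact (hc b).trans (by simp [triv, Algebra.ofId_apply, TrivSqZeroExt.algebraMap_eq_inl])
    · obtain ⟨χ', hχ', hχg⟩ := H.lift _ _ isTestRing_dualNumber χ hχ
      obtain ⟨Φ, ⟨h1, h2⟩, h3⟩ := hall χ' hχ' (by rw [← AlgHom.comp_apply, hχg, hχh])
      exact ⟨Φ.comp g, ⟨by rw [← AlgHom.comp_assoc, h1], by rw [← AlgHom.comp_assoc, h2, hχg]⟩, h3⟩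

theorem exists_quotientLift (h : A) {R : Type u} [CommRing R] [Algebra k R] (φ : A →ₐ[k] R) (hφ : φ h = 0) :
    ∃ φ' : (A ⧸ Ideal.span {h}) →ₐ[k] R, φ'.comp (Ideal.Quotient.mkₐ k _) = φ := by
  refine ⟨Ideal.Quotient.liftₐ _ φ fun a ha => ?_, Ideal.Quotient.liftₐ_comp _ _ _⟩
  obtain ⟨c, rfl⟩ := Ideal.mem_span_singleton'.1 ha
  rw [map_mul, hφ, mul_zero]

/-- Passing to the quotient by the equation. -/
theorem degPt_quotient (ev : A →ₐ[k] k) (h : A) (evC : (A ⧸ Ideal.span {h}) →ₐ[k] k)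
    (hev : evC.comp (Ideal.Quotient.mkₐ k _) = ev) : DegPt evC 0 ↔ DegPt ev h := by
  have hk : Ideal.Quotient.mkₐ k (Ideal.span {h}) h = 0 :=
    Ideal.Quotient.eq_zero_iff_mem.2 (Ideal.mem_span_singleton_self h)
  constructor
  · rintro ⟨φ, hφ, -, ⟨a, ha⟩, ⟨ψ, hψ, -⟩, hall⟩
    obtain ⟨a, rfl⟩ := Ideal.Quotient.mk_surjective a
    refine ⟨φ.comp (Ideal.Quotient.mkₐ k _), by rw [← AlgHom.comp_assoc, hφ, hev],
      by rw [AlgHom.comp_apply, hk, map_zero], ⟨a, ha⟩,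
      ⟨ψ.comp (Ideal.Quotient.mkₐ k _), by rw [← AlgHom.comp_assoc, hψ], by rw [AlgHom.comp_apply, hk, map_zero]⟩,
      fun χ hχ hχh => ?_⟩
    obtain ⟨χ', hχ'⟩ := exists_quotientLift h χ hχh
    obtain ⟨Φ, ⟨h1, h2⟩, -⟩ := hall χ' (Ideal.Quotient.algHom_ext k (by rw [AlgHom.comp_assoc, hχ', hχ, hev]))
      (map_zero _)
    exact ⟨Φ.comp (Ideal.Quotient.mkₐ k _), ⟨by rw [← AlgHom.comp_assoc, h1], by rw [← AlgHom.comp_assoc, h2, hχ']⟩,
      by rw [AlgHom.comp_apply, hk, map_zero]⟩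
  · rintro ⟨φ, hφ, hh, ⟨a, ha⟩, ⟨ψ, hψ, hψh⟩, hall⟩
    obtain ⟨φ', hφ'⟩ := exists_quotientLift h φ hh
    obtain ⟨ψ', hψ'⟩ := exists_quotientLift h ψ hψh
    refine ⟨φ', Ideal.Quotient.algHom_ext k (by rw [AlgHom.comp_assoc, hφ', hφ, hev]), map_zero _,
      ⟨Ideal.Quotient.mk _ a, by rw [show φ' (Ideal.Quotient.mk _ a) = φ a from DFunLike.congr_fun hφ' a]; exact ha⟩,
      ⟨ψ', Ideal.Quotient.algHom_ext k (by rw [AlgHom.comp_assoc, hψ', hψ, hφ']), map_zero _⟩, fun χ hχ _ => ?_⟩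
    obtain ⟨Φ, ⟨h1, h2⟩, h3⟩ := hall (χ.comp (Ideal.Quotient.mkₐ k _)) (by rw [← AlgHom.comp_assoc, hχ, hev])
      (by rw [AlgHom.comp_apply, hk, map_zero])
    obtain ⟨Φ', hΦ'⟩ := exists_quotientLift (R := DualNumber (DualNumber k)) h Φ h3
    exact ⟨Φ', ⟨Ideal.Quotient.algHom_ext k (by rw [AlgHom.comp_assoc, hΦ', h1, hφ']),
      Ideal.Quotient.algHom_ext k (by rw [AlgHom.comp_assoc, hΦ', h2])⟩, map_zero _⟩

end

end Groth.Agent.LefPenLib
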