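import Groth.Agent.LefPenLib.Points
import Groth.Agent.LefPenLib.Test

/-!
# The cone does not depend on the chart
-/

set_option backward.isDefEq.respectTransparency false
set_option backward.isDefEq.respectTransparency.types false
set_option linter.unusedSectionVars false
set_option linter.style.haveILetI false

universe u

open CategoryTheory AlgebraicGeometry TopologicalSpace

namespace Groth.Agent.LefPenLib

noncomputable section

variable {k : Type u} [Field k]

theorem degPt_unit_mul {A : Type u} [CommRing A] [Algebra k A] {ev : A →ₐ[k] k} {u : A} (hu : ev u ≠ 0) (h : A) :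
    DegPt ev (u * h) ↔ DegPt ev h := by
  have key : ∀ {R : Type u} [CommRing R] [Algebra k R] {π : R →ₐ[k] k}, IsTestRing π →
      ∀ χ : A →ₐ[k] R, π.comp χ = ev → (χ (u * h) = 0 ↔ χ h = 0) := fun {R} _ _ {π} hπ χ hχ => by
    rw [map_mul]
    exact (hπ.isUnit (by rw [← AlgHom.comp_apply, hχ]; exact hu)).mul_right_eq_zero
  constructor <;> rintro ⟨φ, hφ, h1, ha, ⟨ψ, h2, h3⟩, hall⟩
  · refine ⟨φ, hφ, (key isTestRing_dualNumber φ hφ).1 h1, ha,
      ⟨ψ, h2, (key isTestRing_T3 ψ (by rw [← fst_dualHom, AlgHom.comp_assoc, h2, hφ])).1 h3⟩, fun χ hχ hχh => ?_⟩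
    obtain ⟨Φ, ⟨h4, h5⟩, h6⟩ := hall χ hχ ((key isTestRing_dualNumber χ hχ).2 hχh)
    exact ⟨Φ, ⟨h4, h5⟩, (key (R := DualNumber (DualNumber k)) isTestRing_dualDual Φ
      (by rw [← fst_sndProj, h5, hχ])).1 h6⟩
  · refine ⟨φ, hφ, (key isTestRing_dualNumber φ hφ).2 h1, ha,
      ⟨ψ, h2, (key isTestRing_T3 ψ (by rw [← fst_dualHom, AlgHom.comp_assoc, h2, hφ])).2 h3⟩, fun χ hχ hχh => ?_⟩
    obtain ⟨Φ, ⟨h4, h5⟩, h6⟩ := hall χ hχ ((key isTestRing_dualNumber χ hχ).1 hχh)
    exact ⟨Φ, ⟨h4, h5⟩, (key (R := DualNumber (DualNumber k)) isTestRing_dualDual Φ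
      (by rw [← fst_sndProj, h5, hχ])).2 h6⟩

variable {r : ℕ} {X : Scheme.{u}} (ι : X ⟶ CohB1.ProjSpace r k) {d : ℕ}

attribute [local instance] wAlgebra

/-- Degeneracy is independent of the chart. -/
theorem degPt_change [IsClosedImmersion ι] {i j : Fin (r + 1)} {evi : Γ(X, wOpen ι i) →ₐ[k] k}
    {evj : Γ(X, wOpen ι j) →ₐ[k] k} (hne : vec ι j evj i ≠ 0)
    (hrel : ∀ l, vec ι j evj l = vec ι j evj i * vec ι i evi l) (H : LefPen.Form r k d) :
    DegPt evi (pullForm ι i H) ↔ DegPt evj (pullForm ι j H) := by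
  obtain ⟨φ, ψ', hψ, hφ, hform⟩ := exists_change' ι i j evj (isUnit_iff_ne_zero.2 hne)
  have hφev : φ = evi := point_ext ι i fun l => by
    have h1 := hform 1 (lin l)
    rw [pow_one, pullForm_eq, pullForm_eq] at h1
    exact mul_left_cancel₀ hne (h1.symm.trans (hrel l))
  subst hφev
  let P := CohB1.ProjSpace r k
  let V : X.Opens := ι ⁻¹ᵁ (LefPen.chart r k j ⊓ LefPen.chart r k i)
  have hle : V ≤ wOpen ι j := fun x hx => hx.1
  have hle' : V ≤ wOpen ι i := fun x hx => hx.2
  letI : Algebra k Γ(X, V) := (SmoothReg.affMap (ι ≫ CohB1.ProjSpace.toSpec r k) V).toAlgebra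
  let resJ : Γ(X, wOpen ι j) →ₐ[k] Γ(X, V) :=
    { (X.presheaf.map (homOfLE hle).op).hom with commutes' := fun c => affMap_res ι j hle c }
  let resI : Γ(X, wOpen ι i) →ₐ[k] Γ(X, V) :=
    { (X.presheaf.map (homOfLE hle').op).hom with commutes' := fun c => affMap_res ι i hle' c }
  let evV : Γ(X, V) →ₐ[k] k :=
    { ψ' with
      commutes' := fun c => by
        show ψ' (algebraMap k Γ(X, V) c) = _
        rw [← AlgHom.commutes resJ c]
        exact (hψ _).trans (evj.commutes c) }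
  have hcoord : ∀ a b : Fin (r + 1), X.basicOpen (pullPoly ι a (MvPolynomial.X b)) =
      ι ⁻¹ᵁ (LefPen.chart r k a ⊓ LefPen.chart r k b) := fun a b => by
    have hyeq : pullPoly ι a (MvPolynomial.X b) = ι.app (LefPen.chart r k a)
        ((Proj.awayToSection (CohB1.polyGrading r k) (MvPolynomial.X a)).hom (ZetaLib.coord r k a b)) := by
      show ι.app _ ((Proj.awayToSection _ _).hom (ZetaLib.dehom r k a (MvPolynomial.X b))) = _
      rw [ZetaLib.dehom, MvPolynomial.eval₂Hom_X']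
    rw [hyeq, ← Scheme.preimage_basicOpen, basicOpen_coord]
  have hJ : IsTestEquiv resJ evj evV := by
    letI : Algebra Γ(X, wOpen ι j) Γ(X, V) := resJ.toRingHom.toAlgebra
    haveI : IsScalarTower k Γ(X, wOpen ι j) Γ(X, V) := IsScalarTower.of_algebraMap_eq fun c => (resJ.commutes c).symm
    haveI : IsLocalization.Away (pullPoly ι j (MvPolynomial.X i)) Γ(X, V) :=
      (isAffine_wOpen ι j).isLocalization_of_eq_basicOpen _ (homOfLE hle) (hcoord j i).symm
    have h1 := isTestEquiv_localization (A' := Γ(X, V)) (Submonoid.powers (pullPoly ι j (MvPolynomial.X i))) evV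
    rwa [show evV.comp (IsScalarTower.toAlgHom k Γ(X, wOpen ι j) Γ(X, V)) = evj from AlgHom.ext hψ] at h1
  have hI : IsTestEquiv resI φ evV := by
    letI : Algebra Γ(X, wOpen ι i) Γ(X, V) := resI.toRingHom.toAlgebra
    haveI : IsScalarTower k Γ(X, wOpen ι i) Γ(X, V) := IsScalarTower.of_algebraMap_eq fun c => (resI.commutes c).symm
    haveI : IsLocalization.Away (pullPoly ι i (MvPolynomial.X j)) Γ(X, V) :=
      (isAffine_wOpen ι i).isLocalization_of_eq_basicOpen _ (homOfLE hle') (by rw [hcoord i j, inf_comm])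
    have h1 := isTestEquiv_localization (A' := Γ(X, V)) (Submonoid.powers (pullPoly ι i (MvPolynomial.X j))) evV
    rwa [show evV.comp (IsScalarTower.toAlgHom k Γ(X, wOpen ι i) Γ(X, V)) = φ from AlgHom.ext hφ] at h1
  have hnat : ∀ (l : Fin (r + 1)) (hl : LefPen.chart r k j ⊓ LefPen.chart r k i ≤ LefPen.chart r k l)
      (hl' : V ≤ wOpen ι l) (z : Γ(P, LefPen.chart r k l)),
      ι.app (LefPen.chart r k j ⊓ LefPen.chart r k i) (P.presheaf.map (homOfLE hl).op z) =
        X.presheaf.map (homOfLE hl').op (ι.app (LefPen.chart r k l) z) := fun l hl hl' z =>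
    ConcreteCategory.congr_hom (ι.naturality (homOfLE hl).op) z
  have h1 := congrArg (ι.app (LefPen.chart r k j ⊓ LefPen.chart r k i)) (dehom_change_eq H j i)
  rw [map_mul, map_pow, hnat j inf_le_left hle, hnat i inf_le_right hle', hnat j inf_le_left hle] at h1
  have h2 : resJ (pullForm ι j H) = resJ (pullPoly ι j (MvPolynomial.X i)) ^ d * resI (pullForm ι i H) := by
    refine Eq.trans h1 ?_
    congr 2
    show X.presheaf.map _ _ = X.presheaf.map _ _
    refine congrArg _ ?_
    show ι.app _ _ = ι.app _ ((Proj.awayToSection _ _).hom (ZetaLib.dehom r k j (MvPolynomial.X i)))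
    rw [ZetaLib.dehom, MvPolynomial.eval₂Hom_X']
  rw [hI.degPt, hJ.degPt, h2, degPt_unit_mul]
  rw [map_pow]
  exact pow_ne_zero _ (by
    exact fun h0 => hne ((hψ _).symm.trans h0))

end

end Groth.Agent.LefPenLib
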