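import Groth.Agent.LefPenLib.Smooth
import Groth.Agent.LefPenLib.Change
import Groth.Agent.LefPenLib.Bertini

/-!
# Forms tangent to an embedded smooth variety
-/

set_option backward.isDefEq.respectTransparency false
set_option backward.isDefEq.respectTransparency.types false
set_option linter.unusedSectionVars false
set_option linter.style.haveILetI false

universe u

open CategoryTheory CategoryTheory.Limits AlgebraicGeometry TopologicalSpace Opposite

namespace Groth.Agent.LefPenLib

noncomputable section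

variable {r : ℕ} {k : Type u} [Field k] {X : Scheme.{u}} (ι : X ⟶ CohB1.ProjSpace r k) {d : ℕ}

attribute [local instance] wAlgebra

/-- The hypersurface `H` touches `X` at the point `ev` of the chart `i`. -/
def Bad (i : Fin (r + 1)) (ev : Γ(X, wOpen ι i) →ₐ[k] k) (H : LefPen.Form r k d) : Prop :=
  DblZero ev (pullForm ι i H)

/-- The coordinates of a point of a chart. -/
def vec (i : Fin (r + 1)) (ev : Γ(X, wOpen ι i) →ₐ[k] k) : Fin (r + 1) → k :=
  fun l => ev (pullPoly ι i (MvPolynomial.X l))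

theorem vec_self (i : Fin (r + 1)) (ev : Γ(X, wOpen ι i) →ₐ[k] k) : vec ι i ev i = 1 := by
  rw [vec, pullPoly_X_self, map_one]

theorem eval_pullPoly (i : Fin (r + 1)) (ev : Γ(X, wOpen ι i) →ₐ[k] k) (p : MvPolynomial (Fin (r + 1)) k) :
    ev (pullPoly ι i p) = MvPolynomial.eval (vec ι i ev) p := by
  have h : ev.comp (pullPoly ι i) = MvPolynomial.aeval (vec ι i ev) := MvPolynomial.algHom_ext fun l => by
    rw [AlgHom.comp_apply, MvPolynomial.aeval_X]
    rfl
  rw [← AlgHom.comp_apply, h, MvPolynomial.aeval_eq_eval]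

theorem point_ext [IsClosedImmersion ι] (i : Fin (r + 1)) {ev ev' : Γ(X, wOpen ι i) →ₐ[k] k}
    (h : ∀ l, vec ι i ev l = vec ι i ev' l) : ev = ev' := AlgHom.ext fun a => by
  obtain ⟨p, rfl⟩ := pullPoly_surjective ι i a
  rw [eval_pullPoly, eval_pullPoly, funext h]

/-- The coordinate functions as linear forms. -/
def lin (l : Fin (r + 1)) : LefPen.Form r k 1 := ⟨MvPolynomial.X l, LefPen.X_mem r k l⟩

theorem exists_change_point [IsClosedImmersion ι] (i j : Fin (r + 1)) (evj : Γ(X, wOpen ι j) →ₐ[k] k)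
    (hne : vec ι j evj i ≠ 0) :
    ∃ evi : Γ(X, wOpen ι i) →ₐ[k] k, ∀ l, vec ι j evj l = vec ι j evj i * vec ι i evi l := by
  obtain ⟨φ, hφ⟩ := exists_change ι i j evj (isUnit_iff_ne_zero.2 hne)
  refine ⟨φ, fun l => ?_⟩
  have h1 := hφ 1 (lin l)
  rw [pow_one, pullForm_eq, pullForm_eq] at h1
  exact h1

/-- Touching is independent of the chart. -/
theorem bad_change [IsClosedImmersion ι] {i j : Fin (r + 1)} {evi : Γ(X, wOpen ι i) →ₐ[k] k}
    {evj : Γ(X, wOpen ι j) →ₐ[k] k} (hne : vec ι i evi j ≠ 0)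
    (hrel : ∀ l, vec ι i evi l = vec ι i evi j * vec ι j evj l) (H : LefPen.Form r k d)
    (hb : Bad ι j evj H) : Bad ι i evi H := by
  intro φ hφ
  have hu : IsUnit (φ (pullPoly ι i (MvPolynomial.X j))) := isUnit_of_fst hφ hne
  obtain ⟨ψ, hψ⟩ := exists_change ι j i φ hu
  have hfst : (TrivSqZeroExt.fstHom k k k).comp ψ = evj := point_ext ι j fun l => by
    have h1 := congrArg (TrivSqZeroExt.fstHom k k k) (hψ 1 (lin l))
    rw [pow_one, pullForm_eq, pullForm_eq, map_mul] at h1
    have h2 : ∀ a, TrivSqZeroExt.fstHom k k k (φ a) = evi a := fun a => DFunLike.congr_fun hφ a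
    rw [h2, h2] at h1
    exact (mul_left_cancel₀ hne ((hrel l).symm.trans h1)).symm
  rw [hψ d H, hb ψ hfst, mul_zero]

theorem bad_change_iff [IsClosedImmersion ι] {i j : Fin (r + 1)} {evi : Γ(X, wOpen ι i) →ₐ[k] k}
    {evj : Γ(X, wOpen ι j) →ₐ[k] k} (hne : vec ι i evi j ≠ 0)
    (hrel : ∀ l, vec ι i evi l = vec ι i evi j * vec ι j evj l) (H : LefPen.Form r k d) :
    Bad ι j evj H ↔ Bad ι i evi H := by
  refine ⟨bad_change ι hne hrel H, fun hb => ?_⟩
  have h1 : vec ι i evi j * vec ι j evj i = 1 := by rw [← hrel i, vec_self]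
  have hne' : vec ι j evj i ≠ 0 := fun h => by rw [h, mul_zero] at h1; exact zero_ne_one h1
  refine bad_change ι hne' (fun l => ?_) H hb
  rw [hrel l, ← mul_assoc, mul_comm (vec ι j evj i), h1, one_mul]

variable {n : ℕ} [hsmo : SmoothOfRelativeDimension n (ι ≫ CohB1.ProjSpace.toSpec r k)]

include hsmo in
theorem wOpen_smooth [IsClosedImmersion ι] (i : Fin (r + 1)) :
    Algebra.Smooth k Γ(X, wOpen ι i) ∧ Algebra.FiniteType k Γ(X, wOpen ι i) := by
  haveI : Smooth (ι ≫ CohB1.ProjSpace.toSpec r k) := SmoothOfRelativeDimension.smooth n _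
  have hA : Smooth (Spec.map (CommRingCat.ofHom (algebraMap k Γ(X, wOpen ι i)))) := by
    rw [show algebraMap k Γ(X, wOpen ι i) = SmoothReg.affMap (ι ≫ CohB1.ProjSpace.toSpec r k) (wOpen ι i) from rfl,
      ← fromSpec_comp _ (isAffine_wOpen ι i)]
    infer_instance
  rw [HasRingHomProperty.Spec_iff (P := @Smooth), CommRingCat.hom_ofHom, RingHom.smooth_algebraMap] at hA
  exact ⟨hA, inferInstance⟩

theorem wOpen_domain [IsClosedImmersion ι] [IrreducibleSpace X] (i : Fin (r + 1))
    (hne : Nontrivial Γ(X, wOpen ι i)) :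
    IsDomain Γ(X, wOpen ι i) ∧ (∀ P ∈ minimalPrimes Γ(X, wOpen ι i), ringKrullDim (Γ(X, wOpen ι i) ⧸ P) = n) ∧
      IsIntegral X ∧ (wOpen ι i : Set X).Nonempty := by
  let f := ι ≫ CohB1.ProjSpace.toSpec r k
  have hnem : (wOpen ι i : Set X).Nonempty := by
    by_contra hc
    rw [Set.not_nonempty_iff_eq_empty] at hc
    have hb : wOpen ι i = ⊥ := Opens.ext hc
    haveI : Subsingleton Γ(X, wOpen ι i) := by rw [hb]; infer_instance
    exact false_of_nontrivial_of_subsingleton Γ(X, wOpen ι i)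
  haveI : Smooth f := SmoothOfRelativeDimension.smooth n f
  haveI : AlgebraicGeometry.IsReduced X := GrpSchLib.isReduced_of_smooth_field f
  haveI hi : IsIntegral X := isIntegral_of_irreducibleSpace_of_isReduced X
  haveI hdom : IsDomain Γ(X, wOpen ι i) := @IsIntegral.component_integral X _ _ ⟨⟨_, hnem.some_mem⟩⟩
  refine ⟨hdom, fun P hP => ?_, hi, hnem⟩
  rw [IsDomain.minimalPrimes_eq_singleton_bot, Set.mem_singleton_iff] at hP
  subst hP
  rw [ringKrullDim_eq_of_ringEquiv (RingEquiv.quotientBot _),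
    CurveFin.ringKrullDim_affine_eq f (isAffine_wOpen ι i) hnem, topologicalKrullDim_eq_of_smoothRelDim f (n := n)]

/-- A hypersurface cuts `X` transversally iff it touches it nowhere. -/
theorem transversal_iff [IsAlgClosed k] [IsClosedImmersion ι] [IrreducibleSpace X] (hn : 1 ≤ n)
    (H : LefPen.Form r k d) :
    LefPen.Transversal k n 1 (LefPen.secToSpec ι ({H} : Set (LefPen.Form r k d))) ↔
      ∀ i ev, ¬ Bad ι i ev H := by
  refine ⟨?_, fun hno => Or.inl ⟨hn, smoothRelDim_secToSpec ι H (n - 1) fun i =>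
    smoothRelDim_Spec_of_forall_prime fun q hq => ?_⟩⟩
  · rintro (⟨-, hs⟩ | ⟨h, -⟩) i ev hb
    · haveI hne : Nontrivial Γ(X, wOpen ι i) := ev.toRingHom.domain_nontrivial
      obtain ⟨hsm, hft⟩ := wOpen_smooth (n := n) ι i
      obtain ⟨-, hdim, -, -⟩ := wOpen_domain (n := n) ι i hne
      haveI := hft
      refine not_smoothRelDim_of_dblZero n hn hdim hsm _ ev hb ?_
      let I := LefPen.secIdeal ι ({H} : Set (LefPen.Form r k d))
      let U : X.affineOpens := ⟨wOpen ι i, isAffine_wOpen ι i⟩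
      have h1 : SmoothOfRelativeDimension (n - 1)
          (I.subschemeCover.f U ≫ LefPen.secToSpec ι ({H} : Set (LefPen.Form r k d))) :=
        IsZariskiLocalAtSource.comp (P := @SmoothOfRelativeDimension (n - 1)) hs _
      change SmoothOfRelativeDimension (n - 1)
        (I.subschemeCover.f U ≫ I.subschemeι ≫ ι ≫ CohB1.ProjSpace.toSpec r k) at h1
      rw [← Category.assoc, Scheme.IdealSheafData.subschemeCover_map_subschemeι] at h1
      unfold Scheme.IdealSheafData.glueDataObjι at h1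
      rw [Category.assoc, Category.assoc, IsAffineOpen.isoSpec_inv_ι_assoc, fromSpec_comp, ← Spec.map_comp] at h1
      have key : ∀ J : Ideal Γ(X, wOpen ι i), J = Ideal.span {pullForm ι i H} →
          SmoothOfRelativeDimension (n - 1) (Spec.map (CommRingCat.ofHom
            (SmoothReg.affMap (ι ≫ CohB1.ProjSpace.toSpec r k) (wOpen ι i)) ≫ CommRingCat.ofHom (Ideal.Quotient.mk J))) →
          SmoothOfRelativeDimension (n - 1) (Spec.map (CommRingCat.ofHom
            (algebraMap k (Γ(X, wOpen ι i) ⧸ Ideal.span {pullForm ι i H})))) := by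
        rintro _ rfl hJ
        exact hJ
      exact key (I.ideal U) (secIdeal_singleton ι H i) h1
    · omega
  · haveI hne : Nontrivial Γ(X, wOpen ι i) := by
      by_contra hc
      rw [not_nontrivial_iff_subsingleton] at hc
      refine hq.ne_top ((Ideal.eq_top_iff_one q).2 ?_)
      rw [show (1 : Γ(X, wOpen ι i) ⧸ Ideal.span {pullForm ι i H}) = 0 by
        rw [← map_one (Ideal.Quotient.mk _), Subsingleton.elim (1 : Γ(X, wOpen ι i)) 0, map_zero]]
      exact q.zero_mem
    obtain ⟨hsm, hft⟩ := wOpen_smooth (n := n) ι i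
    obtain ⟨-, hdim, -, -⟩ := wOpen_domain (n := n) ι i hne
    haveI := hft
    exact smoothRelDim_of_forall_not_dblZero n hdim hsm _ (hno i) q hq

end

end Groth.Agent.LefPenLib
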