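import Groth.Agent.LefPenLib.LocalData

/-!
# Forms with a prescribed ordinary quadratic singularity
-/

set_option backward.isDefEq.respectTransparency false
set_option backward.isDefEq.respectTransparency.types false
set_option linter.unusedSectionVars false
set_option linter.style.haveILetI false

universe u

open CategoryTheory AlgebraicGeometry

namespace Groth.Agent.LefPenLib

noncomputable section

variable {k : Type u} [Field k]

/-- The coefficients of a nondegenerate quadratic polynomial in `M` variables, in any characteristic. -/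
def nondegCoeff (M : ℕ) (a b : Fin M) : k :=
  if (Even a.1 ∧ b.1 = a.1 + 1) ∨ (a.1 + 1 = M ∧ Even a.1 ∧ b = a) then 1 else 0

theorem nondegCoeff_spec (M : ℕ) (u : Fin M → k) (hq : ∑ a, ∑ b, nondegCoeff M a b * (u a * u b) = 0)
    (hp : ∀ p, ∑ a, ∑ b, nondegCoeff M a b * (u a * (Pi.single p 1 : Fin M → k) b +
      (Pi.single p 1 : Fin M → k) a * u b) = 0) : u = 0 := by
  classical
  have hpol : ∀ p, ∑ a, nondegCoeff M a p * u a + ∑ b, nondegCoeff M p b * u b = 0 := by
    intro p
    have h := hp p
    simp only [mul_add, Finset.sum_add_distrib] at h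
    rw [Finset.sum_congr rfl fun a _ => Finset.sum_eq_single p (fun b _ hb => by
        rw [Pi.single_eq_of_ne hb]; ring) (fun hh => absurd (Finset.mem_univ p) hh),
      Finset.sum_eq_single (f := fun a => ∑ b, nondegCoeff M a b * ((Pi.single p 1 : Fin M → k) a * u b)) p
        (fun a _ ha => by simp [Pi.single_eq_of_ne ha]) (fun hh => absurd (Finset.mem_univ p) hh)] at h
    simpa using h
  have hzero : ∀ p : Fin M, ¬ (p.1 + 1 = M ∧ Even p.1) → u p = 0 := by
    intro p hp'
    rcases Nat.even_or_odd p.1 with he | ho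
    · have hlt : p.1 + 1 < M := lt_of_le_of_ne p.2 fun h => hp' ⟨h, he⟩
      let q : Fin M := ⟨p.1 + 1, hlt⟩
      have h := hpol q
      rw [Finset.sum_eq_single p, Finset.sum_eq_zero, add_zero] at h
      · simpa [nondegCoeff, q, he] using h
      · intro b _
        rw [nondegCoeff, if_neg, zero_mul]
        have : ¬ Even q.1 := by simp [q, Nat.even_add_one, he]
        tauto
      · intro a _ hne
        rw [nondegCoeff, if_neg, zero_mul]
        rintro (⟨_, ha⟩ | ⟨_, ha, hqa⟩)
        · exact hne (Fin.ext (by simp [q] at ha; omega))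
        · exact absurd (hqa ▸ ha) (by simp [q, Nat.even_add_one, he])
      · intro hh; exact absurd (Finset.mem_univ p) hh
    · have hp0 : 1 ≤ p.1 := ho.pos
      let q : Fin M := ⟨p.1 - 1, by omega⟩
      have hqe : Even q.1 := Nat.Odd.sub_odd ho odd_one
      have h := hpol q
      rw [Finset.sum_eq_zero, Finset.sum_eq_single p, zero_add] at h
      · rw [nondegCoeff, if_pos (Or.inl ⟨hqe, by simp [q]; omega⟩), one_mul] at h
        simpa [q] using h
      · intro b _ hne
        rw [nondegCoeff, if_neg, zero_mul]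
        rintro (⟨_, hb⟩ | ⟨hq1, _⟩)
        · exact hne (Fin.ext (by simp [q] at hb; omega))
        · simp [q] at hq1; omega
      · intro hh; exact absurd (Finset.mem_univ p) hh
      · intro a _
        rw [nondegCoeff, if_neg, zero_mul]
        rintro (⟨ha, hqa⟩ | ⟨hq1, _, hqa⟩)
        · exact absurd hqe (by rw [hqa]; simp [Nat.even_add_one, ha])
        · subst hqa; simp [q] at hq1; omega
  by_cases hM : ∃ p : Fin M, p.1 + 1 = M ∧ Even p.1
  · obtain ⟨p, hp1, hp2⟩ := hM
    have hp' : ∀ a, a ≠ p → u a = 0 := fun a ha => hzero a fun h => ha (Fin.ext (by omega))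
    have hup : u p = 0 := by
      rw [Finset.sum_eq_single p, Finset.sum_eq_single p] at hq
      · simpa [nondegCoeff, hp1, hp2] using hq
      · intro b _ hb; rw [hp' b hb, mul_zero, mul_zero]
      · intro hh; exact absurd (Finset.mem_univ p) hh
      · intro a _ ha; exact Finset.sum_eq_zero fun b _ => by rw [hp' a ha, zero_mul, mul_zero]
      · intro hh; exact absurd (Finset.mem_univ p) hh
    funext a
    by_cases ha : a = p
    · rw [ha, hup]; rfl
    · exact hp' a ha
  · exact funext fun a => hzero a fun h => hM ⟨a, h⟩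

variable [IsAlgClosed k] {r : ℕ} {X : Scheme.{u}} (ι : X ⟶ CohB1.ProjSpace r k)
  [IsClosedImmersion ι] [IrreducibleSpace X] {n : ℕ}
  [hsmo : SmoothOfRelativeDimension n (ι ≫ CohB1.ProjSpace.toSpec r k)]

attribute [local instance] wAlgebra

include hsmo

/-- Linear forms giving local coordinates at a point, and a nondegenerate tangent form built from them. -/
theorem exists_bad_nondeg_aux (j : Fin (r + 1)) (ev : Γ(X, wOpen ι j) →ₐ[k] k) (d : ℕ) (hd : 2 ≤ d) :
    ∃ P : Fin n → MvPolynomial (Fin (r + 1)) k, (∀ s, (P s).IsHomogeneous 1) ∧ (∀ s, ev (pullPoly ι j (P s)) = 0) ∧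
      (∀ p : MvPolynomial (Fin (r + 1)) k, ev (pullPoly ι j p) = 0 →
        ∃ α : Fin n → k, DblZero ev (pullPoly ι j (p - ∑ s, α s • P s))) ∧
      ∃ H : LefPen.Form r k d,
        H.1 = (∑ a, ∑ a', MvPolynomial.C (nondegCoeff n a a') * (P a * P a')) * MvPolynomial.X j ^ (d - 2) ∧
        Bad ι j ev H ∧ ¬ DegPt ev (pullForm ι j H) := by
  classical
  obtain ⟨F, hF, hstd, evB, hevB⟩ := exists_localData (n := n) ι j ev
  haveI := hstd
  let A := Γ(X, wOpen ι j)
  let B := Localization.Away F
  haveI : Algebra.IsStandardSmooth k B := Algebra.IsStandardSmoothOfRelativeDimension.isStandardSmooth n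
  haveI : Nontrivial B := evB.toRingHom.domain_nontrivial
  let b : Module.Basis (Fin n) B Ω[B⁄k] := Module.finBasisOfFinrankEq B _ (BertiniAff.finrank_kaehler n)
  choose c hc using fun s : Fin n => exists_lin_jet ι j F b evB (Pi.single s 1)
  let lc : Fin n → MvPolynomial (Fin (r + 1)) k := fun s => ∑ l, c s l • MvPolynomial.X l
  let P : Fin n → MvPolynomial (Fin (r + 1)) k := fun s =>
    lc s - MvPolynomial.C (ev (pullPoly ι j (lc s))) * MvPolynomial.X j
  have hP : ∀ s, (P s).IsHomogeneous 1 := fun s => by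
    refine MvPolynomial.IsHomogeneous.sub ?_ ?_
    · refine MvPolynomial.IsHomogeneous.sum _ _ _ fun l _ => ?_
      rw [MvPolynomial.smul_eq_C_mul]
      exact (MvPolynomial.isHomogeneous_X k l).C_mul _
    · exact (MvPolynomial.isHomogeneous_X k j).C_mul _
  let Q : MvPolynomial (Fin (r + 1)) k :=
    (∑ a, ∑ a', MvPolynomial.C (nondegCoeff n a a') * (P a * P a')) * MvPolynomial.X j ^ (d - 2)
  have hQ : Q ∈ CohB1.polyGrading r k d := by
    show Q.IsHomogeneous d
    have h := (MvPolynomial.IsHomogeneous.sum Finset.univ (fun a => ∑ a', MvPolynomial.C (nondegCoeff (k := k) n a a') * (P a * P a'))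
      2 fun a _ => MvPolynomial.IsHomogeneous.sum _ _ _ fun a' _ => ((hP a).mul (hP a')).C_mul _).mul
      (MvPolynomial.isHomogeneous_X_pow (R := k) j (d - 2))
    rwa [show 2 + (d - 2) = d by omega] at h
  suffices hmain : (∀ s, ev (pullPoly ι j (P s)) = 0) ∧
      (∀ p : MvPolynomial (Fin (r + 1)) k, ev (pullPoly ι j p) = 0 →
        ∃ α : Fin n → k, DblZero ev (pullPoly ι j (p - ∑ s, α s • P s))) ∧
      Bad ι j ev (⟨Q, hQ⟩ : LefPen.Form r k d) ∧ ¬ DegPt ev (pullForm ι j (⟨Q, hQ⟩ : LefPen.Form r k d)) from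
    ⟨P, hP, hmain.1, hmain.2.1, ⟨Q, hQ⟩, rfl, hmain.2.2.1, hmain.2.2.2⟩
  let t : Fin n → B := fun s => algebraMap A B (pullPoly ι j (P s))
  have ht0 : ∀ s, evB (t s) = 0 := fun s => by
    show evB.comp (IsScalarTower.toAlgHom k A B) (pullPoly ι j (P s)) = 0
    rw [hevB]
    show ev (pullPoly ι j (lc s - MvPolynomial.C (ev (pullPoly ι j (lc s))) * MvPolynomial.X j)) = 0
    rw [map_sub, map_mul, pullPoly_X_self, mul_one, map_sub, ← MvPolynomial.algebraMap_eq, AlgHom.commutes,
      AlgHom.commutes, Algebra.algebraMap_self_apply, sub_self]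
  have ht1 : ∀ s l, evB (b.repr (KaehlerDifferential.D k B (t s)) l) = (Pi.single s 1 : Fin n → k) l := fun s l => by
    rw [← hc s l]
    have : t s = algebraMap A B (pullPoly ι j (lc s)) - algebraMap k B (ev (pullPoly ι j (lc s))) := by
      simp only [t, P, map_sub, map_mul, pullPoly_X_self, mul_one]
      rw [← MvPolynomial.algebraMap_eq, AlgHom.commutes, ← IsScalarTower.algebraMap_apply]
    rw [this, map_sub, Derivation.map_algebraMap, sub_zero]
  refine ⟨fun s => ?_, fun p hp => ?_, ?_⟩
  · rw [← hevB]; exact ht0 s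
  · let δ : Fin n → k := fun l => evB (b.repr (KaehlerDifferential.D k B (algebraMap A B (pullPoly ι j p))) l)
    refine ⟨δ, ?_⟩
    rw [← hevB, ← dblZero_localization F evB, dblZero_iff b evB,
      show algebraMap A (Localization.Away F) (pullPoly ι j (p - ∑ s, δ s • P s)) =
        algebraMap A B (pullPoly ι j p) - ∑ s, δ s • t s by
        rw [map_sub, map_sum, map_sub, map_sum]
        refine congrArg _ (Finset.sum_congr rfl fun s _ => ?_)
        rw [map_smul]
        exact map_smul (IsScalarTower.toAlgHom k A B) _ _]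
    refine ⟨?_, fun l => ?_⟩
    · rw [map_sub, map_sum, show evB (algebraMap A B (pullPoly ι j p)) = 0 by rw [← hp, ← hevB]; rfl,
        Finset.sum_eq_zero fun s _ => by rw [map_smul, ht0, smul_zero], sub_zero]
    · let L : B →ₗ[k] k := evB.toLinearMap.comp (((b.coord l).restrictScalars k).comp
        (KaehlerDifferential.D k B).toLinearMap)
      show L _ = 0
      rw [map_sub, map_sum, Finset.sum_eq_single l (fun s _ hs => ?_) (fun h => absurd (Finset.mem_univ _) h)]
      · rw [map_smul, show L (t l) = 1 from (ht1 l l).trans (by simp)]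
        simp only [smul_eq_mul, mul_one, L, δ]
        exact sub_self _
      · rw [map_smul, show L (t s) = 0 from (ht1 s l).trans (by simp [hs.symm]), smul_zero]
  let hB : B := ∑ a, ∑ a', algebraMap k B (nondegCoeff n a a') * (t a * t a')
  have hform : algebraMap A B (pullForm ι j (⟨Q, hQ⟩ : LefPen.Form r k d)) = hB := by
    rw [pullForm_eq]
    simp only [Q, hB, t, map_mul, map_sum, map_pow, pullPoly_X_self, one_pow, mul_one, map_one]
    refine Finset.sum_congr rfl fun a _ => Finset.sum_congr rfl fun a' _ => ?_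
    rw [← MvPolynomial.algebraMap_eq, AlgHom.commutes, ← IsScalarTower.algebraMap_apply]
  clear_value t
  have hz : DblZero evB hB := by
    refine (dblZero_iff b evB hB).2 ⟨?_, fun l => ?_⟩
    · show evB hB = 0
      simp only [hB, map_sum, map_mul]
      refine Finset.sum_eq_zero fun a _ => Finset.sum_eq_zero fun a' _ => ?_
      rw [show evB (t a) = 0 from ht0 a, zero_mul, mul_zero]
    · let L : B →ₗ[k] k := evB.toLinearMap.comp (((b.coord l).restrictScalars k).comp
        (KaehlerDifferential.D k B).toLinearMap)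
      show L hB = 0
      simp only [hB, map_sum]
      refine Finset.sum_eq_zero fun a _ => Finset.sum_eq_zero fun a' _ => ?_
      rw [← Algebra.smul_def, map_smul]
      show _ • evB (b.repr (KaehlerDifferential.D k B (t a * t a')) l) = 0
      rw [Derivation.leibniz, map_add, Finsupp.add_apply, map_smul, map_smul, Finsupp.smul_apply, Finsupp.smul_apply,
        map_add]
      simp only [smul_eq_mul, map_mul, show evB (t a) = 0 from ht0 a, show evB (t a') = 0 from ht0 a', zero_mul,
        add_zero, mul_zero]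
  refine ⟨?_, ?_⟩
  · rw [Bad, ← hevB, ← dblZero_localization F evB, hform]
    exact hz
  · have key := (isTestEquiv_localization (A := A) (Submonoid.powers F) evB).degPt (pullForm ι j (⟨Q, hQ⟩ : LefPen.Form r k d))
    rw [hevB] at key
    rw [key, show IsScalarTower.toAlgHom k A B (pullForm ι j (⟨Q, hQ⟩ : LefPen.Form r k d)) = hB from hform]
    obtain ⟨τ, hτ⟩ := exists_isTaylor (k := k) b
    rw [degPt_iff hτ evB hB hz]
    rintro ⟨u, hu, hq, hpol⟩
    refine hu (nondegCoeff_spec n u ?_ fun p => ?_)
    · obtain ⟨ψ, hψ⟩ := hτ.sub3 evB u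
      have h0 : ∀ s, (ψ (t s)).c0 = 0 := fun s => by
        rw [hψ, subT3_apply]; exact (hτ.part0' _ u _).trans (ht0 s)
      have h1 : ∀ s, (ψ (t s)).c1 = u s := fun s => by
        rw [hψ, subT3_apply]
        refine (hτ.part1 _ u _).trans ?_
        rw [Finset.sum_eq_single s (fun l _ hl => by
          show evB _ * _ = 0
          rw [ht1, Pi.single_eq_of_ne hl, zero_mul]) (fun hh => absurd (Finset.mem_univ s) hh)]
        show evB _ * _ = _
        rw [ht1, Pi.single_eq_same, one_mul]
      have h2 : (ψ hB).c2 = 0 := by rw [hψ, subT3_apply]; exact hq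
      rw [← h2]
      let C2 : T3 k →+ k := ⟨⟨fun x : T3 k => x.c2, rfl⟩, fun _ _ => rfl⟩
      show _ = C2 (ψ hB)
      simp only [hB, map_sum, map_mul, AlgHom.commutes]
      simp [C2, h0, h1]
    · obtain ⟨Φ, hΦ⟩ := hτ.subD evB u (Pi.single p 1)
      have hw : ∀ (w : Fin n → k) s, partAt evB.toRingHom 1 w (τ (t s)) = w s := fun w s => by
        refine (hτ.part1 _ w _).trans ?_
        rw [Finset.sum_eq_single s (fun l _ hl => by
          show evB _ * _ = 0
          rw [ht1, Pi.single_eq_of_ne hl, zero_mul]) (fun hh => absurd (Finset.mem_univ s) hh)]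
        show evB _ * _ = _
        rw [ht1, Pi.single_eq_same, one_mul]
      have h0 : ∀ s, (Φ (t s)).fst.fst = 0 := fun s => by
        rw [hΦ, subDual_apply]; simpa using (hτ.part0' evB.toRingHom u (t s)).trans (ht0 s)
      have h1 : ∀ s, (Φ (t s)).fst.snd = u s := fun s => by
        rw [hΦ, subDual_apply]; simpa using hw u s
      have h2 : ∀ s, (Φ (t s)).snd.fst = (Pi.single p 1 : Fin n → k) s := fun s => by
        rw [hΦ, subDual_apply]; simpa using hw (Pi.single p 1) s
      have h3 : (Φ hB).snd.snd = 0 := by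
        rw [hΦ, subDual_apply]; simpa using hpol (Pi.single p 1)
      rw [← h3]
      simp only [hB, map_sum, map_mul, AlgHom.commutes]
      simp [h0, h1, h2, TrivSqZeroExt.algebraMap_eq_inl', TrivSqZeroExt.snd_sum]

/-- A form touching `X` at a given point with nondegenerate quadratic part. -/
theorem exists_bad_nondeg (j : Fin (r + 1)) (ev : Γ(X, wOpen ι j) →ₐ[k] k) (d : ℕ) (hd : 2 ≤ d) :
    ∃ H : LefPen.Form r k d, Bad ι j ev H ∧ ¬ DegPt ev (pullForm ι j H) := by
  obtain ⟨-, -, -, -, H, -, h⟩ := exists_bad_nondeg_aux (n := n) ι j ev d hd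
  exact ⟨H, h⟩

end

end Groth.Agent.LefPenLib
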