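import Groth.Agent.LefPenLib.Hess
import Groth.Agent.LefPenLib.RankBad
import Mathlib.RingTheory.KrullDimension.NonZeroDivisors
import Mathlib.RingTheory.KrullDimension.Polynomial

/-!
# Degenerate tangencies form a small set in characteristic zero
-/

set_option backward.isDefEq.respectTransparency false
set_option backward.isDefEq.respectTransparency.types false
set_option linter.unusedSectionVars false
set_option linter.style.haveILetI false

universe u

open MvPolynomial

namespace Groth.Agent.LefPenLib

noncomputable section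

variable {k : Type u} [Field k] {B : Type u} [CommRing B] [Algebra k B] {n : ℕ} {E : Type} [Fintype E]
  [DecidableEq E] {b : Module.Basis (Fin n) B Ω[B⁄k]} {g : E → B} {J : Option (Fin n) → E}

/-- The member of the family with given coefficients. -/
def member (g : E → B) (a : E → k) : B := ∑ e, a e • g e

theorem ev_member (ev : B →ₐ[k] k) (a : E → k) : ev (member g a) = ∑ e, ev (g e) * a e := by
  simp [member, mul_comm]

theorem ev_pd_member (ev : B →ₐ[k] k) (a : E → k) (m : Fin n) :
    ev (pd b m (member g a)) = ∑ e, ev (pd b m (g e)) * a e := by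
  simp [member, map_sum, mul_comm]

theorem polar_eq_pd {τ : B → MvPolynomial (Fin n) B} (hτ : IsTaylor b τ) (ev : B →ₐ[k] k) (h : B)
    (hz : DblZero ev h) (u w : Fin n → k) :
    polarAt ev.toRingHom u w (τ h) = ∑ l, ∑ m, u l * w m * ev (pd b l (pd b m h)) := by
  obtain ⟨Φ, hΦ⟩ := hτ.subD ev u w
  let P : B → k := fun x => ∑ l, ∑ m, u l * w m * ev (pd b l (pd b m x))
  have hc0 : ∀ x, (Φ x).fst.fst = ev x := fun x => by
    rw [hΦ, subDual_apply]; simpa using hτ.part0' ev.toRingHom u x
  have hc1 : ∀ x, (Φ x).fst.snd = ∑ l, ev (pd b l x) * u l := fun x => by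
    rw [hΦ, subDual_apply]; simpa [pd_apply] using hτ.part1 ev.toRingHom u x
  have hc2 : ∀ x, (Φ x).snd.fst = ∑ l, ev (pd b l x) * w l := fun x => by
    rw [hΦ, subDual_apply]; simpa [pd_apply] using hτ.part1 ev.toRingHom w x
  have hc3 : ∀ x, (Φ x).snd.snd = polarAt ev.toRingHom u w (τ x) := fun x => by
    rw [hΦ, subDual_apply]; simp
  have h2 : (Φ h).snd.snd - P h = 0 := hz.deriv_eq_zero (fun x => (Φ x).snd.snd - P x)
    (fun x y => by simp only [P, map_add, TrivSqZeroExt.snd_add, mul_add, Finset.sum_add_distrib]; ring)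
    (fun x y => by
      have hP : P (x * y) = ev x * P y + ev y * P x + ((∑ l, ev (pd b l x) * u l) * (∑ l, ev (pd b l y) * w l) +
          (∑ l, ev (pd b l y) * u l) * ∑ l, ev (pd b l x) * w l) := by
        rw [Finset.sum_mul_sum, Finset.sum_mul_sum]
        simp only [P, Finset.mul_sum, ← Finset.sum_add_distrib, pd_mul, map_add, map_mul]
        exact Finset.sum_congr rfl fun l _ => Finset.sum_congr rfl fun m _ => by ring
      simp only [hP, map_mul]
      simp [hc0, hc1, hc2]
      ring)
    (fun c => by simp [P, pd_algebraMap, TrivSqZeroExt.algebraMap_eq_inl'])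
  rw [← hc3, sub_eq_zero.1 h2]

/-- A point of the parameter space over a tangency. -/
def TanFamily.point (_T : TanFamily b g J) (ev : B →ₐ[k] k) (a : E → k) :
    MvPolynomial {e : E // e ∉ Set.range J} B →ₐ[k] k :=
  { eval₂Hom ev.toRingHom fun t => a t.1 with
    commutes' := fun c => by
      show eval₂Hom ev.toRingHom _ (algebraMap k (MvPolynomial _ B) c) = _
      rw [IsScalarTower.algebraMap_apply k B (MvPolynomial {e : E // e ∉ Set.range J} B), algebraMap_eq, eval₂Hom_C]
      exact ev.commutes c }

theorem TanFamily.point_C (T : TanFamily b g J) (ev : B →ₐ[k] k) (a : E → k) (x : B) : T.point ev a (C x) = ev x :=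
  eval₂Hom_C _ _ x

theorem TanFamily.point_θ (T : TanFamily b g J) (ev : B →ₐ[k] k) (a : E → k) (h : DblZero ev (member g a)) (e : E) :
    T.point ev a (T.θ e) = a e := by
  refine T.complete ev a (fun o => ?_) e
  obtain ⟨h0, h1⟩ := (dblZero_iff b ev _).1 h
  rcases o with _ | m
  · exact (ev_member ev a).symm.trans h0
  · exact (ev_pd_member ev a m).symm.trans (h1 m)

theorem TanFamily.point_aeval (T : TanFamily b g J) (ev : B →ₐ[k] k) (a : E → k) (h : DblZero ev (member g a))
    (p : MvPolynomial E k) : T.point ev a (aeval T.θ p) = eval a p := by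
  rw [← AlgHom.comp_apply, comp_aeval, show (fun e => T.point ev a (T.θ e)) = a from funext (T.point_θ ev a h)]
  exact congrFun (aeval_eq_eval a) p

theorem TanFamily.dblZero_of_hom (T : TanFamily b g J) (χ : MvPolynomial {e : E // e ∉ Set.range J} B →ₐ[k] k) :
    DblZero (χ.comp (IsScalarTower.toAlgHom k B _)) (member g fun e => χ (T.θ e)) := by
  have h : ∀ o, ∑ e, χ (C (jetMatrix b g o e)) * χ (T.θ e) = 0 := fun o => by
    simp only [← map_mul, ← map_sum, T.eqs, map_zero]
  exact (dblZero_iff b _ _).2 ⟨(ev_member _ _).trans (h none), fun m => (ev_pd_member _ _ m).trans (h (some m))⟩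

theorem TanFamily.det_eq_zero_of_degPt [Algebra.FormallySmooth k B] (T : TanFamily b g J) (ev : B →ₐ[k] k) (a : E → k)
    (h : DblZero ev (member g a)) (hdeg : DegPt ev (member g a)) : T.point ev a T.hess.det = 0 := by
  obtain ⟨τ, hτ⟩ := exists_isTaylor (k := k) b
  obtain ⟨u, hu, -, hpol⟩ := (degPt_iff hτ ev _ h).1 hdeg
  have hentry : ∀ l m, T.point ev a (T.hess l m) = ev (pd b l (pd b m (member g a))) := fun l m => by
    simp only [TanFamily.hess, map_sum, map_mul, T.point_C, T.point_θ ev a h, member, map_smul, smul_eq_mul]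
    exact Finset.sum_congr rfl fun e _ => mul_comm _ _
  by_contra hne
  have hdet : IsUnit ((T.point ev a).toRingHom.mapMatrix T.hess).det := by
    rw [← RingHom.map_det]; exact isUnit_iff_ne_zero.2 hne
  refine hu (@Matrix.vecMul_injective_of_isUnit _ _ _ _ _ _ ((Matrix.isUnit_iff_isUnit_det _).2 hdet) u 0 ?_)
  show Matrix.vecMul u _ = Matrix.vecMul 0 _
  rw [Matrix.zero_vecMul]
  funext m
  have hm := hpol (Pi.single m 1)
  rw [polar_eq_pd hτ ev _ h] at hm
  refine Eq.trans ?_ hm
  show (∑ l, u l * T.point ev a (T.hess l m) : k) = _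
  refine Finset.sum_congr rfl fun l _ => ?_
  rw [Finset.sum_eq_single (f := fun q => u l * (Pi.single m 1 : Fin n → k) q * ev (pd b l (pd b q (member g a)))) m
    (fun q _ hq => by simp [hq]) (fun hh => absurd (Finset.mem_univ _) hh)]
  simp [hentry]

theorem snd_aeval {A L : Type u} [CommRing A] [Algebra k A] [CommRing L] [Algebra k L] (ψ : A →ₐ[k] DualNumber L)
    (t : E → A) (p : MvPolynomial E k) :
    (ψ (aeval t p)).snd = ∑ e, (ψ (aeval t (pderiv e p))).fst * (ψ (t e)).snd := by
  induction p using MvPolynomial.induction_on with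
  | C c => simp [TrivSqZeroExt.algebraMap_eq_inl']
  | add p q hp hq => simp [hp, hq, add_mul, Finset.sum_add_distrib]
  | mul_X p s hp =>
    simp only [pderiv_mul, map_add, map_mul, aeval_X, TrivSqZeroExt.snd_mul, hp, smul_eq_mul,
      MulOpposite.smul_eq_mul_unop, MulOpposite.unop_op, TrivSqZeroExt.fst_add, TrivSqZeroExt.fst_mul, add_mul,
      Finset.sum_add_distrib]
    rw [Finset.sum_eq_single (f := fun e => _ * TrivSqZeroExt.fst (ψ (aeval t (pderiv e (X s : MvPolynomial E k)))) * _) s
      (fun e _ he => by simp [pderiv_X_of_ne (Ne.symm he)]) (fun hh => absurd (Finset.mem_univ _) hh)]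
    simp only [pderiv_X_self, map_one, TrivSqZeroExt.fst_one, mul_one, Finset.sum_mul]
    rw [add_comm]
    exact congrArg (· + _) (Finset.sum_congr rfl fun e _ => by ring)

/-- At a nondegenerate point the differential of an equation of the tangent forms only sees the value. -/
theorem TanFamily.grad (T : TanFamily b g J) (p : MvPolynomial E k) (hp : aeval T.θ p = 0) (ev : B →ₐ[k] k)
    (a : E → k) (h : DblZero ev (member g a)) (hdet : T.point ev a T.hess.det ≠ 0) (G : E → k)
    (hG : ∑ e, ev (g e) * G e = 0) : ∑ e, eval a (pderiv e p) * G e = 0 := by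
  let χ := T.point ev a
  have hu : IsUnit (χ.toRingHom.mapMatrix T.hess) := (Matrix.isUnit_iff_isUnit_det _).2 (by
    rw [← RingHom.map_det]; exact isUnit_iff_ne_zero.2 hdet)
  obtain ⟨v, hv⟩ := (Matrix.vecMul_surjective_iff_isUnit.2 hu) fun m => -∑ e, ev (pd b m (g e)) * G e
  obtain ⟨ψ, hψ, hψX, -, h0, hm⟩ := T.exists_vel χ v fun t => G t.1
  have hy : (fun e => (ψ (T.θ e)).snd - G e) = 0 := T.unique k ev.toRingHom _ (fun e he => by
    show (ψ (T.θ e)).snd - G e = 0
    rw [show T.θ e = X ⟨e, he⟩ from T.free ⟨e, he⟩, hψX, sub_self]) (fun o => by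
    simp only [mul_sub, Finset.sum_sub_distrib, AlgHom.toRingHom_eq_coe, RingHom.coe_coe]
    rw [sub_eq_zero]
    simp only [← T.point_C ev a]
    rcases o with _ | m
    · exact h0.trans (by simp only [T.point_C]; exact hG.symm)
    · refine (hm m).trans ?_
      have := congrFun hv m
      simp only [Matrix.vecMul, dotProduct, RingHom.mapMatrix_apply, Matrix.map_apply] at this
      rw [show ∑ l, v l * χ (T.hess l m) = _ from this, neg_neg]
      simp only [T.point_C]
      rfl)
  have hs := snd_aeval ψ T.θ p
  rw [hp, map_zero, TrivSqZeroExt.snd_zero] at hs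
  refine Eq.trans (Finset.sum_congr rfl fun e _ => ?_) hs.symm
  rw [hψ, T.point_aeval ev a h, show (ψ (T.θ e)).snd = G e from sub_eq_zero.1 (congrFun hy e)]

section Domain

variable [IsDomain B] [Algebra.FiniteType k B]

theorem TanFamily.dim_le (_T : TanFamily b g J) (hJ : Function.Injective J) (hB : ringKrullDim B ≤ n) :
    ringKrullDim (MvPolynomial {e : E // e ∉ Set.range J} B) ≤ (Fintype.card E - 1 : ℕ) := by
  haveI : IsNoetherianRing B := Algebra.FiniteType.isNoetherianRing k B
  rw [MvPolynomial.ringKrullDim_of_isNoetherianRing, Nat.card_eq_fintype_card]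
  refine (add_le_add hB le_rfl).trans ?_
  have h1 : Fintype.card {e : E // e ∉ Set.range J} + (n + 1) = Fintype.card E := by
    rw [Fintype.card_subtype_compl,
      show Fintype.card {e : E // e ∈ Set.range J} = n + 1 by
        rw [Fintype.card_congr (Equiv.ofInjective J hJ).symm]; simp]
    have : n + 1 ≤ Fintype.card E := by simpa using Fintype.card_le_of_injective J hJ
    omega
  rw [← h1]
  norm_cast
  omega

/-- In characteristic zero the Hessian is generically nondegenerate if the tangent forms fill a hypersurface. -/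
theorem TanFamily.det_ne_zero [CharZero k] (T : TanFamily b g J) (hJ : Function.Injective J) (hB : ringKrullDim B ≤ n)
    {σ : Type} [Fintype σ] (hσ : Fintype.card σ + 1 = Fintype.card E) (η : MvPolynomial σ k →ₐ[k] MvPolynomial E k)
    (hinj : Function.Injective ((aeval T.θ).comp η)) : T.hess.det ≠ 0 := by
  intro hdet
  let ρ : MvPolynomial σ k →ₐ[k] MvPolynomial {e : E // e ∉ Set.range J} B := (aeval T.θ).comp η
  let K := FractionRing (MvPolynomial {e : E // e ∉ Set.range J} B)
  let χ : MvPolynomial {e : E // e ∉ Set.range J} B →ₐ[k] K := IsScalarTower.toAlgHom k _ _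
  have hχ : Function.Injective χ := IsFractionRing.injective (MvPolynomial {e : E // e ∉ Set.range J} B) K
  have hdetK : (χ.toRingHom.mapMatrix T.hess).det = 0 := by rw [← RingHom.map_det, hdet, map_zero]
  obtain ⟨v, hv, hvH⟩ := Matrix.exists_vecMul_eq_zero_iff.2 hdetK
  obtain ⟨ψ, hψ, hψX, hψC, h0, hm⟩ := T.exists_vel χ v 0
  have hy : (fun e => (ψ (T.θ e)).snd) = 0 := T.unique K (χ.toRingHom.comp C) _ (fun e he => by
    show (ψ (T.θ e)).snd = 0
    rw [show T.θ e = X ⟨e, he⟩ from T.free ⟨e, he⟩, hψX]
    rfl) (fun o => by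
    rcases o with _ | m
    · exact h0
    · refine (hm m).trans ?_
      have := congrFun hvH m
      simp only [Matrix.vecMul, dotProduct, RingHom.mapMatrix_apply, Matrix.map_apply, Pi.zero_apply] at this
      rw [show ∑ l, v l * χ (T.hess l m) = _ from this, neg_zero])
  have hS : ∀ s, (ψ (ρ s)).snd = 0 := fun s => by
    show (ψ (aeval T.θ (η s))).snd = 0
    rw [snd_aeval]
    exact Finset.sum_eq_zero fun e _ => by rw [show (ψ (T.θ e)).snd = 0 from congrFun hy e, mul_zero]
  have hall : ∀ y, (ψ y).snd = 0 := by
    intro y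
    let Q : MvPolynomial (Option (ULift.{u} σ)) k →ₐ[k] MvPolynomial {e : E // e ∉ Set.range J} B :=
      aeval fun o => Option.elim o y fun i => ρ (X i.down)
    have hQ : ¬ Function.Injective Q := fun hQ => by
      haveI : Algebra.FiniteType k (MvPolynomial {e : E // e ∉ Set.range J} B) :=
        Algebra.FiniteType.trans (S := B) inferInstance inferInstance
      have h := (BertiniAff.le_ringKrullDim_of_injective Q hQ).trans (T.dim_le hJ hB)
      rw [Fintype.card_option, Fintype.card_ulift, hσ] at h
      have h' : Fintype.card E ≤ Fintype.card E - 1 := by exact_mod_cast h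
      have : 0 < Fintype.card E := Fintype.card_pos_iff.2 ⟨J none⟩
      omega
    rw [injective_iff_map_eq_zero] at hQ
    push Not at hQ
    obtain ⟨q, hq, hq0⟩ := hQ
    let e1 := optionEquivLeft k (ULift.{u} σ)
    let R1 : MvPolynomial (ULift.{u} σ) k →ₐ[k] MvPolynomial {e : E // e ∉ Set.range J} B :=
      ρ.comp (renameEquiv k Equiv.ulift).toAlgHom
    have hQe : ∀ z, Q z = (e1 z).eval₂ R1.toRingHom y := fun z => by
      induction z using MvPolynomial.induction_on with
      | C c =>
        simp only [e1, optionEquivLeft_C, Polynomial.eval₂_C]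
        show Q (C c) = R1 (C c)
        rw [← algebraMap_eq, ← algebraMap_eq, AlgHom.commutes, AlgHom.commutes]
      | add p q hp hq => simp [hp, hq]
      | mul_X p o hp =>
        rw [map_mul, map_mul, hp, Polynomial.eval₂_mul]
        refine congrArg (_ * ·) ?_
        rcases o with _ | i
        · simp [Q, e1, optionEquivLeft_X_none]
        · simp only [Q, e1, aeval_X, Option.elim_some, optionEquivLeft_X_some, Polynomial.eval₂_C]
          simp [R1]
    exact snd_eq_zero_of_algebraic R1 (hinj.comp (renameEquiv k Equiv.ulift).injective) ψ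
      (fun p p' hpp => hχ (by simpa [hψ] using hpp)) (fun s => hS _) y (e1 q)
      (fun h => hq0 (e1.injective (h.trans (map_zero e1).symm))) ((hQe q).symm.trans hq)
  refine hv (funext fun l0 => ?_)
  have hspan : ∀ w ∈ Submodule.span B (Set.range (KaehlerDifferential.D k B)),
      ∑ l, v l * χ (C (b.repr w l)) = 0 := by
    intro w hw
    induction hw using Submodule.span_induction with
    | mem w hw =>
      obtain ⟨x, rfl⟩ := hw
      exact (hψC x).symm.trans (hall _)
    | zero => simp
    | add x y _ _ hx hy =>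
      simp only [map_add, Finsupp.add_apply, mul_add, Finset.sum_add_distrib, hx, hy, add_zero]
    | smul s x _ hx =>
      rw [show ∑ l, v l * χ (C (b.repr (s • x) l)) = χ (C s) * ∑ l, v l * χ (C (b.repr x l)) by
        rw [Finset.mul_sum]
        refine Finset.sum_congr rfl fun l _ => ?_
        rw [map_smul, Finsupp.smul_apply, smul_eq_mul, C_mul, map_mul]
        ring, hx, mul_zero]
  have h := hspan (b l0) (by rw [KaehlerDifferential.span_range_derivation]; trivial)
  rw [Finset.sum_eq_single l0 (fun l _ hl => by rw [b.repr_self, Finsupp.single_eq_of_ne hl, map_zero, map_zero, mul_zero])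
    (fun hh => absurd (Finset.mem_univ _) hh), b.repr_self, Finsupp.single_eq_same, map_one, map_one, mul_one] at h
  exact h

/-- An invariant polynomial vanishing at all degenerate tangencies of the family. -/
theorem TanFamily.exists_deg [CharZero k] [Algebra.FormallySmooth k B] (T : TanFamily b g J)
    (hJ : Function.Injective J) (hn : 1 ≤ n) (hB : ringKrullDim B ≤ n) {σ : Type} [Fintype σ]
    (hσ : Fintype.card σ + 1 = Fintype.card E) (η : MvPolynomial σ k →ₐ[k] MvPolynomial E k) :
    ∃ s : MvPolynomial σ k, s ≠ 0 ∧ ∀ (ev : B →ₐ[k] k) (a : E → k), DblZero ev (member g a) →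
      (DegPt ev (member g a) ∨ T.point ev a T.hess.det = 0) → eval a (η s) = 0 := by
  by_cases hinj : Function.Injective ((aeval T.θ).comp η)
  · have hdet := T.det_ne_zero hJ hB hσ η hinj
    let P := MvPolynomial {e : E // e ∉ Set.range J} B
    let q : P →ₐ[k] P ⧸ Ideal.span {T.hess.det} := Ideal.Quotient.mkₐ k _
    haveI : IsNoetherianRing B := Algebra.FiniteType.isNoetherianRing k B
    haveI : Algebra.FiniteType k P := Algebra.FiniteType.trans (S := B) inferInstance inferInstance
    have hcard : n + 1 ≤ Fintype.card E := by simpa using Fintype.card_le_of_injective J hJ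
    have hni : ¬ Function.Injective ((q.comp ((aeval T.θ).comp η)).comp
        (renameEquiv k (Equiv.ulift.{u} (α := σ))).toAlgHom) := fun h => by
      have h1 := BertiniAff.le_ringKrullDim_of_injective _ h
      have h2 := (ringKrullDim_quotient_succ_le_of_nonZeroDivisor (mem_nonZeroDivisors_of_ne_zero hdet)).trans
        (T.dim_le hJ hB)
      have h3 := (add_le_add_left h1 1).trans h2
      rw [Fintype.card_ulift, ← hσ] at h3
      have h4 : Fintype.card σ + 1 ≤ Fintype.card σ + 1 - 1 := by exact_mod_cast h3
      omega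
    rw [injective_iff_map_eq_zero] at hni
    push Not at hni
    obtain ⟨s, hs, hs0⟩ := hni
    refine ⟨renameEquiv k Equiv.ulift s, (map_ne_zero_iff _ (AlgEquiv.injective _)).2 hs0, fun ev a hz hor => ?_⟩
    have h0 : T.point ev a T.hess.det = 0 := hor.elim (T.det_eq_zero_of_degPt ev a hz) id
    obtain ⟨c, hc⟩ := Ideal.mem_span_singleton'.1 (Ideal.Quotient.eq_zero_iff_mem.1 hs)
    rw [← T.point_aeval ev a hz]
    show T.point ev a (aeval T.θ (η ((renameEquiv k Equiv.ulift).toAlgHom s))) = 0
    rw [show aeval T.θ (η ((renameEquiv k Equiv.ulift).toAlgHom s)) = c * T.hess.det from hc.symm, map_mul, h0, mul_zero]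
  · rw [injective_iff_map_eq_zero] at hinj
    push Not at hinj
    obtain ⟨s, hs, hs0⟩ := hinj
    refine ⟨s, hs0, fun ev a hz _ => ?_⟩
    rw [← T.point_aeval ev a hz, show aeval T.θ (η s) = 0 from hs, map_zero]

end Domain

/-- An equation of all tangent forms vanishes on the parameter space. -/
theorem TanFamily.aeval_eq_zero [IsAlgClosed k] [IsDomain B] [Algebra.FiniteType k B] (T : TanFamily b g J)
    (p : MvPolynomial E k) (hp : ∀ (ev : B →ₐ[k] k) (a : E → k), DblZero ev (member g a) → eval a p = 0) :
    aeval T.θ p = 0 := by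
  refine MvPolynomial.ext _ _ fun m => ?_
  rw [coeff_zero]
  refine eq_zero_of_forall_point (k := k) fun ev => ?_
  have h0 : MvPolynomial.map ev.toRingHom (aeval T.θ p) = 0 := MvPolynomial.funext fun t => by
    rw [map_zero]
    let χ : MvPolynomial {e : E // e ∉ Set.range J} B →ₐ[k] k :=
      { eval₂Hom ev.toRingHom t with
        commutes' := fun c => by
          show eval₂Hom ev.toRingHom _ (algebraMap k (MvPolynomial _ B) c) = _
          rw [IsScalarTower.algebraMap_apply k B (MvPolynomial {e : E // e ∉ Set.range J} B), algebraMap_eq, eval₂Hom_C]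
          exact ev.commutes c }
    have h := hp _ (fun e => χ (T.θ e)) (T.dblZero_of_hom χ)
    rw [show eval t (MvPolynomial.map ev.toRingHom (aeval T.θ p)) = χ (aeval T.θ p) from
      (eval_map ev.toRingHom t _).trans rfl, ← AlgHom.comp_apply, comp_aeval]
    exact (congrFun (aeval_eq_eval _) p).trans h
  have h2 := congrArg (coeff m) h0
  rwa [coeff_map, coeff_zero] at h2

end

end Groth.Agent.LefPenLib
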