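import Groth.Agent.LefPenLib.Taylor2

/-!
# The tangent frame of a presented smooth algebra
-/

set_option backward.isDefEq.respectTransparency false
set_option backward.isDefEq.respectTransparency.types false

universe u

open MvPolynomial

namespace Groth.Agent.LefPenLib

noncomputable section

variable {k : Type u} [Field k] {B : Type u} [CommRing B] [Algebra k B] {m : ℕ} {σ : Type} [Fintype σ]
  [DecidableEq σ] (x : σ → B) (b : Module.Basis (Fin m) B Ω[B⁄k])

/-- The chain rule. -/
theorem D_aeval (P : MvPolynomial σ k) :
    KaehlerDifferential.D k B (aeval x P) = ∑ i, aeval x (pderiv i P) • KaehlerDifferential.D k B (x i) := by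
  induction P using MvPolynomial.induction_on with
  | C c => simp
  | add p q hp hq => simp only [map_add, hp, hq, add_smul, Finset.sum_add_distrib]
  | mul_X p s hp =>
    rw [map_mul, Derivation.leibniz, hp, aeval_X, Finset.smul_sum]
    have h : ∀ i, aeval x (pderiv i (p * X s)) • KaehlerDifferential.D k B (x i) =
        x s • (aeval x (pderiv i p) • KaehlerDifferential.D k B (x i)) +
          (if i = s then aeval x p • KaehlerDifferential.D k B (x i) else 0) := by
      intro i
      by_cases h : i = s
      · subst h
        simp [add_smul, mul_comm, smul_smul]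
        exact add_comm _ _
      · simp [pderiv_X, h, Ne.symm h, mul_comm, smul_smul]
    simp only [h, Finset.sum_add_distrib, Finset.sum_ite_eq', Finset.mem_univ, if_true]
    exact add_comm _ _

/-- The components of the tangent frame. -/
def frame (i : σ) (l : Fin m) : B := b.repr (KaehlerDifferential.D k B (x i)) l

theorem repr_D_aeval (P : MvPolynomial σ k) (l : Fin m) :
    b.repr (KaehlerDifferential.D k B (aeval x P)) l = ∑ i, aeval x (pderiv i P) * frame x b i l := by
  rw [D_aeval, map_sum, Finsupp.finsetSum_apply]
  exact Finset.sum_congr rfl fun i _ => by rw [map_smul, Finsupp.smul_apply, smul_eq_mul, frame]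

variable (hx : Function.Surjective (aeval x : MvPolynomial σ k →ₐ[k] B))

include hx in
/-- Finitely many relations cut out the frame: gradients killing it are combinations of their gradients. -/
theorem exists_relations :
    ∃ (c : ℕ) (g : Fin c → MvPolynomial σ k) (K : σ → Fin c → B) (R : Fin m → σ → B),
      (∀ a, aeval x (g a) = 0) ∧
      (∀ P : MvPolynomial σ k, aeval x P = 0 → ∀ i, ∃ q : Fin c → B, aeval x (pderiv i P) = ∑ a, q a * aeval x (pderiv i (g a))) ∧
      (∀ (w : σ → k) (ev : B →ₐ[k] k), (∀ a, ∑ i, ev (aeval x (pderiv i (g a))) * w i = 0) →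
        ∀ P : MvPolynomial σ k, aeval x P = 0 → ∑ i, ev (aeval x (pderiv i P)) * w i = 0) ∧
      ∀ i i', (if i = i' then (1 : B) else 0) =
        ∑ l, frame x b i l * R l i' + ∑ a, K i a * aeval x (pderiv i' (g a)) := by
  classical
  obtain ⟨c, g, hg⟩ := Submodule.fg_iff_exists_fin_generating_family.1
    (IsNoetherian.noetherian (RingHom.ker (aeval x : MvPolynomial σ k →ₐ[k] B)))
  have hg0 : ∀ a, aeval x (g a) = 0 := fun a => by
    have : g a ∈ RingHom.ker (aeval x : MvPolynomial σ k →ₐ[k] B) := hg ▸ Submodule.subset_span ⟨a, rfl⟩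
    exact this
  let W : Submodule B (σ → B) := Submodule.span B (Set.range fun a i => aeval x (pderiv i (g a)))
  have hgrad' : ∀ P ∈ Submodule.span (MvPolynomial σ k) (Set.range g),
      aeval x P = 0 ∧ (fun i => aeval x (pderiv i P)) ∈ W := by
    intro P hP
    induction hP using Submodule.span_induction with
    | mem P hP => obtain ⟨a, rfl⟩ := hP; exact ⟨hg0 a, Submodule.subset_span ⟨a, rfl⟩⟩
    | zero => exact ⟨map_zero _, by simp only [map_zero]; exact W.zero_mem⟩
    | add P Q _ _ ihP ihQ =>
      refine ⟨by rw [map_add, ihP.1, ihQ.1, add_zero], ?_⟩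
      have e : (fun i => aeval x (pderiv i (P + Q))) = (fun i => aeval x (pderiv i P)) + fun i => aeval x (pderiv i Q) :=
        funext fun i => by simp
      rw [e]
      exact W.add_mem ihP.2 ihQ.2
    | smul q P _ ih =>
      refine ⟨by rw [smul_eq_mul, map_mul, ih.1, mul_zero], ?_⟩
      have e : (fun i => aeval x (pderiv i (q • P))) = aeval x q • fun i => aeval x (pderiv i P) :=
        funext fun i => by simp [ih.1]
      rw [e]
      exact W.smul_mem _ ih.2
  have hgrad : ∀ P : MvPolynomial σ k, aeval x P = 0 → (fun i => aeval x (pderiv i P)) ∈ W := fun P hP =>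
    (hgrad' P (by rw [hg]; exact hP)).2
  let mk : (σ → B) →ₗ[B] (σ → B) ⧸ W := W.mkQ
  let δ : MvPolynomial σ k → (σ → B) ⧸ W := fun P => mk fun i => aeval x (pderiv i P)
  have hδ : ∀ P Q : MvPolynomial σ k, aeval x P = aeval x Q → δ P = δ Q := fun P Q h => by
    refine (Submodule.Quotient.eq W).2 ?_
    have := hgrad (P - Q) (by rw [map_sub, h, sub_self])
    simp only [map_sub] at this
    exact this
  let inv := Function.surjInv hx
  have hinv : ∀ y, (aeval x : MvPolynomial σ k →ₐ[k] B) (inv y) = y := Function.surjInv_eq hx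
  have hδadd : ∀ P Q, δ (P + Q) = δ P + δ Q := fun P Q => by
    show mk _ = _
    rw [← map_add]; congr 1; funext i; simp
  let D' : Derivation k B ((σ → B) ⧸ W) :=
    Derivation.mk'
      { toFun := fun y => δ (inv y)
        map_add' := fun y z => by
          rw [← hδadd]
          exact hδ _ _ (by rw [hinv, map_add, hinv, hinv])
        map_smul' := fun a y => by
          rw [hδ (inv (a • y)) (a • inv y) (by rw [hinv, map_smul, hinv]), RingHom.id_apply]
          show mk _ = a • mk _
          rw [← LinearMap.map_smul_of_tower]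
          congr 1
          funext i
          simp }
      fun y z => by
        show δ (inv (y * z)) = y • δ (inv z) + z • δ (inv y)
        rw [hδ (inv (y * z)) (inv y * inv z) (by rw [hinv, map_mul, hinv, hinv])]
        show mk _ = y • mk _ + z • mk _
        rw [← map_smul, ← map_smul, ← map_add]
        congr 1
        funext i
        simp [hinv]
  let L := D'.liftKaehlerDifferential
  have hLx : ∀ i, L (KaehlerDifferential.D k B (x i)) = mk (Pi.single i 1) := fun i => by
    rw [Derivation.liftKaehlerDifferential_comp_D]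
    show δ (inv (x i)) = _
    rw [hδ (inv (x i)) (X i) (by rw [hinv, aeval_X])]
    show mk _ = _
    congr 1
    funext l
    by_cases h : l = i
    · subst h; simp
    · simp [pderiv_X, h, Ne.symm h]
  have hker : ∀ w : σ → B, ∑ i, w i • KaehlerDifferential.D k B (x i) = 0 → w ∈ W := by
    intro w hw
    rw [← Submodule.Quotient.mk_eq_zero]
    show mk w = 0
    rw [pi_eq_sum_univ' w, map_sum, ← map_zero L, ← hw, map_sum]
    exact Finset.sum_congr rfl fun i _ => by rw [map_smul, map_smul, hLx]
  have hspan : ∀ ω : Ω[B⁄k], ω ∈ Submodule.span B (Set.range fun i => KaehlerDifferential.D k B (x i)) := by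
    intro ω
    refine Submodule.span_le.2 ?_ (show ω ∈ Submodule.span B (Set.range (KaehlerDifferential.D k B)) by
      rw [KaehlerDifferential.span_range_derivation]; trivial)
    rintro _ ⟨y, rfl⟩
    obtain ⟨P, rfl⟩ := hx y
    rw [D_aeval]
    exact Submodule.sum_mem _ fun i _ => Submodule.smul_mem _ _ (Submodule.subset_span ⟨i, rfl⟩)
  choose R hR using fun l => (Submodule.mem_span_range_iff_exists_fun B).1 (hspan (b l))
  have hsol : ∀ i, ∃ K : Fin c → B,
      ∑ a, K a • (fun i' => aeval x (pderiv i' (g a))) = Pi.single i 1 - ∑ l, frame x b i l • R l := by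
    intro i
    refine (Submodule.mem_span_range_iff_exists_fun B).1 (hker _ ?_)
    simp only [Pi.sub_apply, Finset.sum_apply, Pi.smul_apply, smul_eq_mul, sub_smul, Finset.sum_sub_distrib,
      Finset.sum_smul]
    rw [Finset.sum_comm]
    simp only [← smul_smul, ← Finset.smul_sum, hR]
    rw [show ∑ l, frame x b i l • b l = KaehlerDifferential.D k B (x i) from b.sum_repr _]
    rw [Finset.sum_eq_single i (fun i' _ hi' => by rw [Pi.single_eq_of_ne hi', zero_smul])
      (fun h => absurd (Finset.mem_univ i) h), Pi.single_eq_same, one_smul, sub_self]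
  choose K hK using hsol
  refine ⟨c, g, K, R, hg0, fun P hP i => ?_, fun w ev hw P hP => ?_, fun i i' => ?_⟩
  · obtain ⟨q, hq⟩ := (Submodule.mem_span_range_iff_exists_fun B).1 (hgrad P hP)
    exact ⟨q, (congrFun hq i).symm.trans (by simp [Finset.sum_apply])⟩
  · obtain ⟨q, hq⟩ := (Submodule.mem_span_range_iff_exists_fun B).1 (hgrad P hP)
    calc ∑ i, ev (aeval x (pderiv i P)) * w i
        = ∑ i, ∑ a, ev (q a) * (ev (aeval x (pderiv i (g a))) * w i) := Finset.sum_congr rfl fun i _ => by
          rw [← congrFun hq i]; simp [Finset.sum_apply, Finset.sum_mul, mul_assoc]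
      _ = 0 := by
          rw [Finset.sum_comm]
          exact Finset.sum_eq_zero fun a _ => by rw [← Finset.mul_sum, hw a, mul_zero]
  · have h := congrFun (hK i) i'
    simp only [Finset.sum_apply, Pi.smul_apply, smul_eq_mul, Pi.sub_apply, Pi.single_apply] at h
    rw [h, add_sub_cancel]
    simp only [eq_comm]

end

end Groth.Agent.LefPenLib
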