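import Groth.Agent.LefPenLib.Param
import Groth.Agent.LefPenLib.QuadCone
import Mathlib.RingTheory.Localization.FractionRing
import Mathlib.Algebra.Polynomial.Derivative

/-!
# The Hessian of the family of tangent forms
-/

set_option backward.isDefEq.respectTransparency false
set_option backward.isDefEq.respectTransparency.types false
set_option linter.unusedSectionVars false
set_option linter.style.haveILetI false

universe u

open MvPolynomial

namespace Groth.Agent.LefPenLib

noncomputable section

variable {k : Type u} [Field k] {B : Type u} [CommRing B] [Algebra k B] {n : ℕ} {E : Type} [Fintype E]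
  [DecidableEq E]

/-- The partial derivative along a vector of the basis. -/
def pd (b : Module.Basis (Fin n) B Ω[B⁄k]) (l : Fin n) : B →ₗ[k] B :=
  ((b.coord l).restrictScalars k).comp (KaehlerDifferential.D k B).toLinearMap

theorem pd_apply (b : Module.Basis (Fin n) B Ω[B⁄k]) (l : Fin n) (x : B) :
    pd b l x = b.repr (KaehlerDifferential.D k B x) l := rfl

theorem pd_mul (b : Module.Basis (Fin n) B Ω[B⁄k]) (l : Fin n) (x y : B) :
    pd b l (x * y) = x * pd b l y + y * pd b l x := by
  rw [pd_apply, pd_apply, pd_apply, Derivation.leibniz, map_add, map_smul, map_smul, Finsupp.add_apply,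
    Finsupp.smul_apply, Finsupp.smul_apply, smul_eq_mul, smul_eq_mul]

theorem pd_algebraMap (b : Module.Basis (Fin n) B Ω[B⁄k]) (l : Fin n) (c : k) : pd b l (algebraMap k B c) = 0 := by
  rw [pd_apply, Derivation.map_algebraMap, map_zero, Finsupp.zero_apply]

/-- A family of tangent forms with the pivots `J` eliminated. -/
structure TanFamily (b : Module.Basis (Fin n) B Ω[B⁄k]) (g : E → B) (J : Option (Fin n) → E) where
  θ : E → MvPolynomial {e : E // e ∉ Set.range J} B
  free : ∀ e : {e : E // e ∉ Set.range J}, θ e.1 = X e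
  eqs : ∀ o, ∑ e, C (jetMatrix b g o e) * θ e = 0
  unique : ∀ (L : Type u) [CommRing L] (χ : B →+* L) (y : E → L), (∀ e, e ∉ Set.range J → y e = 0) →
    (∀ o, ∑ e, χ (jetMatrix b g o e) * y e = 0) → y = 0
  complete : ∀ (χ : B →ₐ[k] k) (c : E → k), (∀ o, ∑ e, χ (jetMatrix b g o e) * c e = 0) →
    ∀ e, eval₂ χ.toRingHom (fun t => c t.1) (θ e) = c e

theorem exists_tanFamily (b : Module.Basis (Fin n) B Ω[B⁄k]) (g : E → B) (J : Option (Fin n) → E)
    (hJ : IsUnit ((jetMatrix b g).submatrix id J).det) (hinj : Function.Injective J) :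
    Nonempty (TanFamily b g J) := by
  classical
  let U := ((jetMatrix b g).submatrix id J)
  let T : E → MvPolynomial {e : E // e ∉ Set.range J} B := fun e => if h : e ∉ Set.range J then X ⟨e, h⟩ else 0
  let w : Option (Fin n) → MvPolynomial {e : E // e ∉ Set.range J} B := fun o => ∑ e, C (jetMatrix b g o e) * T e
  let θ : E → MvPolynomial {e : E // e ∉ Set.range J} B := fun e =>
    T e - ∑ o, if J o = e then ∑ o', C (U⁻¹ o o') * w o' else 0
  have hsum : ∀ {L : Type u} [CommRing L] (y : Option (Fin n) → L) (f : E → L),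
      ∑ e, f e * (∑ o, if J o = e then y o else 0) = ∑ o, f (J o) * y o := by
    intro L _ y f
    simp only [Finset.mul_sum, mul_ite, mul_zero]
    rw [Finset.sum_comm]
    exact Finset.sum_congr rfl fun o _ => by rw [Finset.sum_ite_eq _ _ (fun e => f e * y o), if_pos (Finset.mem_univ _)]
  have hUU : ∀ o o', ∑ p, U o p * U⁻¹ p o' = if o = o' then 1 else 0 := fun o o' => by
    have h := congrFun (congrFun (Matrix.mul_nonsing_inv U hJ) o) o'
    rwa [Matrix.mul_apply, Matrix.one_apply] at h
  refine ⟨⟨θ, fun e => ?_, fun o => ?_, fun L _ χ y hy hrow => ?_, fun χ c hc e => ?_⟩⟩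
  · simp only [θ, T]
    rw [dif_pos e.2, Finset.sum_eq_zero fun o _ => if_neg fun h => e.2 ⟨o, h⟩, sub_zero]
  · simp only [θ, mul_sub, Finset.sum_sub_distrib]
    rw [hsum, sub_eq_zero]
    simp only [Finset.mul_sum, ← mul_assoc, ← map_mul]
    rw [Finset.sum_comm]
    simp only [← Finset.sum_mul, ← map_sum]
    rw [Finset.sum_eq_single o]
    · rw [show (∑ p, jetMatrix b g o (J p) * U⁻¹ p o) = 1 from (hUU o o).trans (if_pos rfl), map_one, one_mul]
    · intro o' _ ho'
      rw [show (∑ p, jetMatrix b g o (J p) * U⁻¹ p o') = 0 from (hUU o o').trans (if_neg (Ne.symm ho')), map_zero, zero_mul]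
    · intro h; exact absurd (Finset.mem_univ _) h
  · have h1 : (U.map χ).mulVec (fun o => y (J o)) = 0 := by
      funext o
      rw [Pi.zero_apply, ← hrow o]
      refine Eq.symm (Eq.trans (Finset.sum_subset (Finset.subset_univ (Finset.univ.image J)) fun e _ he => ?_).symm ?_)
      · rw [hy e fun ⟨o', ho'⟩ => he (Finset.mem_image.2 ⟨o', Finset.mem_univ _, ho'⟩), mul_zero]
      · rw [Finset.sum_image fun a _ a' _ h => hinj h]
        rfl
    have h2 := Matrix.mulVec_injective_of_isUnit ((Matrix.isUnit_iff_isUnit_det _).2 (by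
      rw [show (U.map χ).det = χ U.det from (χ.map_det U).symm]; exact hJ.map χ)) (h1.trans (Matrix.mulVec_zero _).symm)
    funext e
    by_cases he : e ∈ Set.range J
    · obtain ⟨o, rfl⟩ := he
      exact congrFun h2 o
    · exact hy e he
  · let ev := eval₂Hom χ.toRingHom fun t : {e : E // e ∉ Set.range J} => c t.1
    show ev (θ e) = c e
    have hT : ∀ e, ev (T e) = if e ∈ Set.range J then 0 else c e := fun e => by
      by_cases h : e ∈ Set.range J
      · simp only [T]
        rw [if_pos h, dif_neg (not_not.2 h), map_zero]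
      · simp only [T]
        rw [if_neg h, dif_pos h]
        simp [ev]
    have hw : ∀ o, ev (w o) = -∑ p, χ (U o p) * c (J p) := by
      intro o
      rw [eq_neg_iff_add_eq_zero]
      refine Eq.trans ?_ (hc o)
      simp only [w, map_sum, map_mul, hT]
      rw [show (∑ p, χ (U o p) * c (J p)) = ∑ e ∈ Finset.univ.image J, χ (jetMatrix b g o e) * c e from
          Eq.symm (Finset.sum_image (f := fun e => χ (jetMatrix b g o e) * c e) fun a _ a' _ h => hinj h),
        show (Finset.univ.image J : Finset E) = Finset.univ.filter (fun e => e ∈ Set.range J) by ext e; simp [eq_comm],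
        Finset.sum_filter, ← Finset.sum_add_distrib]
      refine Finset.sum_congr rfl fun e _ => ?_
      by_cases h : e ∈ Set.range J <;> simp [h, ev]
    by_cases he : e ∈ Set.range J
    · obtain ⟨p, rfl⟩ := he
      simp only [θ, map_sub, map_sum, hT, Set.mem_range_self, if_true, zero_sub, apply_ite ev, map_zero,
        hinj.eq_iff, map_mul, hw, mul_neg, Finset.sum_neg_distrib]
      rw [Finset.sum_ite_eq' (s := Finset.univ), if_pos (Finset.mem_univ _)]
      simp only [Finset.sum_neg_distrib, neg_neg, Finset.mul_sum]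
      rw [Finset.sum_comm]
      have hev : ∀ z, ev (C z) = χ z := fun z => by simp [ev]
      simp only [hev, ← mul_assoc, ← map_mul, ← Finset.sum_mul, ← map_sum]
      rw [Finset.sum_eq_single p]
      · have h := congrFun (congrFun (Matrix.nonsing_inv_mul U hJ) p) p
        rw [Matrix.mul_apply, Matrix.one_apply_eq] at h
        rw [h, map_one, one_mul]
      · intro q _ hq
        have h := congrFun (congrFun (Matrix.nonsing_inv_mul U hJ) p) q
        rw [Matrix.mul_apply, Matrix.one_apply_ne (Ne.symm hq)] at h
        rw [h, map_zero, zero_mul]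
      · intro h; exact absurd (Finset.mem_univ _) h
    · simp only [θ, map_sub, hT, he, if_false]
      rw [Finset.sum_eq_zero fun o _ => if_neg fun h => he ⟨o, h⟩, map_zero, sub_zero]

variable {b : Module.Basis (Fin n) B Ω[B⁄k]} {g : E → B} {J : Option (Fin n) → E}

/-- The Hessian of the universal member. -/
def TanFamily.hess (T : TanFamily b g J) : Matrix (Fin n) (Fin n) (MvPolynomial {e : E // e ∉ Set.range J} B) :=
  fun l m => ∑ e, C (pd b l (pd b m (g e))) * T.θ e

variable {L : Type u} [CommRing L] [Algebra k L]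

/-- A tangent vector of the parameter space. -/
theorem TanFamily.exists_vel (T : TanFamily b g J) (χ : MvPolynomial {e : E // e ∉ Set.range J} B →ₐ[k] L)
    (v : Fin n → L) (w : {e : E // e ∉ Set.range J} → L) :
    ∃ ψ : MvPolynomial {e : E // e ∉ Set.range J} B →ₐ[k] DualNumber L,
      (∀ p, (ψ p).fst = χ p) ∧ (∀ t, (ψ (X t)).snd = w t) ∧ (∀ x, (ψ (C x)).snd = ∑ l, v l * χ (C (pd b l x))) ∧
      (∑ e, χ (C (g e)) * (ψ (T.θ e)).snd = 0) ∧
      ∀ m, ∑ e, χ (C (pd b m (g e))) * (ψ (T.θ e)).snd = -∑ l, v l * χ (T.hess l m) := by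
  let δ : B → L := fun x => ∑ l, v l * χ (C (pd b l x))
  let φ : B →+* DualNumber L :=
    { toFun := fun x => TrivSqZeroExt.inl (χ (C x)) + TrivSqZeroExt.inr (δ x)
      map_one' := by
        ext
        · simp
        · simp [δ, (fun l => by simpa using pd_algebraMap b l 1 : ∀ l, pd b l (1 : B) = 0)]
      map_mul' := fun x y => by
        ext
        · simp
        · simp only [δ, TrivSqZeroExt.snd_add, TrivSqZeroExt.snd_inl, TrivSqZeroExt.snd_inr, zero_add,
            TrivSqZeroExt.snd_mul, TrivSqZeroExt.fst_add, TrivSqZeroExt.fst_inl, TrivSqZeroExt.fst_inr, add_zero,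
            smul_eq_mul, MulOpposite.smul_eq_mul_unop, MulOpposite.unop_op, Finset.mul_sum, Finset.sum_mul,
            ← Finset.sum_add_distrib, pd_mul, map_add, map_mul]
          exact Finset.sum_congr rfl fun l _ => by ring
      map_zero' := by ext <;> simp [δ]
      map_add' := fun x y => by
        ext
        · simp
        · simp [δ, mul_add, Finset.sum_add_distrib] }
  let ψr := eval₂Hom φ fun t => TrivSqZeroExt.inl (χ (X t)) + TrivSqZeroExt.inr (w t)
  let ψ : MvPolynomial {e : E // e ∉ Set.range J} B →ₐ[k] DualNumber L :=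
    { ψr with
      commutes' := fun c => by
        show ψr (algebraMap k (MvPolynomial _ B) c) = _
        rw [IsScalarTower.algebraMap_apply k B (MvPolynomial {e : E // e ∉ Set.range J} B), algebraMap_eq]
        simp only [ψr, eval₂Hom_C]
        ext
        · rw [TrivSqZeroExt.algebraMap_eq_inl', TrivSqZeroExt.fst_inl]
          show TrivSqZeroExt.fst (TrivSqZeroExt.inl (χ (C (algebraMap k B c))) + TrivSqZeroExt.inr _ : DualNumber L) = _
          rw [TrivSqZeroExt.fst_add, TrivSqZeroExt.fst_inl, TrivSqZeroExt.fst_inr, add_zero,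
            show C (algebraMap k B c) = algebraMap k (MvPolynomial {e : E // e ∉ Set.range J} B) c from
              (IsScalarTower.algebraMap_apply k B (MvPolynomial {e : E // e ∉ Set.range J} B) c).symm, AlgHom.commutes]
        · simp [φ, δ, pd_algebraMap, TrivSqZeroExt.algebraMap_eq_inl'] }
  have hfst : ∀ p, (ψ p).fst = χ p := fun p => by
    induction p using MvPolynomial.induction_on with
    | C x =>
      show (ψr (C x)).fst = _
      simp [ψr, φ]
    | add p q hp hq => simp [hp, hq]
    | mul_X p t hp =>
      rw [map_mul, TrivSqZeroExt.fst_mul, hp, map_mul]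
      refine congrArg (χ p * ·) ?_
      show (ψr (X t)).fst = _
      simp [ψr]
  have hC : ∀ x, (ψ (C x)).snd = δ x := fun x => by
    show (ψr (C x)).snd = _
    simp [ψr, φ]
  have hrow : ∀ o, ∑ e, (χ (C (jetMatrix b g o e)) * (ψ (T.θ e)).snd + δ (jetMatrix b g o e) * χ (T.θ e)) = 0 := fun o => by
    have h := congrArg (fun z => (ψ z).snd) (T.eqs o)
    simp only [map_sum, map_zero, TrivSqZeroExt.snd_zero, TrivSqZeroExt.snd_sum, map_mul, TrivSqZeroExt.snd_mul,
      hfst, hC, smul_eq_mul, MulOpposite.smul_eq_mul_unop, MulOpposite.unop_op] at h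
    exact h
  refine ⟨ψ, hfst, fun t => ?_, hC, ?_, fun m => ?_⟩
  · show (ψr (X t)).snd = _
    simp [ψr]
  · have h := hrow none
    rw [Finset.sum_add_distrib] at h
    have h2 : ∑ e, δ (jetMatrix b g none e) * χ (T.θ e) = 0 := by
      simp only [δ, Finset.sum_mul]
      rw [Finset.sum_comm]
      refine Finset.sum_eq_zero fun l _ => ?_
      simp only [mul_assoc, ← Finset.mul_sum, ← map_mul, ← map_sum]
      rw [show ∑ e, C (pd b l (jetMatrix b g none e)) * T.θ e = 0 from T.eqs (some l), map_zero, mul_zero]
    rw [h2, add_zero] at h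
    exact h
  · have h := hrow (some m)
    rw [Finset.sum_add_distrib] at h
    refine (eq_neg_of_add_eq_zero_left h).trans ?_
    simp only [δ, TanFamily.hess, map_sum, map_mul, Finset.sum_mul, Finset.mul_sum, mul_assoc]
    rw [Finset.sum_comm]
    rfl

/-- An element algebraic in the image is fixed by an infinitesimal deformation fixing the image. -/
theorem snd_eq_zero_of_algebraic [CharZero k] {S A : Type u} [CommRing S] [IsDomain S] [Algebra k S] [CommRing A]
    [IsDomain A] [Algebra k A] (ι₀ : S →ₐ[k] A) (hι₀ : Function.Injective ι₀) {K : Type u} [Field K] [Algebra k K]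
    (ψ : A →ₐ[k] DualNumber K) (hfst : Function.Injective fun a => (ψ a).fst) (hS : ∀ s, (ψ (ι₀ s)).snd = 0)
    (y : A) (q : Polynomial S) (hq : q ≠ 0) (hqy : q.eval₂ ι₀.toRingHom y = 0) : (ψ y).snd = 0 := by
  classical
  suffices h : ∀ N, ∀ q : Polynomial S, q.natDegree ≤ N → q ≠ 0 → q.eval₂ ι₀.toRingHom y = 0 → (ψ y).snd = 0 from
    h _ q le_rfl hq hqy
  intro N
  induction N with
  | zero =>
    intro q hdeg hq hqy
    rw [Polynomial.eq_C_of_natDegree_le_zero hdeg] at hq hqy
    rw [Polynomial.eval₂_C] at hqy
    exact absurd (by rw [hι₀ (hqy.trans (map_zero ι₀).symm), map_zero]) hq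
  | succ N ih =>
    intro q hdeg hq hqy
    have hleib : ∀ p : Polynomial S, (ψ (p.eval₂ ι₀.toRingHom y)).snd =
        (ψ (p.derivative.eval₂ ι₀.toRingHom y)).fst * (ψ y).snd := by
      intro p
      induction p using Polynomial.induction_on' with
      | add p p' hp hp' =>
        rw [Polynomial.eval₂_add, map_add, TrivSqZeroExt.snd_add, hp, hp', Polynomial.derivative_add, Polynomial.eval₂_add,
          map_add, TrivSqZeroExt.fst_add, add_mul]
      | monomial j a =>
        rw [Polynomial.derivative_monomial, Polynomial.eval₂_monomial, Polynomial.eval₂_monomial]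
        simp only [map_mul, map_pow, AlgHom.toRingHom_eq_coe, RingHom.coe_coe, TrivSqZeroExt.snd_mul, hS,
          TrivSqZeroExt.fst_mul, TrivSqZeroExt.fst_pow, TrivSqZeroExt.snd_pow, map_natCast, smul_eq_mul,
          MulOpposite.smul_eq_mul_unop, MulOpposite.unop_op, zero_mul, add_zero, nsmul_eq_mul, TrivSqZeroExt.fst_natCast]
        rw [Nat.pred_eq_sub_one]
        ring
    have h := hleib q
    rw [hqy, map_zero, TrivSqZeroExt.snd_zero] at h
    by_cases hz : (ψ (q.derivative.eval₂ ι₀.toRingHom y)).fst = 0
    · have h0 : q.derivative.eval₂ ι₀.toRingHom y = 0 := hfst (by simpa using hz)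
      by_cases hd : q.derivative = 0
      · exfalso
        haveI : CharZero S := charZero_of_injective_algebraMap (algebraMap k S).injective
        rw [Polynomial.eq_C_of_derivative_eq_zero hd] at hq hqy
        rw [Polynomial.eval₂_C] at hqy
        exact hq (by rw [hι₀ (hqy.trans (map_zero ι₀).symm), map_zero])
      · exact ih q.derivative ((Polynomial.natDegree_derivative_le q).trans (by omega)) hd h0
    · exact (mul_eq_zero.1 h.symm).resolve_left hz

end

end Groth.Agent.LefPenLib
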