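import Groth.Agent.LefPenLib.Elim
import Mathlib.RingTheory.Nullstellensatz

/-!
# A projective plane set missing a line is finite
-/

universe u

open MvPolynomial

namespace Groth.Agent.LefPenLib

noncomputable section

variable {k : Type u} [Field k]

/-- Functions on `Z` given by forms of degree `n` in `(1, x, y)`. -/
def formFun (Z : Set (Fin 2 → k)) (n : ℕ) : Submodule k (Z → k) :=
  (homogeneousSubmodule (Fin 3) k n).map
    (LinearMap.pi fun z : Z => (aeval (Fin.cons 1 z.1) : MvPolynomial (Fin 3) k →ₐ[k] k).toLinearMap)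

/-- A set of points of the affine plane cut out by forms without common zero at infinity is finite. -/
theorem finite_of_no_zero_at_infty [IsAlgClosed k] (Z : Set (Fin 2 → k))
    (h : ∀ v : Fin 2 → k, v ≠ 0 → ∃ (m : ℕ) (P : MvPolynomial (Fin 3) k), P.IsHomogeneous m ∧
      eval (Fin.cons 0 v) P ≠ 0 ∧ ∀ z ∈ Z, eval (Fin.cons 1 z) P = 0) : Z.Finite := by
  classical
  let S : Set (MvPolynomial (Fin 3) k) :=
    {P | (∃ m, P.IsHomogeneous m) ∧ ∀ z ∈ Z, eval (Fin.cons 1 z) P = 0}
  -- a power of every coordinate lies in the ideal of `S` and `X 0`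
  let I : Ideal (MvPolynomial (Fin 3) k) := Ideal.span (insert (X 0) S)
  have hrad : ∀ l, (X l : MvPolynomial (Fin 3) k) ∈ I.radical := fun l => by
    rw [← vanishingIdeal_zeroLocus_eq_radical (K := k) I, mem_vanishingIdeal_iff]
    intro v hv
    have hev : ∀ P ∈ insert (X 0) S, eval v P = 0 := fun P hP => by
      have := (mem_zeroLocus_iff.1 hv) P (Ideal.subset_span hP)
      rwa [aeval_eq_eval] at this
    have hv0 : v 0 = 0 := by simpa using hev _ (Set.mem_insert _ _)
    have hvt : Fin.tail v = 0 := by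
      by_contra hne
      obtain ⟨m, P, hPm, hP0, hPZ⟩ := h _ hne
      refine hP0 ?_
      rw [show (Fin.cons 0 (Fin.tail v) : Fin 3 → k) = v by rw [← hv0, Fin.cons_self_tail]]
      exact hev P (Set.mem_insert_of_mem _ ⟨⟨m, hPm⟩, hPZ⟩)
    have : v = 0 := by
      rw [← Fin.cons_self_tail v, hv0, hvt]
      funext i
      refine Fin.cases ?_ (fun _ => ?_) i <;> simp
    simp [this]
  choose Ml hMl using hrad
  let M := Finset.univ.sup Ml + 1
  have hpow : ∀ l, (X l : MvPolynomial (Fin 3) k) ^ M ∈ I := fun l => by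
    rw [show M = Ml l + (M - Ml l) from (Nat.add_sub_cancel' ((Finset.le_sup (Finset.mem_univ l)).trans (Nat.le_succ _))).symm,
      pow_add]
    exact I.mul_mem_right _ (hMl l)
  -- membership in the ideal gives divisibility by the line at infinity modulo functions vanishing on `Z`
  have hR : ∀ l, ∃ R : MvPolynomial (Fin 3) k, R.IsHomogeneous (M - 1) ∧
      ∀ z ∈ Z, eval (Fin.cons 1 z) ((X l) ^ M) = eval (Fin.cons 1 z) R := by
    intro l
    obtain ⟨a, b, hb, hab⟩ := Ideal.mem_span_insert.1 (hpow l)
    refine ⟨homogeneousComponent (M - 1) a, homogeneousComponent_isHomogeneous _ _, fun z hz => ?_⟩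
    have hcomp : ∀ b ∈ Ideal.span S, ∀ j, eval (Fin.cons 1 z) (homogeneousComponent j b) = 0 := by
      intro b hb
      induction hb using Submodule.span_induction with
      | mem P hP =>
        intro j
        obtain ⟨⟨m, hm⟩, hPZ⟩ := hP
        rw [homogeneousComponent_of_mem hm]
        split_ifs
        · exact hPZ z hz
        · exact map_zero _
      | zero => simp
      | add x y _ _ hx hy => intro j; rw [map_add, map_add, hx j, hy j, add_zero]
      | smul q x _ hx =>
        intro j
        rw [smul_eq_mul, ← sum_homogeneousComponent (φ := x), Finset.mul_sum, map_sum, map_sum]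
        refine Finset.sum_eq_zero fun i _ => ?_
        rw [homogeneousComponent_mul (homogeneousComponent_isHomogeneous i x), map_mul, hx i, mul_zero]
    have h2 := congrArg (homogeneousComponent M) hab
    rw [homogeneousComponent_of_mem (isHomogeneous_X_pow (R := k) l M), if_pos rfl, map_add,
      homogeneousComponent_mul (isHomogeneous_X k (0 : Fin 3)), if_pos (Nat.le_add_left 1 _)] at h2
    rw [h2, map_add, hcomp b hb M, add_zero, map_mul, eval_X, Fin.cons_zero, mul_one]
  choose R hRh hRz using hR
  let φ : MvPolynomial (Fin 3) k →ₗ[k] (Z → k) :=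
    LinearMap.pi fun z : Z => (aeval (Fin.cons 1 z.1) : MvPolynomial (Fin 3) k →ₐ[k] k).toLinearMap
  have hφ : ∀ p (z : Z), φ p z = eval (Fin.cons 1 z.1) p := fun p z => congrFun (aeval_eq_eval _) p
  let D := 2 * M
  -- forms of any degree reduce to degree `D`
  have hup : ∀ n, D ≤ n → ∀ p : MvPolynomial (Fin 3) k, p.IsHomogeneous n → φ p ∈ formFun Z D := by
    intro n
    induction n using Nat.strong_induction_on with
    | _ n ih =>
      intro hn p hp
      rcases hn.eq_or_lt with rfl | hlt
      · exact ⟨p, (mem_homogeneousSubmodule _ _).2 hp, rfl⟩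
      rw [p.as_sum, map_sum]
      refine Submodule.sum_mem _ fun e he => ?_
      have hdeg : e.degree = n := by
        have := hp (mem_support_iff.1 he)
        rwa [show Finsupp.weight (1 : Fin 3 → ℕ) e = e.degree from (DFunLike.congr_fun Finsupp.degree_eq_weight_one e).symm] at this
      have hsum : e 0 + e 1 + e 2 = n := by
        rw [← hdeg, Finsupp.degree_apply, Finset.sum_subset (Finset.subset_univ _)
          (fun i _ hi => Finsupp.notMem_support_iff.1 hi), Fin.sum_univ_three]
      obtain ⟨i, j, hij, rep⟩ : ∃ (i : Fin 3) (j : ℕ) (_ : j ≤ e i), ∃ q : MvPolynomial (Fin 3) k,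
          q.IsHomogeneous (j - 1) ∧ 0 < j ∧ ∀ z ∈ Z, eval (Fin.cons 1 z) ((X i : MvPolynomial (Fin 3) k) ^ j) = eval (Fin.cons 1 z) q := by
        by_cases h0 : e 0 = 0
        · by_cases h1 : M ≤ e 1
          · exact ⟨1, M, h1, R 1, hRh 1, Nat.succ_pos _, hRz 1⟩
          · exact ⟨2, M, by omega, R 2, hRh 2, Nat.succ_pos _, hRz 2⟩
        · exact ⟨0, 1, Nat.pos_of_ne_zero h0, 1, isHomogeneous_one _ _, one_pos, fun z _ => by simp⟩
      obtain ⟨q, hq, hjpos, hqz⟩ := rep
      have hle : Finsupp.single i j ≤ e := Finsupp.single_le_iff.2 hij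
      let e' := e - Finsupp.single i j
      have he' : e'.degree + j = n := by
        rw [← hdeg]
        conv_rhs => rw [← tsub_add_cancel_of_le hle]
        rw [map_add, Finsupp.degree_single]
      have heq : φ (monomial e (coeff e p)) = φ (monomial e' (coeff e p) * q) := by
        funext z
        rw [hφ, hφ, map_mul, ← hqz z.1 z.2, ← map_mul, X_pow_eq_monomial, monomial_mul, mul_one,
          show e' + Finsupp.single i j = e from tsub_add_cancel_of_le hle]
      rw [heq]
      refine ih (e'.degree + (j - 1)) (by omega) (by omega) _ ((isHomogeneous_monomial _ rfl).mul hq)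
  -- hence all polynomial functions lie in a finite-dimensional space
  haveI : Module.Finite k (formFun Z D) := by
    have : homogeneousSubmodule (Fin 3) k D ≤ restrictTotalDegree (Fin 3) k D := fun p hp =>
      (mem_restrictTotalDegree _ _ _).2 (IsHomogeneous.totalDegree_le hp)
    haveI := Submodule.finiteDimensional_of_le this
    exact Module.Finite.map _ _
  by_contra hinf
  obtain ⟨T, hT, hTc⟩ := Set.Infinite.exists_subset_card_eq hinf (Module.finrank k (formFun Z D) + 1)
  -- separating polynomials
  have hsep : ∀ t : T, ∃ p : MvPolynomial (Fin 3) k, (∃ n, D ≤ n ∧ p.IsHomogeneous n) ∧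
      eval (Fin.cons 1 t.1) p ≠ 0 ∧ ∀ s : T, s ≠ t → eval (Fin.cons 1 s.1) p = 0 := by
    intro t
    have hl : ∀ s : T, s ≠ t → ∃ l : MvPolynomial (Fin 3) k, l.IsHomogeneous 1 ∧
        eval (Fin.cons 1 t.1) l ≠ 0 ∧ eval (Fin.cons 1 s.1) l = 0 := fun s hs => by
      obtain ⟨i, hi⟩ := Function.ne_iff.1 (Subtype.coe_injective.ne hs)
      exact ⟨X i.succ - C (s.1 i) * X 0, (isHomogeneous_X k _).sub ((isHomogeneous_X k _).C_mul _),
        by simpa [sub_ne_zero] using Ne.symm hi, by simp⟩
    choose l hl1 hl2 hl3 using hl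
    refine ⟨(X 0) ^ D * ∏ s ∈ (Finset.univ.erase t).attach, l s.1 (Finset.ne_of_mem_erase s.2),
      ⟨_, Nat.le_add_right D _, (isHomogeneous_X_pow (R := k) (0 : Fin 3) D).mul
        (IsHomogeneous.prod _ _ (fun _ => 1) fun s _ => hl1 _ _)⟩, ?_, fun s hs => ?_⟩
    · simp only [map_mul, map_pow, eval_X, Fin.cons_zero, one_pow, one_mul, map_prod]
      exact Finset.prod_ne_zero_iff.2 fun s _ => hl2 _ _
    · simp only [map_mul, map_prod]
      refine mul_eq_zero_of_right _ (Finset.prod_eq_zero (Finset.mem_attach _ ⟨s, Finset.mem_erase.2 ⟨hs, Finset.mem_univ _⟩⟩) (hl3 _ _))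
  choose p hp hp1 hp2 using hsep
  let f : T → formFun Z D := fun t => ⟨φ (p t), hup _ (hp t).choose_spec.1 _ (hp t).choose_spec.2⟩
  have hli : LinearIndependent k f := by
    rw [Fintype.linearIndependent_iff]
    intro c hc t
    have := congrFun (congrArg Subtype.val hc) ⟨t.1, hT t.2⟩
    simp only [f, Submodule.coe_sum, Submodule.coe_smul, Finset.sum_apply, Pi.smul_apply, smul_eq_mul, hφ] at this
    rw [Finset.sum_eq_single t (fun s _ hs => by rw [hp2 s t (Ne.symm hs), mul_zero])
      (fun hh => absurd (Finset.mem_univ t) hh)] at this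
    exact (mul_eq_zero.1 this).resolve_right (hp1 t)
  have := hli.fintype_card_le_finrank
  rw [Fintype.card_coe, hTc] at this
  omega

end

end Groth.Agent.LefPenLib
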