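import Groth.Agent.LefPenLib.Ord

/-!
# Local coordinates at a point of a chart
-/

set_option backward.isDefEq.respectTransparency false
set_option backward.isDefEq.respectTransparency.types false
set_option linter.unusedSectionVars false
set_option linter.style.haveILetI false

universe u

open CategoryTheory AlgebraicGeometry

namespace Groth.Agent.LefPenLib

noncomputable section

variable {r : ℕ} {k : Type u} [Field k] [IsAlgClosed k] {X : Scheme.{u}} (ι : X ⟶ CohB1.ProjSpace r k)
  [IsClosedImmersion ι] [IrreducibleSpace X] {n : ℕ}
  [hsmo : SmoothOfRelativeDimension n (ι ≫ CohB1.ProjSpace.toSpec r k)]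

attribute [local instance] wAlgebra

include hsmo

/-- Near a rational point the chart is standard smooth. -/
theorem exists_localData (j : Fin (r + 1)) (ev : Γ(X, wOpen ι j) →ₐ[k] k) :
    ∃ F : Γ(X, wOpen ι j), ev F ≠ 0 ∧
      Algebra.IsStandardSmoothOfRelativeDimension n k (Localization.Away F) ∧
      ∃ evB : Localization.Away F →ₐ[k] k,
        evB.comp (IsScalarTower.toAlgHom k Γ(X, wOpen ι j) (Localization.Away F)) = ev := by
  haveI hne : Nontrivial Γ(X, wOpen ι j) := ev.toRingHom.domain_nontrivial
  obtain ⟨hsm, hft⟩ := wOpen_smooth (n := n) ι j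
  obtain ⟨-, hdim, -, -⟩ := wOpen_domain (n := n) ι j hne
  haveI := hft
  haveI : (RingHom.ker ev).IsPrime := RingHom.ker_isPrime ev
  obtain ⟨F, hF, hn, hsF⟩ := exists_chart_at n hdim hsm (RingHom.ker ev)
  obtain ⟨evB, hevB⟩ := exists_extend ev hF
  exact ⟨F, hF, inferInstance, evB, hevB⟩

omit hsmo in
/-- The differentials of the coordinates span at a rational point. -/
theorem exists_lin_jet {m : ℕ} (j : Fin (r + 1)) (F : Γ(X, wOpen ι j))
    (b : Module.Basis (Fin m) (Localization.Away F) Ω[Localization.Away F⁄k])
    (evB : Localization.Away F →ₐ[k] k) (y : Fin m → k) :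
    ∃ c : Fin (r + 1) → k, ∀ s, evB (b.repr (KaehlerDifferential.D k (Localization.Away F)
      (algebraMap Γ(X, wOpen ι j) _ (pullPoly ι j (∑ l, c l • MvPolynomial.X l)))) s) = y s := by
  classical
  let A := Γ(X, wOpen ι j)
  let B := Localization.Away F
  let L : A →ₗ[k] (Fin m → k) := LinearMap.pi fun t => evB.toLinearMap.comp (((b.coord t).restrictScalars k).comp
    ((KaehlerDifferential.D k B).toLinearMap.comp (IsScalarTower.toAlgHom k A B).toLinearMap))
  have hL : ∀ a t, L a t = evB (b.repr (KaehlerDifferential.D k B (algebraMap A B a)) t) := fun a t => rfl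
  let J : (Fin (r + 1) → k) →ₗ[k] (Fin m → k) :=
    L.comp ((pullPoly ι j).toLinearMap.comp (Fintype.linearCombination k fun l => MvPolynomial.X l))
  suffices h : LinearMap.range J = ⊤ by
    obtain ⟨c, hc⟩ := LinearMap.range_eq_top.1 h y
    refine ⟨c, fun s => ?_⟩
    rw [← hL, ← hc]
    rfl
  have h1 : ∀ a, L a ∈ LinearMap.range J := by
    intro a
    obtain ⟨p, rfl⟩ := pullPoly_surjective ι j a
    induction p using MvPolynomial.induction_on with
    | C c =>
      have : L (pullPoly ι j (MvPolynomial.C c)) = 0 := by
        funext t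
        rw [hL, ← MvPolynomial.algebraMap_eq, AlgHom.commutes]
        rw [show algebraMap A B (algebraMap k A c) = algebraMap k B c from (IsScalarTower.algebraMap_apply k A B c).symm]
        simp
      rw [this]; exact Submodule.zero_mem _
    | add p q hp hq =>
      rw [map_add, map_add]; exact Submodule.add_mem _ hp hq
    | mul_X p l hp =>
      have : L (pullPoly ι j (p * MvPolynomial.X l)) =
          evB (algebraMap A B (pullPoly ι j p)) • L (pullPoly ι j (MvPolynomial.X l)) +
            evB (algebraMap A B (pullPoly ι j (MvPolynomial.X l))) • L (pullPoly ι j p) := by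
        funext s
        simp only [hL, map_mul, Derivation.leibniz, map_add, map_smul, Finsupp.add_apply, Finsupp.smul_apply,
          smul_eq_mul, Pi.add_apply, Pi.smul_apply]
      rw [this]
      refine Submodule.add_mem _ (Submodule.smul_mem _ _ ⟨Pi.single l 1, ?_⟩) (Submodule.smul_mem _ _ hp)
      show L (pullPoly ι j (Fintype.linearCombination k (fun l => MvPolynomial.X l) (Pi.single l 1))) = _
      rw [Fintype.linearCombination_apply_single, one_smul]
  have h2 : ∀ w ∈ Submodule.span B (Set.range (KaehlerDifferential.map k k A B ∘ KaehlerDifferential.D k A)),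
      (fun s => evB (b.repr w s)) ∈ LinearMap.range J := by
    intro w hw
    induction hw using Submodule.span_induction with
    | mem w hw =>
      obtain ⟨a, rfl⟩ := hw
      rw [Function.comp_apply, KaehlerDifferential.map_D, ← funext (hL a)]
      exact h1 a
    | zero => simp only [map_zero, Finsupp.zero_apply]; exact Submodule.zero_mem _
    | add x y _ _ hx hy => simp only [map_add, Finsupp.add_apply]; exact Submodule.add_mem _ hx hy
    | smul c x _ hx =>
      simp only [map_smul, Finsupp.smul_apply, smul_eq_mul, map_mul]
      exact Submodule.smul_mem _ (evB c) hx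
  refine eq_top_iff.2 fun z _ => ?_
  rw [show z = fun s => evB (b.repr (∑ t, algebraMap k B (z t) • b t) s) from funext fun s => by
    rw [Module.Basis.repr_sum_self, AlgHom.commutes, Algebra.algebraMap_self_apply]]
  refine h2 _ ?_
  rw [KaehlerDifferential.span_range_map_derivation_of_isLocalization (R := k) (S := A) (T := B) (Submonoid.powers F)]
  trivial

end

end Groth.Agent.LefPenLib
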