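import Groth.Agent.LefPenLib.Dual
import Groth.Agent.LefPenLib.Elim

/-!
# Transversality is an open condition
-/

set_option backward.isDefEq.respectTransparency false
set_option backward.isDefEq.respectTransparency.types false
set_option linter.unusedSectionVars false
set_option linter.style.haveILetI false

universe u

open CategoryTheory AlgebraicGeometry

namespace Groth.Agent.LefPenLib

noncomputable section

variable {r : ℕ} {k : Type u} [Field k] {X : Scheme.{u}} (ι : X ⟶ CohB1.ProjSpace r k) {d : ℕ}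

attribute [local instance] wAlgebra

theorem evalAt_C_map {E : Type} (a : E → k) (v : Fin (r + 1) → k) (q : MvPolynomial (Fin (r + 1)) k) :
    evalAt a v (MvPolynomial.map MvPolynomial.C q) = MvPolynomial.eval v q := by
  rw [evalAt, MvPolynomial.map_map]
  refine congrArg (MvPolynomial.eval v) ?_
  exact (congrArg (fun f => MvPolynomial.map f q) (RingHom.ext fun c => by simp)).trans (MvPolynomial.map_id q)

/-- The homogenisation with respect to a coordinate, times that coordinate. -/
def homog {E : Type} (i : Fin (r + 1)) (p : MvPolynomial (Fin (r + 1)) (MvPolynomial E k)) :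
    MvPolynomial (Fin (r + 1)) (MvPolynomial E k) :=
  ∑ m ∈ Finset.range (p.totalDegree + 1),
    MvPolynomial.homogeneousComponent m p * MvPolynomial.X i ^ (p.totalDegree + 1 - m)

theorem isHomogeneous_homog {E : Type} (i : Fin (r + 1)) (p : MvPolynomial (Fin (r + 1)) (MvPolynomial E k)) :
    (homog i p).IsHomogeneous (p.totalDegree + 1) := by
  refine MvPolynomial.IsHomogeneous.sum _ _ _ fun m hm => ?_
  have h := (MvPolynomial.homogeneousComponent_isHomogeneous m p).mul
    ((MvPolynomial.isHomogeneous_X (MvPolynomial E k) i).pow (p.totalDegree + 1 - m))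
  rw [Finset.mem_range] at hm
  rwa [show m + 1 * (p.totalDegree + 1 - m) = p.totalDegree + 1 by omega] at h

theorem evalAt_homog {E : Type} (i : Fin (r + 1)) (p : MvPolynomial (Fin (r + 1)) (MvPolynomial E k))
    (a : E → k) {c : k} (w : Fin (r + 1) → k) (hw : w i = 1) :
    evalAt a (fun l => c * w l) (homog i p) = c ^ (p.totalDegree + 1) * evalAt a w p := by
  have h0 : evalAt a w p = ∑ m ∈ Finset.range (p.totalDegree + 1),
      MvPolynomial.eval w (MvPolynomial.map (MvPolynomial.eval a) (MvPolynomial.homogeneousComponent m p)) := by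
    conv_lhs => rw [evalAt, ← MvPolynomial.sum_homogeneousComponent (φ := p)]
    rw [map_sum, map_sum]
  rw [h0, evalAt, homog]
  simp only [map_sum, map_mul, map_pow, MvPolynomial.map_X, MvPolynomial.eval_X, hw, mul_one, Finset.mul_sum]
  refine Finset.sum_congr rfl fun m hm => ?_
  rw [eval_smul_of_isHomogeneous ((MvPolynomial.homogeneousComponent_isHomogeneous m p).map (MvPolynomial.eval a)) c w,
    mul_right_comm, ← pow_add, Nat.add_sub_cancel' (by rw [Finset.mem_range] at hm; omega)]

theorem evalAt_homog_zero {E : Type} (i : Fin (r + 1)) (p : MvPolynomial (Fin (r + 1)) (MvPolynomial E k))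
    (a : E → k) {v : Fin (r + 1) → k} (hv : v i = 0) : evalAt a v (homog i p) = 0 := by
  simp only [evalAt, homog, map_sum, map_mul, map_pow, MvPolynomial.map_X, MvPolynomial.eval_X, hv]
  refine Finset.sum_eq_zero fun m hm => ?_
  rw [zero_pow (by rw [Finset.mem_range] at hm; omega), mul_zero]

variable {n : ℕ} [hsmo : SmoothOfRelativeDimension n (ι ≫ CohB1.ProjSpace.toSpec r k)]

theorem pullForm_eq_sum (i : Fin (r + 1)) (H : LefPen.Form r k d) :
    pullForm ι i H = ∑ e : Expo r d, coeffL e H • pullPoly ι i (MvPolynomial.monomial e.1 1) := by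
  rw [pullForm_eq, eq_sum_coeff H, map_sum]
  refine Finset.sum_congr rfl fun e _ => ?_
  rw [show coeffL e H • pullPoly ι i (MvPolynomial.monomial e.1 (1 : k)) =
    pullPoly ι i (coeffL e H • MvPolynomial.monomial e.1 (1 : k)) from (map_smul (pullPoly ι i) _ _).symm,
    MvPolynomial.smul_monomial, smul_eq_mul, mul_one]

include hsmo in
/-- A point where `H₀` does not touch `X` is separated from all tangencies by a polynomial. -/
theorem exists_separating [IsAlgClosed k] [IsClosedImmersion ι] [IrreducibleSpace X] (i : Fin (r + 1))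
    (H0 : LefPen.Form r k d) (w : Fin (r + 1) → k) (hno : ∀ ev, vec ι i ev = w → ¬ Bad ι i ev H0) :
    ∃ p : MvPolynomial (Fin (r + 1)) (MvPolynomial (Expo r d) k),
      evalAt (fun e => coeffL e H0) w p ≠ 0 ∧
      ∀ ev (H : LefPen.Form r k d), Bad ι i ev H → evalAt (fun e => coeffL e H) (vec ι i ev) p = 0 := by
  by_cases hw : ∃ q : MvPolynomial (Fin (r + 1)) k, pullPoly ι i q = 0 ∧ MvPolynomial.eval w q ≠ 0
  · obtain ⟨q, hq, hqw⟩ := hw
    refine ⟨MvPolynomial.map MvPolynomial.C q, by rwa [evalAt_C_map], fun ev H _ => ?_⟩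
    rw [evalAt_C_map, ← eval_pullPoly, hq, map_zero]
  push Not at hw
  obtain ⟨ev0, hev0⟩ : ∃ ev0 : Γ(X, wOpen ι i) →ₐ[k] k, ∀ q, ev0 (pullPoly ι i q) = MvPolynomial.eval w q := by
    refine ⟨AlgHom.comp (Ideal.Quotient.liftₐ (RingHom.ker (pullPoly ι i))
        (MvPolynomial.aeval w : MvPolynomial (Fin (r + 1)) k →ₐ[k] k) fun q hq => ?_)
      (Ideal.quotientKerAlgEquivOfSurjective (f := pullPoly ι i) (pullPoly_surjective ι i)).symm.toAlgHom, fun q => ?_⟩
    · rw [MvPolynomial.aeval_eq_eval]; exact hw q hq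
    · have h1 : (Ideal.quotientKerAlgEquivOfSurjective (f := pullPoly ι i) (pullPoly_surjective ι i)).symm
          (pullPoly ι i q) = Ideal.Quotient.mk _ q := by
        rw [AlgEquiv.symm_apply_eq, Ideal.quotientKerAlgEquivOfSurjective_mk]
      rw [AlgHom.comp_apply]
      refine (congrArg _ h1).trans ?_
      refine Eq.trans (Ideal.Quotient.lift_mk _ _ _) ?_
      exact congrFun (MvPolynomial.aeval_eq_eval w) q
  by_cases h0 : ev0 (pullForm ι i H0) = 0
  swap
  · refine ⟨∑ e : Expo r d, MvPolynomial.monomial e.1 (MvPolynomial.X e), ?_, fun ev H hb => ?_⟩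
    · rw [pullForm_eq, hev0, eq_sum_coeff H0, map_sum] at h0
      simpa [evalAt, map_sum, MvPolynomial.map_monomial] using h0
    · have h1 := hb.eval_eq_zero
      rw [pullForm_eq, eval_pullPoly, eq_sum_coeff H, map_sum] at h1
      simpa [evalAt, map_sum, MvPolynomial.map_monomial] using h1
  let A := Γ(X, wOpen ι i)
  haveI hne : Nontrivial A := ev0.toRingHom.domain_nontrivial
  obtain ⟨hsm, hft⟩ := wOpen_smooth (n := n) ι i
  obtain ⟨-, hdim, -, -⟩ := wOpen_domain (n := n) ι i hne
  haveI := hft
  haveI : (RingHom.ker ev0).IsPrime := RingHom.ker_isPrime ev0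
  obtain ⟨F, hF, hn, hsF⟩ := exists_chart_at n hdim hsm (RingHom.ker ev0)
  obtain ⟨evB, hevB⟩ := exists_extend ev0 hF
  let B := Localization.Away F
  haveI : Algebra.IsStandardSmooth k B := Algebra.IsStandardSmoothOfRelativeDimension.isStandardSmooth n
  let b : Module.Basis (Fin n) B Ω[B⁄k] := Module.finBasisOfFinrankEq B _ (BertiniAff.finrank_kaehler n)
  have hlin : ∀ (H : LefPen.Form r k d) (l : Fin n),
      b.repr (KaehlerDifferential.D k B (algebraMap A B (pullForm ι i H))) l =
        ∑ e : Expo r d, coeffL e H •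
          b.repr (KaehlerDifferential.D k B (algebraMap A B (pullPoly ι i (MvPolynomial.monomial e.1 1)))) l := by
    intro H l
    let L : A →ₗ[k] B := ((b.coord l).restrictScalars k).comp
      ((KaehlerDifferential.D k B).toLinearMap.comp (IsScalarTower.toAlgHom k A B).toLinearMap)
    show L (pullForm ι i H) = ∑ e : Expo r d, coeffL e H • L (pullPoly ι i (MvPolynomial.monomial e.1 1))
    rw [pullForm_eq_sum, map_sum]
    exact Finset.sum_congr rfl fun e _ => map_smul L _ _
  obtain ⟨l, hl⟩ : ∃ l, evB (b.repr (KaehlerDifferential.D k B (algebraMap A B (pullForm ι i H0))) l) ≠ 0 := by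
    by_contra! hc
    refine hno ev0 (funext fun l => by rw [vec, hev0, MvPolynomial.eval_X]) ?_
    rw [Bad, ← hevB]
    refine (dblZero_localization F evB _).1 ((dblZero_iff b evB _).2 ⟨?_, hc⟩)
    rw [← h0, ← hevB]
    rfl
  let c : Expo r d → B := fun e =>
    b.repr (KaehlerDifferential.D k B (algebraMap A B (pullPoly ι i (MvPolynomial.monomial e.1 1)))) l
  obtain ⟨⟨s, hs⟩, hz⟩ := IsLocalization.exist_integer_multiples_of_finite (Submonoid.powers F) c
  choose z hz using hz
  obtain ⟨Fp, hFp⟩ := pullPoly_surjective ι i F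
  choose q hq using fun e => pullPoly_surjective ι i (z e)
  have hsB : ∀ evB' : B →ₐ[k] k, evB' (algebraMap A B s) ≠ 0 := fun evB' =>
    ((IsLocalization.map_units B (⟨s, hs⟩ : Submonoid.powers F)).map evB').ne_zero
  have hkey : ∀ (ev : A →ₐ[k] k) (evB' : B →ₐ[k] k), evB'.comp (IsScalarTower.toAlgHom k A B) = ev →
      ∀ H : LefPen.Form r k d, ∑ e : Expo r d, coeffL e H * MvPolynomial.eval (vec ι i ev) (q e) =
        evB' (algebraMap A B s) *
          evB' (b.repr (KaehlerDifferential.D k B (algebraMap A B (pullForm ι i H))) l) := by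
    intro ev evB' hev H
    rw [hlin, map_sum, Finset.mul_sum]
    refine Finset.sum_congr rfl fun e _ => ?_
    rw [← eval_pullPoly, hq, map_smul, smul_eq_mul, mul_left_comm, ← map_mul, ← Algebra.smul_def, ← hz e, ← hev]
    rfl
  refine ⟨MvPolynomial.map MvPolynomial.C Fp *
    ∑ e : Expo r d, MvPolynomial.C (MvPolynomial.X e) * MvPolynomial.map MvPolynomial.C (q e), ?_, fun ev H hb => ?_⟩
  all_goals simp only [evalAt, map_mul, map_sum, MvPolynomial.map_C, MvPolynomial.eval_C, MvPolynomial.eval_X]
  all_goals simp only [show ∀ (a : Expo r d → k) (v : Fin (r + 1) → k) (p : MvPolynomial (Fin (r + 1)) k),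
    MvPolynomial.eval v (MvPolynomial.map (MvPolynomial.eval a) (MvPolynomial.map MvPolynomial.C p)) =
      MvPolynomial.eval v p from fun a v p => evalAt_C_map a v p]
  · rw [← hev0, hFp, show w = vec ι i ev0 from funext fun l => by rw [vec, hev0, MvPolynomial.eval_X],
      hkey ev0 evB hevB]
    exact mul_ne_zero hF (mul_ne_zero (hsB evB) hl)
  · rw [← eval_pullPoly, hFp]
    by_cases hFev : ev F = 0
    · rw [hFev, zero_mul]
    · obtain ⟨evB', hevB'⟩ := exists_extend ev hFev
      rw [hkey ev evB' hevB']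
      rw [Bad, ← hevB'] at hb
      rw [((dblZero_iff b evB' _).1 ((dblZero_localization F evB' _).2 hb)).2 l, mul_zero, mul_zero]

include hsmo in
/-- The forms cutting `X` transversally form an open set. -/
theorem isZOpen_transversal [IsAlgClosed k] [IsClosedImmersion ι] [IrreducibleSpace X] (hn : 1 ≤ n) :
    LefPen.IsZOpen k {H : LefPen.Form r k d |
      LefPen.Transversal k n 1 (LefPen.secToSpec ι ({H} : Set (LefPen.Form r k d)))} := by
  intro H0 hH0
  rw [Set.mem_setOf_eq, transversal_iff ι hn] at hH0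
  let S : Set (MvPolynomial (Fin (r + 1)) (MvPolynomial (Expo r d) k)) :=
    {P | (∃ m : ℕ, P.IsHomogeneous m) ∧ ∀ j ev (H : LefPen.Form r k d), Bad ι j ev H →
      evalAt (fun e => coeffL e H) (vec ι j ev) P = 0}
  obtain ⟨D, hD0, hD⟩ := exists_elim S (fun P hP => hP.1) (fun e => coeffL e H0) fun v hv => by
    obtain ⟨i, hi⟩ : ∃ i, v i ≠ 0 := by
      by_contra! hc
      exact hv (funext hc)
    let w : Fin (r + 1) → k := fun l => (v i)⁻¹ * v l
    obtain ⟨p, hp0, hp⟩ := exists_separating (n := n) ι i H0 w fun ev _ => hH0 i ev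
    refine ⟨homog i p, ⟨⟨_, isHomogeneous_homog i p⟩, fun j ev H hb => ?_⟩, ?_⟩
    · by_cases hji : vec ι j ev i = 0
      · exact evalAt_homog_zero i p _ hji
      · obtain ⟨evi, hrel⟩ := exists_change_point ι i j ev hji
        rw [show vec ι j ev = fun l => vec ι j ev i * vec ι i evi l from funext hrel,
          evalAt_homog i p _ _ (vec_self ι i evi), hp evi H ((bad_change_iff ι hji hrel H).2 hb), mul_zero]
    · rw [show v = fun l => v i * w l from funext fun l => by simp only [w]; field_simp,
        evalAt_homog i p _ _ (inv_mul_cancel₀ hi)]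
      exact mul_ne_zero (pow_ne_zero _ hi) hp0
  refine ⟨fun H => MvPolynomial.eval (fun e => coeffL e H) D, isPolyFun_eval_coeff D, hD0, fun H hH => ?_⟩
  rw [Set.mem_setOf_eq, transversal_iff ι hn]
  intro j ev hb
  have := hD _ (vec ι j ev) hH fun P hP => hP.2 j ev H hb
  exact one_ne_zero ((vec_self ι j ev).symm.trans (congrFun this j))

end

end Groth.Agent.LefPenLib
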