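import Groth.Agent.LefPenLib.Smooth
import Mathlib.RingTheory.Smooth.Locus

/-!
# Smoothness of `h = 0` at a point
-/

set_option backward.isDefEq.respectTransparency false
set_option backward.isDefEq.respectTransparency.types false
set_option linter.unusedSectionVars false
set_option linter.style.haveILetI false

universe u

open CategoryTheory AlgebraicGeometry

namespace Groth.Agent.LefPenLib

noncomputable section

variable {k : Type u} [Field k] [IsAlgClosed k]
  {A C : Type u} [CommRing A] [IsDomain A] [Algebra k A] [Algebra.FiniteType k A] [CommRing C] [Algebra k C]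

/-- A nonzero function cuts a scheme smooth at a point iff it has no double zero there. -/
theorem isSmoothAt_iff_not_dblZero (n : ℕ) (hA : ringKrullDim A = n) (hsm : Algebra.Smooth k A)
    (π : A →ₐ[k] C) (hπ : Function.Surjective π) (h : A) (h0 : h ≠ 0) (hker : RingHom.ker π = Ideal.span {h})
    (ev : A →ₐ[k] k) (evC : C →ₐ[k] k) (hev : evC.comp π = ev) [(RingHom.ker evC).IsPrime] :
    Algebra.IsSmoothAt k (RingHom.ker evC) ↔ ¬ DblZero ev h := by
  haveI : IsNoetherianRing A := Algebra.FiniteType.isNoetherianRing k A
  haveI : Algebra.FiniteType k C := Algebra.FiniteType.of_surjective π hπ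
  haveI : Algebra.FinitePresentation k C := Algebra.FinitePresentation.of_finiteType.1 inferInstance
  let E : (A ⧸ Ideal.span {h}) ≃ₐ[k] C :=
    (Ideal.quotientEquivAlgOfEq k hker.symm).trans (Ideal.quotientKerAlgEquivOfSurjective (f := π) hπ)
  have hE : ∀ a, E (Ideal.Quotient.mk _ a) = π a := fun a => by
    show Ideal.quotientKerAlgEquivOfSurjective (f := π) hπ (Ideal.quotientEquivAlgOfEq k hker.symm (Ideal.Quotient.mk _ a)) = _
    rw [Ideal.quotientEquivAlgOfEq_mk, Ideal.quotientKerAlgEquivOfSurjective_mk]
  let evQ : (A ⧸ Ideal.span {h}) →ₐ[k] k := evC.comp E.toAlgHom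
  have hevQ : evQ.comp (Ideal.Quotient.mkₐ k _) = ev := AlgHom.ext fun a => by
    show evC (E (Ideal.Quotient.mk _ a)) = ev a
    rw [hE]; exact DFunLike.congr_fun hev a
  have hloc : ∀ f : A ⧸ Ideal.span {h},
      Algebra.Smooth k (Localization.Away f) ↔ Algebra.Smooth k (Localization.Away (E f)) := fun f => by
    letI : Algebra (A ⧸ Ideal.span {h}) (Localization.Away (E f)) :=
      ((algebraMap C (Localization.Away (E f))).comp E.toRingEquiv.toRingHom).toAlgebra
    haveI : IsScalarTower k (A ⧸ Ideal.span {h}) (Localization.Away (E f)) := IsScalarTower.of_algebraMap_eq fun c => by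
      show _ = algebraMap C (Localization.Away (E f)) (E (algebraMap k _ c))
      rw [E.commutes, ← IsScalarTower.algebraMap_apply]
    haveI : IsLocalization.Away f (Localization.Away (E f)) :=
      IsLocalization.isLocalization_of_base_ringEquiv (Submonoid.powers (E f)) (Localization.Away (E f)) E.toRingEquiv.symm |>
        fun hl => by
          rw [Submonoid.map_powers] at hl
          have hff : E.toRingEquiv.symm (E f) = f := E.symm_apply_apply f
          rw [hff] at hl
          exact hl
    exact ⟨fun _ => Algebra.Smooth.of_equiv ((IsLocalization.algEquiv (Submonoid.powers f) (Localization.Away f)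
        (Localization.Away (E f))).restrictScalars k),
      fun _ => Algebra.Smooth.of_equiv ((IsLocalization.algEquiv (Submonoid.powers f) (Localization.Away f)
        (Localization.Away (E f))).restrictScalars k).symm⟩
  constructor
  · intro hsC hz
    haveI := hsC
    obtain ⟨f, hf, hfs⟩ := Algebra.IsSmoothAt.exists_notMem_smooth (R := k) (RingHom.ker evC)
    have hs' : Algebra.Smooth k (Localization.Away (E.symm f)) := (hloc _).2 (by rwa [AlgEquiv.apply_symm_apply])
    exact not_smooth_of_dblZero n hA hsm h h0 ev hz evQ hevQ (E.symm f) (by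
      show evC (E (E.symm f)) ≠ 0
      rwa [AlgEquiv.apply_symm_apply]) hs'
  · intro hz
    have hdim : ∀ P ∈ minimalPrimes A, ringKrullDim (A ⧸ P) = n := fun P hP => by
      rw [IsDomain.minimalPrimes_eq_singleton_bot, Set.mem_singleton_iff] at hP
      subst hP
      rw [ringKrullDim_eq_of_ringEquiv (RingEquiv.quotientBot _), hA]
    obtain ⟨f, hf, hfs⟩ := smoothRelDim_of_not_dblZero_at n hdim hsm h (RingHom.ker evQ)
      (RingHom.ker_isPrime evQ) (fun ev' hev' => by
        suffices ev' = ev by rw [this]; exact hz
        refine AlgHom.ext fun a => ?_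
        have h1 := hev' (a - algebraMap k A (ev a)) (by
          rw [Ideal.mem_comap, RingHom.mem_ker]
          show evQ.comp (Ideal.Quotient.mkₐ k _) (a - algebraMap k A (ev a)) = 0
          rw [hevQ, map_sub, AlgHom.commutes]; exact sub_self _)
        rw [map_sub, AlgHom.commutes] at h1
        exact sub_eq_zero.1 h1)
    have hfs' : Algebra.Smooth k (Localization.Away f) := by
      have := SmoothOfRelativeDimension.smooth (n - 1) (Spec.map (CommRingCat.ofHom (algebraMap k (Localization.Away f))))
      rwa [HasRingHomProperty.Spec_iff (P := @Smooth), CommRingCat.hom_ofHom, RingHom.smooth_algebraMap] at this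
    have hsub := Algebra.basicOpen_subset_smoothLocus_iff_smooth.2 ((hloc f).1 hfs')
    exact hsub (show (⟨RingHom.ker evC, inferInstance⟩ : PrimeSpectrum C) ∈ PrimeSpectrum.basicOpen (E f) from hf)

end

end Groth.Agent.LefPenLib
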