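import Groth.Agent.LefPenLib.Smooth
import Groth.Agent.LefPenLib.PSPoint
import Groth.Agent.S2453
import Groth.Agent.FormalFib6.Quot
import Groth.Agent.CILib.Basic
import Groth.Agent.SmoothVarLib.Basic
import Groth.Agent.PSLib.Regular
import Mathlib.RingTheory.TensorProduct.Quotient

/-!
# Ordinary quadratic singularities in the local ring
-/

set_option backward.isDefEq.respectTransparency false
set_option backward.isDefEq.respectTransparency.types false
set_option linter.unusedSectionVars false
set_option linter.style.haveILetI false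

universe u

open IsLocalRing
open scoped TensorProduct

namespace Groth.Agent.LefPenLib

noncomputable section

variable {k : Type u} [Field k]

theorem ker_eq_maximalIdeal' {S : Type u} [CommRing S] [IsLocalRing S] [Algebra k S] (ev : S →ₐ[k] k) :
    RingHom.ker ev = maximalIdeal S :=
  IsLocalRing.ker_eq_maximalIdeal ev.toRingHom fun c => ⟨algebraMap k S c, ev.commutes c⟩

theorem point_unique {S : Type u} [CommRing S] [IsLocalRing S] [Algebra k S] (ev ev' : S →ₐ[k] k) : ev = ev' :=
  AlgHom.ext fun x => by
    have h : x - algebraMap k S (ev x) ∈ RingHom.ker ev' := by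
      rw [ker_eq_maximalIdeal', ← ker_eq_maximalIdeal' ev, RingHom.mem_ker, map_sub, AlgHom.commutes,
        Algebra.algebraMap_self_apply, sub_self]
    rw [RingHom.mem_ker, map_sub, AlgHom.commutes, Algebra.algebraMap_self_apply] at h
    exact (sub_eq_zero.1 h).symm

theorem psOrigin_unique {n : ℕ} (ev : MvPowerSeries (Fin n) k →ₐ[k] k) : ev = psOrigin k n := point_unique _ _

/-- Isomorphic completions have the same second order points. -/
theorem degPt_iff_of_completion {R : Type u} [CommRing R] [IsLocalRing R] [IsNoetherianRing R] [Algebra k R]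
    (evR : R →ₐ[k] k) {n : ℕ} (Q : MvPowerSeries (Fin n) k)
    (e : AdicCompletion (maximalIdeal R) R ≃+* (MvPowerSeries (Fin n) k ⧸ Ideal.span {Q}))
    (he : ∀ c : k, e (algebraMap R _ (algebraMap k R c)) = Ideal.Quotient.mk _ (MvPowerSeries.C c))
    (hQ : MvPowerSeries.constantCoeff Q = 0) :
    DegPt evR 0 ↔ DegPt (psOrigin k n) Q := by
  let Rh := AdicCompletion (maximalIdeal R) R
  obtain ⟨evQ, hevQ⟩ := exists_quotientLift Q (psOrigin k n) hQ
  let E : Rh ≃ₐ[k] (MvPowerSeries (Fin n) k ⧸ Ideal.span {Q}) := AlgEquiv.ofRingEquiv (f := e) fun c => by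
    rw [IsScalarTower.algebraMap_apply k R Rh, he]
    rfl
  let evh : Rh →ₐ[k] k := evQ.comp E.toAlgHom
  have hm : ∀ a ∈ maximalIdeal R, evh (algebraMap R Rh a) = 0 := fun a ha => by
    rw [← ker_eq_maximalIdeal' (evh.comp (IsScalarTower.toAlgHom k R Rh))] at ha
    exact ha
  have h1 := (isTestEquiv_completion (maximalIdeal R) evh hm).degPt (h := (0 : R))
  rw [map_zero, point_unique (evh.comp (IsScalarTower.toAlgHom k R Rh)) evR] at h1
  have h2 := (isTestEquiv_algEquiv E evQ).degPt (h := (0 : Rh))
  rw [map_zero] at h2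
  rw [h1, h2, degPt_quotient (psOrigin k n) Q evQ hevQ]

theorem isGeometricallyReduced_of_isAlgClosed [IsAlgClosed k] (K : Type u) [Field K] [Algebra k K] :
    Algebra.IsGeometricallyReduced k K := by
  refine ⟨fun p hp => ?_⟩
  haveI : p.IsMaximal := (Ideal.eq_bot_or_top p).resolve_right hp.ne_top ▸ Ideal.bot_isMaximal
  haveI : Algebra.IsIntegral k p.ResidueField :=
    Algebra.isIntegral_of_surjective p.algebraMap_residueField_surjective
  haveI : Algebra.IsIntegral k (AlgebraicClosure p.ResidueField) := Algebra.IsIntegral.trans p.ResidueField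
  have hb : Function.Bijective (Algebra.ofId k (AlgebraicClosure p.ResidueField)) :=
    IsAlgClosed.algebraMap_bijective_of_isIntegral
  let f : AlgebraicClosure p.ResidueField ⊗[k] K ≃ₐ[k] K :=
    (Algebra.TensorProduct.congr (AlgEquiv.ofBijective _ hb).symm AlgEquiv.refl).trans (Algebra.TensorProduct.lid k K)
  exact isReduced_of_injective f.toRingHom f.injective

variable {A C : Type u} [CommRing A] [IsDomain A] [Algebra k A] [Algebra.FiniteType k A] [CommRing C] [Algebra k C]

/-- At a double zero of `h` the completed local ring of `h = 0` is a power series ring modulo a series of order two,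
and the singularity is ordinary iff the cone is nondegenerate. -/
theorem exists_completion_series [IsAlgClosed k] (n : ℕ) (hA : ringKrullDim A = n) (hsm : Algebra.Smooth k A)
    (π : A →ₐ[k] C) (hπ : Function.Surjective π) (h : A) (hker : RingHom.ker π = Ideal.span {h})
    (ev : A →ₐ[k] k) (evC : C →ₐ[k] k) (hev : evC.comp π = ev) (hz : DblZero ev h)
    (R : Type u) [CommRing R] [IsLocalRing R] [Algebra k R] [Algebra C R] [IsScalarTower k C R]
    [(RingHom.ker evC).IsPrime] [IsLocalization.AtPrime R (RingHom.ker evC)] :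
    IsNoetherianRing R ∧ (∃ evR : R →ₐ[k] k, evR.comp (IsScalarTower.toAlgHom k C R) = evC ∧
      (DegPt evR 0 ↔ DegPt ev h)) ∧
    ∃ (Q : MvPowerSeries (Fin n) k) (e : AdicCompletion (maximalIdeal R) R ≃+* (MvPowerSeries (Fin n) k ⧸ Ideal.span {Q})),
      (∀ c : k, e (algebraMap R _ (algebraMap k R c)) = Ideal.Quotient.mk _ (MvPowerSeries.C c)) ∧
      ∀ d : Fin n →₀ ℕ, d.degree < 2 → MvPowerSeries.coeff d Q = 0 := by
  haveI hNA : IsNoetherianRing A := Algebra.FiniteType.isNoetherianRing k A
  haveI : IsNoetherianRing C := isNoetherianRing_of_surjective A C π.toRingHom hπ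
  haveI hNR : IsNoetherianRing R := IsLocalization.isNoetherianRing (RingHom.ker evC).primeCompl R inferInstance
  -- the point of `R`
  have hunitC : ∀ y : (RingHom.ker evC).primeCompl, IsUnit (evC y) := fun y => isUnit_iff_ne_zero.2 y.2
  let evR : R →ₐ[k] k := IsLocalization.liftAlgHom (M := (RingHom.ker evC).primeCompl) hunitC
  have hevR : evR.comp (IsScalarTower.toAlgHom k C R) = evC := AlgHom.ext fun c => by
    show IsLocalization.liftAlgHom (M := (RingHom.ker evC).primeCompl) hunitC (algebraMap C R c) = evC c
    rw [IsLocalization.liftAlgHom_apply]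
    exact IsLocalization.lift_eq _ c
  have hdeg : DegPt evR 0 ↔ DegPt ev h := by
    have h1 := (isTestEquiv_localization (A' := R) (RingHom.ker evC).primeCompl evR).degPt (h := (0 : C))
    rw [map_zero, hevR] at h1
    rw [← h1]
    let E : (A ⧸ Ideal.span {h}) ≃ₐ[k] C :=
      (Ideal.quotientEquivAlgOfEq k hker.symm).trans (Ideal.quotientKerAlgEquivOfSurjective (f := π) hπ)
    have hE : ∀ a, E (Ideal.Quotient.mk _ a) = π a := fun a => by
      show Ideal.quotientKerAlgEquivOfSurjective (f := π) hπ (Ideal.quotientEquivAlgOfEq k hker.symm (Ideal.Quotient.mk _ a)) = _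
      rw [Ideal.quotientEquivAlgOfEq_mk, Ideal.quotientKerAlgEquivOfSurjective_mk]
    have h2 := (isTestEquiv_algEquiv E evC).degPt (h := (0 : A ⧸ Ideal.span {h}))
    rw [map_zero] at h2
    rw [← h2]
    exact degPt_quotient ev h _ (by
      refine AlgHom.ext fun a => ?_
      show evC (E (Ideal.Quotient.mk _ a)) = ev a
      rw [hE]; exact DFunLike.congr_fun hev a)
  -- the local ring of the ambient variety
  haveI : (RingHom.ker ev).IsMaximal := RingHom.ker_isMaximal_of_surjective ev fun c => ⟨algebraMap k A c, ev.commutes c⟩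
  let M := RingHom.ker ev
  let O := Localization.AtPrime M
  haveI hNO : IsNoetherianRing O := IsLocalization.isNoetherianRing M.primeCompl O inferInstance
  haveI := hsm
  haveI : Algebra.IsSmoothAt k M :=
    Algebra.FormallySmooth.comp k A (Localization.AtPrime M)
  have hregO : IsRegularLocalRing O := CotTLib.isRegularLocalRing_of_isSmoothAt (k := k) M
  have hdimO : ringKrullDim O = n := SmoothVarLib.ringKrullDim_localization_maximal k A
    (by rw [nilradical_eq_zero]; exact Ideal.isPrime_bot) n hA M
  have hunitA : ∀ y : M.primeCompl, IsUnit (ev y) := fun y => isUnit_iff_ne_zero.2 y.2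
  let evO : O →ₐ[k] k := IsLocalization.liftAlgHom (M := M.primeCompl) hunitA
  have hres : Function.Bijective (algebraMap k (ResidueField O)) := by
    refine ⟨(algebraMap k (ResidueField O)).injective, fun y => ?_⟩
    obtain ⟨x, rfl⟩ := residue_surjective y
    refine ⟨evO x, ?_⟩
    rw [IsScalarTower.algebraMap_apply k O (ResidueField O), ← sub_eq_zero]
    show residue O _ - residue O x = 0
    rw [← map_sub, residue_eq_zero_iff, ← ker_eq_maximalIdeal' evO, RingHom.mem_ker, map_sub, AlgHom.commutes]
    exact sub_self _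
  haveI := isGeometricallyReduced_of_isAlgClosed (k := k) (ResidueField O)
  obtain ⟨n', e0, he0⟩ := ((S2453.result (k := k) (A := O)).out 3 1).1 hregO
  let ek : k ≃+* ResidueField O := RingEquiv.ofBijective _ hres
  have hn' : n' = n := by
    have h1 := CILib.ringKrullDim_adicCompletion O
    rw [ringKrullDim_eq_of_ringEquiv e0, PSLib.ringKrullDim_eq, hdimO] at h1
    exact_mod_cast h1
  subst hn'
  let e1 : AdicCompletion (maximalIdeal O) O ≃+* MvPowerSeries (Fin n') k :=
    e0.trans (RingEquiv.ofBijective (MvPowerSeries.map ek.symm.toRingHom)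
      ⟨fun f g hfg => by
        ext d
        have := congrArg (MvPowerSeries.coeff d) hfg
        simpa using this,
      fun g => ⟨MvPowerSeries.map ek.toRingHom g, by ext d; simp⟩⟩)
  have he1 : ∀ c : k, e1 (algebraMap O _ (algebraMap k O c)) = MvPowerSeries.C c := fun c => by
    show MvPowerSeries.map ek.symm.toRingHom (e0 _) = _
    rw [he0 c, MvPowerSeries.algebraMap_apply, MvPowerSeries.map_C]
    exact congrArg MvPowerSeries.C (ek.symm_apply_apply c)
  -- `R` as a quotient of `O`
  have hmap : M.primeCompl.map π.toRingHom = (RingHom.ker evC).primeCompl := by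
    ext c
    constructor
    · rintro ⟨a, ha, rfl⟩
      show evC (π a) ≠ 0
      rw [← AlgHom.comp_apply, hev]; exact ha
    · intro hc
      obtain ⟨a, rfl⟩ := hπ c
      exact ⟨a, by
        show ev a ≠ 0
        rw [← hev]; exact hc, rfl⟩
  letI : Algebra A R := ((algebraMap C R).comp π.toRingHom).toAlgebra
  haveI : IsScalarTower k A R := IsScalarTower.of_algebraMap_eq fun c => by
    show _ = algebraMap C R (π (algebraMap k A c))
    rw [π.commutes, ← IsScalarTower.algebraMap_apply]
  have hunitR : ∀ y : M.primeCompl, IsUnit (IsScalarTower.toAlgHom k A R y) := fun y =>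
    IsLocalization.map_units R (⟨π y, hmap ▸ Submonoid.mem_map_of_mem π.toRingHom y.2⟩ : (RingHom.ker evC).primeCompl)
  let g : O →ₐ[k] R := IsLocalization.liftAlgHom (M := M.primeCompl) hunitR
  letI : Algebra O R := g.toRingHom.toAlgebra
  haveI : IsScalarTower k O R := IsScalarTower.of_algebraMap_eq fun c => (g.commutes c).symm
  have hga : ∀ a, g (algebraMap A O a) = algebraMap C R (π a) := fun a => by
    show IsLocalization.liftAlgHom (M := M.primeCompl) hunitR (algebraMap A O a) = _
    rw [IsLocalization.liftAlgHom_apply]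
    exact IsLocalization.lift_eq _ a
  have hgsurj : Function.Surjective g := by
    intro x
    obtain ⟨⟨c, ⟨s, hs⟩⟩, hx⟩ := IsLocalization.surj (RingHom.ker evC).primeCompl x
    rw [← hmap] at hs
    obtain ⟨b, hb, rfl⟩ := hs
    obtain ⟨a, rfl⟩ := hπ c
    refine ⟨IsLocalization.mk' O a (⟨b, hb⟩ : M.primeCompl), (hunitR ⟨b, hb⟩).mul_left_injective ?_⟩
    show g _ * algebraMap C R (π b) = x * algebraMap C R (π b)
    rw [← hga b, ← map_mul, IsLocalization.mk'_spec, hga]
    rw [hga]
    exact hx.symm
  let hO : O := algebraMap A O h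
  have hgker : RingHom.ker g = Ideal.span {hO} := by
    refine le_antisymm (fun x hx => ?_) ?_
    · obtain ⟨⟨a, ⟨b, hb⟩⟩, hab⟩ := IsLocalization.surj M.primeCompl x
      have h1 : algebraMap C R (π a) = 0 := by
        rw [← hga]
        have := congrArg g hab
        rw [map_mul, show g x = 0 from hx, zero_mul] at this
        exact this.symm
      obtain ⟨⟨s, hs⟩, hs0⟩ := (IsLocalization.map_eq_zero_iff (RingHom.ker evC).primeCompl R _).1 h1
      rw [← hmap] at hs
      obtain ⟨s', hs', rfl⟩ := hs
      have h2 : s' * a ∈ Ideal.span {h} := by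
        rw [← hker, RingHom.mem_ker, map_mul]; exact hs0
      have h3 : algebraMap A O (s' * a) ∈ Ideal.span {hO} := by
        have := Ideal.mem_map_of_mem (algebraMap A O) h2
        rwa [Ideal.map_span, Set.image_singleton] at this
      rw [map_mul, ← hab] at h3
      have hu : IsUnit (algebraMap A O s' * algebraMap A O b) :=
        (IsLocalization.map_units O (⟨s', hs'⟩ : M.primeCompl)).mul (IsLocalization.map_units O (⟨b, hb⟩ : M.primeCompl))
      rw [show algebraMap A O s' * (x * algebraMap A O b) = (algebraMap A O s' * algebraMap A O b) * x by ring] at h3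
      exact (Ideal.unit_mul_mem_iff_mem _ hu).1 h3
    · rw [Ideal.span_singleton_le_iff_mem, RingHom.mem_ker, hga,
        show π h = 0 from (RingHom.mem_ker (f := π)).1 (hker ▸ Ideal.mem_span_singleton_self h), map_zero]
  -- completion
  obtain ⟨eT⟩ := FormalFib6.exists_cplQuotEquiv O R hgsurj
  let eR : (O ⧸ Ideal.span {hO}) ≃ₐ[O] R :=
    (Ideal.quotientEquivAlgOfEq O (show Ideal.span {hO} = RingHom.ker (Algebra.ofId O R) from hgker.symm)).trans
      (Ideal.quotientKerAlgEquivOfSurjective (f := Algebra.ofId O R) hgsurj)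
  let eq' : (EGA4.Cpl O ⧸ (Ideal.span {hO}).map (algebraMap O (EGA4.Cpl O))) ≃ₐ[O] R ⊗[O] EGA4.Cpl O :=
    ((Algebra.TensorProduct.quotIdealMapEquivTensorQuot (EGA4.Cpl O) (Ideal.span {hO})).restrictScalars O).trans
      ((Algebra.TensorProduct.comm O (EGA4.Cpl O) (O ⧸ Ideal.span {hO})).trans
        (Algebra.TensorProduct.congr eR AlgEquiv.refl))
  let Q : MvPowerSeries (Fin n') k := e1 (algebraMap O (EGA4.Cpl O) hO)
  have hIQ : Ideal.span {Q} = ((Ideal.span {hO}).map (algebraMap O (EGA4.Cpl O))).map e1.toRingHom := by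
    rw [Ideal.map_span, Set.image_singleton, Ideal.map_span, Set.image_singleton]
    rfl
  let eAll : (EGA4.Cpl O ⧸ (Ideal.span {hO}).map (algebraMap O (EGA4.Cpl O))) ≃ₐ[O] EGA4.Cpl R :=
    eq'.trans (eT.restrictScalars O)
  refine ⟨hNR, ⟨evR, hevR, hdeg⟩, Q, eAll.toRingEquiv.symm.trans (Ideal.quotientEquiv _ _ e1 hIQ), fun c => ?_, fun d hd => ?_⟩
  · rw [RingEquiv.trans_apply, show eAll.toRingEquiv.symm (algebraMap R (EGA4.Cpl R) (algebraMap k R c)) =
        algebraMap O _ (algebraMap k O c) by
      rw [RingEquiv.symm_apply_eq]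
      refine Eq.trans ?_ (eAll.commutes (algebraMap k O c)).symm
      rw [IsScalarTower.algebraMap_apply k O R, ← IsScalarTower.algebraMap_apply O R (EGA4.Cpl R)]]
    rw [← he1 c]
    rfl
  · -- `h` is in the square of the maximal ideal
    have hz' : DblZero evO hO := by
      refine (fun φ hφ => ?_)
      have := hz (φ.comp (IsScalarTower.toAlgHom k A O)) (by
        rw [← AlgHom.comp_assoc, hφ]
        refine AlgHom.ext fun a => ?_
        show IsLocalization.liftAlgHom (M := M.primeCompl) hunitA (algebraMap A O a) = ev a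
        rw [IsLocalization.liftAlgHom_apply]
        exact IsLocalization.lift_eq _ a)
      exact this
    let oh : O →ₐ[k] MvPowerSeries (Fin n') k :=
      { e1.toRingHom.comp (algebraMap O (EGA4.Cpl O)) with commutes' := fun c => he1 c }
    have hcc : MvPowerSeries.coeff 0 Q = 0 := by
      rw [MvPowerSeries.coeff_zero_eq_constantCoeff_apply, ← psOrigin_apply]
      show psOrigin k n' (oh hO) = 0
      rw [← AlgHom.comp_apply, point_unique ((psOrigin k n').comp oh) evO]
      exact hz'.eval_eq_zero
    rcases Nat.lt_or_ge d.degree 1 with h0 | h1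
    · rw [(Finsupp.degree_eq_zero_iff d).1 (by omega)]; exact hcc
    · classical
      obtain ⟨l, hl⟩ : ∃ l, d l ≠ 0 := by
        by_contra! hc
        rw [show d = 0 from Finsupp.ext hc, map_zero] at h1
        omega
      have hle : Finsupp.single l 1 ≤ d := Finsupp.single_le_iff.2 (Nat.one_le_iff_ne_zero.2 hl)
      have hd' : d = Finsupp.single l 1 := by
        have := congrArg Finsupp.degree (tsub_add_cancel_of_le hle)
        rw [map_add, Finsupp.degree_single] at this
        rw [← tsub_add_cancel_of_le hle, (Finsupp.degree_eq_zero_iff (d - Finsupp.single l 1)).1 (show (d - Finsupp.single l 1).degree = 0 by omega),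
          zero_add]
      rw [hd']
      -- the coefficient of `T_l` is a tangent vector
      obtain ⟨χ, hχ, hχQ⟩ : ∃ χ : MvPowerSeries (Fin n') k →ₐ[k] DualNumber k,
          (TrivSqZeroExt.fstHom k k k).comp χ = psOrigin k n' ∧
          ∀ f, (χ f).snd = MvPowerSeries.coeff (Finsupp.single l 1) f := by
        refine ⟨{ toFun := fun f => TrivSqZeroExt.inl (MvPowerSeries.constantCoeff f) +
                    TrivSqZeroExt.inr (MvPowerSeries.coeff (Finsupp.single l 1) f)
                  map_one' := by ext <;> simp [MvPowerSeries.coeff_one]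
                  map_mul' := fun f g => ?_
                  map_zero' := by simp
                  map_add' := fun f g => by ext <;> simp
                  commutes' := fun c => by
                    ext <;> simp [MvPowerSeries.algebraMap_apply, MvPowerSeries.coeff_C, TrivSqZeroExt.algebraMap_eq_inl] },
          AlgHom.ext fun f => by simp [psOrigin_apply], fun f => by simp⟩
        ext
        · simp
        · simp only [TrivSqZeroExt.snd_add, TrivSqZeroExt.snd_inl, TrivSqZeroExt.snd_inr, zero_add, TrivSqZeroExt.snd_mul,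
            TrivSqZeroExt.fst_add, TrivSqZeroExt.fst_inl, TrivSqZeroExt.fst_inr, add_zero]
          rw [MvPowerSeries.coeff_mul, Finsupp.antidiagonal_single]
          rw [Finset.sum_map]
          rw [show Finset.HasAntidiagonal.antidiagonal 1 = ({(0, 1), (1, 0)} : Finset (ℕ × ℕ)) by decide]
          simp [MvPowerSeries.coeff_zero_eq_constantCoeff_apply, mul_comm, add_comm]
      rw [← hχQ]
      show (χ (oh hO)).snd = 0
      rw [← AlgHom.comp_apply, hz' (χ.comp oh) (point_unique _ _), TrivSqZeroExt.snd_zero]

end

end Groth.Agent.LefPenLib
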