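import Groth.Agent.LefPenLib.Points
import Groth.Agent.LefPenLib.OrdAlg
import Groth.Agent.LefPenLib.OrdLocal
import Groth.Agent.LefPenLib.Nondeg

/-!
# One ordinary quadratic singularity
-/

set_option backward.isDefEq.respectTransparency false
set_option backward.isDefEq.respectTransparency.types false
set_option linter.unusedSectionVars false
set_option linter.style.haveILetI false

universe u

open CategoryTheory AlgebraicGeometry TopologicalSpace

namespace Groth.Agent.LefPenLib

noncomputable section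

variable {r : ℕ} {k : Type u} [Field k] {X : Scheme.{u}} (ι : X ⟶ CohB1.ProjSpace r k) {d : ℕ}

attribute [local instance] wAlgebra

variable (H : LefPen.Form r k d) (j : Fin (r + 1))

/-- The chart of the section. -/
abbrev secOpen : (LefPen.Sec ι ({H} : Set (LefPen.Form r k d))).Opens :=
  LefPen.secι ι ({H} : Set (LefPen.Form r k d)) ⁻¹ᵁ wOpen ι j

/-- The functions on a chart of the section as an algebra. -/
@[reducible] def secAlgebra : Algebra k Γ(LefPen.Sec ι ({H} : Set (LefPen.Form r k d)), secOpen ι H j) :=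
  (SmoothReg.affMap (LefPen.secToSpec ι ({H} : Set (LefPen.Form r k d))) (secOpen ι H j)).toAlgebra

attribute [local instance] secAlgebra

theorem isAffine_secOpen [IsAffineHom ι] : IsAffineOpen (secOpen ι H j) :=
  (isAffine_wOpen ι j).preimage _

/-- Restriction to the section. -/
def secRes : Γ(X, wOpen ι j) →ₐ[k] Γ(LefPen.Sec ι ({H} : Set (LefPen.Form r k d)), secOpen ι H j) :=
  { ((LefPen.secι ι ({H} : Set (LefPen.Form r k d))).app (wOpen ι j)).hom with
    commutes' := fun c => by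
      show (LefPen.secι ι ({H} : Set (LefPen.Form r k d))).app (wOpen ι j)
          ((Scheme.Hom.appLE _ ⊤ (wOpen ι j) _).hom _) = (Scheme.Hom.appLE _ ⊤ (secOpen ι H j) _).hom _
      have e : ∀ h h', (ι ≫ CohB1.ProjSpace.toSpec r k).appLE ⊤ (wOpen ι j) h ≫
          (LefPen.secι ι ({H} : Set (LefPen.Form r k d))).app (wOpen ι j) =
          (LefPen.secToSpec ι ({H} : Set (LefPen.Form r k d))).appLE ⊤ (secOpen ι H j) h' := fun h h' => by
        rw [Scheme.Hom.app_eq_appLE, Scheme.Hom.appLE_comp_appLE]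
      rw [← e]
      rfl }

theorem secRes_surjective [IsAffineHom ι] : Function.Surjective (secRes ι H j) :=
  (LefPen.secIdeal ι ({H} : Set (LefPen.Form r k d))).subschemeι_app_surjective ⟨wOpen ι j, isAffine_wOpen ι j⟩

theorem ker_secRes [IsAffineHom ι] : RingHom.ker (secRes ι H j) = Ideal.span {pullForm ι j H} :=
  ((LefPen.secIdeal ι ({H} : Set (LefPen.Form r k d))).ker_subschemeι_app ⟨wOpen ι j, isAffine_wOpen ι j⟩).trans
    (secIdeal_singleton ι H j)

theorem secι_fromSpec [IsAffineHom ι] (evC : Γ(LefPen.Sec ι ({H} : Set (LefPen.Form r k d)), secOpen ι H j) →ₐ[k] k) :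
    LefPen.secι ι ({H} : Set (LefPen.Form r k d))
        ((isAffine_secOpen ι H j).fromSpec ⟨RingHom.ker evC, RingHom.ker_isPrime evC⟩) =
      pointOf ι j (evC.comp (secRes ι H j)) := by
  rw [← Scheme.Hom.comp_apply, ← IsAffineOpen.SpecMap_appLE_fromSpec _ (isAffine_wOpen ι j) (isAffine_secOpen ι H j) le_rfl,
    Scheme.Hom.comp_apply, Scheme.Hom.appLE_eq_app]
  rfl

variable [IsAlgClosed k] [IsClosedImmersion ι] [IrreducibleSpace X] {n : ℕ}
  [hsmo : SmoothOfRelativeDimension n (ι ≫ CohB1.ProjSpace.toSpec r k)]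

include hsmo

theorem lft_secToSpec : LocallyOfFiniteType (LefPen.secToSpec ι ({H} : Set (LefPen.Form r k d))) ∧
    LocallyOfFinitePresentation (LefPen.secToSpec ι ({H} : Set (LefPen.Form r k d))) ∧
    LocallyOfFiniteType (ι ≫ CohB1.ProjSpace.toSpec r k) := by
  haveI : Smooth (ι ≫ CohB1.ProjSpace.toSpec r k) := SmoothOfRelativeDimension.smooth n _
  haveI : LocallyOfFiniteType (LefPen.secToSpec ι ({H} : Set (LefPen.Form r k d))) := inferInstance
  exact ⟨inferInstance, LocallyOfFinitePresentation.iff_locallyOfFiniteType.2 inferInstance, inferInstance⟩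

/-- A closed point of the section in the chart `j`. -/
theorem exists_data (y : LefPen.Sec ι ({H} : Set (LefPen.Form r k d))) (hy : IsClosed ({y} : Set _))
    (hj : y ∈ secOpen ι H j) :
    ∃ (ev : Γ(X, wOpen ι j) →ₐ[k] k) (evC : Γ(LefPen.Sec ι ({H} : Set (LefPen.Form r k d)), secOpen ι H j) →ₐ[k] k),
      evC.comp (secRes ι H j) = ev ∧ ev (pullForm ι j H) = 0 ∧
      LefPen.secι ι ({H} : Set (LefPen.Form r k d)) y = pointOf ι j ev ∧
      ((isAffine_secOpen ι H j).primeIdealOf ⟨y, hj⟩).asIdeal = RingHom.ker evC := by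
  haveI := (lft_secToSpec ι H (n := n)).1
  haveI : Algebra.FiniteType k Γ(LefPen.Sec ι ({H} : Set (LefPen.Form r k d)), secOpen ι H j) :=
    SmoothReg.finiteType_affMap (LefPen.secToSpec ι ({H} : Set (LefPen.Form r k d))) (isAffine_secOpen ι H j)
  haveI hm := (isAffine_secOpen ι H j).primeIdealOf_isMaximal_of_isClosed ⟨y, hj⟩ hy
  obtain ⟨evC, hevC⟩ := exists_point (k := k) ((isAffine_secOpen ι H j).primeIdealOf ⟨y, hj⟩).asIdeal hm.ne_top
  have hq : ((isAffine_secOpen ι H j).primeIdealOf ⟨y, hj⟩).asIdeal = RingHom.ker evC :=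
    hm.eq_of_le (RingHom.ker_isPrime evC).ne_top fun a ha => hevC a ha
  refine ⟨evC.comp (secRes ι H j), evC, rfl, ?_, ?_, hq⟩
  · have : secRes ι H j (pullForm ι j H) = 0 :=
      (RingHom.mem_ker (f := secRes ι H j)).1 (ker_secRes ι H j ▸ Ideal.mem_span_singleton_self _)
    rw [AlgHom.comp_apply, this, map_zero]
  · rw [← secι_fromSpec]
    refine congrArg _ ?_
    refine Eq.trans ((isAffine_secOpen ι H j).fromSpec_primeIdealOf ⟨y, hj⟩).symm (congrArg _ (PrimeSpectrum.ext hq))

/-- The point of the section at a point of the chart where the form vanishes. -/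
theorem exists_secPoint (ev : Γ(X, wOpen ι j) →ₐ[k] k) (h : ev (pullForm ι j H) = 0) :
    ∃ y : LefPen.Sec ι ({H} : Set (LefPen.Form r k d)), IsClosed ({y} : Set _) ∧
      LefPen.secι ι ({H} : Set (LefPen.Form r k d)) y = pointOf ι j ev := by
  haveI := (lft_secToSpec ι H (n := n)).1
  haveI := LocallyOfFiniteType.jacobsonSpace (LefPen.secToSpec ι ({H} : Set (LefPen.Form r k d)))
  let E := Ideal.quotientKerAlgEquivOfSurjective (f := secRes ι H j) (secRes_surjective ι H j)
  have hI : ∀ a ∈ RingHom.ker (secRes ι H j), ev a = 0 := fun a ha => by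
    rw [ker_secRes] at ha
    obtain ⟨c, rfl⟩ := Ideal.mem_span_singleton'.1 ha
    rw [map_mul, h, mul_zero]
  let evC : Γ(LefPen.Sec ι ({H} : Set (LefPen.Form r k d)), secOpen ι H j) →ₐ[k] k :=
    (Ideal.Quotient.liftₐ (RingHom.ker (secRes ι H j)) ev hI).comp E.symm.toAlgHom
  have hev : evC.comp (secRes ι H j) = ev := AlgHom.ext fun a => by
    have h1 : E.symm (secRes ι H j a) = Ideal.Quotient.mk _ a := by
      rw [AlgEquiv.symm_apply_eq, Ideal.quotientKerAlgEquivOfSurjective_mk]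
    show Ideal.Quotient.liftₐ _ ev hI (E.symm (secRes ι H j a)) = ev a
    refine (congrArg _ h1).trans ?_
    exact Ideal.Quotient.lift_mk _ _ _
  refine ⟨(isAffine_secOpen ι H j).fromSpec ⟨RingHom.ker evC, RingHom.ker_isPrime evC⟩,
    isClosed_fromSpec_of_isMaximal _ _ (RingHom.ker_isMaximal_of_surjective evC fun c => ⟨algebraMap k _ c, evC.commutes c⟩), ?_⟩
  rw [secι_fromSpec, hev]

theorem mem_secOpen_of_eq {y : LefPen.Sec ι ({H} : Set (LefPen.Form r k d))} {ev : Γ(X, wOpen ι j) →ₐ[k] k}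
    (h : LefPen.secι ι ({H} : Set (LefPen.Form r k d)) y = pointOf ι j ev) : y ∈ secOpen ι H j := by
  show LefPen.secι ι ({H} : Set (LefPen.Form r k d)) y ∈ wOpen ι j
  rw [h]; exact pointOf_mem ι j ev

theorem wOpen_dim (hne : Nontrivial Γ(X, wOpen ι j)) :
    IsDomain Γ(X, wOpen ι j) ∧ ringKrullDim Γ(X, wOpen ι j) = n := by
  obtain ⟨hdom, hdim, -, -⟩ := wOpen_domain (n := n) ι j hne
  haveI := hdom
  have hd := hdim ⊥ (by rw [IsDomain.minimalPrimes_eq_singleton_bot]; rfl)
  rw [ringKrullDim_eq_of_ringEquiv (RingEquiv.quotientBot _)] at hd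
  exact ⟨hdom, hd⟩

/-- Smoothness of the section at a closed point. -/
theorem smoothAt_iff (y : LefPen.Sec ι ({H} : Set (LefPen.Form r k d))) (ev : Γ(X, wOpen ι j) →ₐ[k] k)
    (hy : IsClosed ({y} : Set _)) (hpt : LefPen.secι ι ({H} : Set (LefPen.Form r k d)) y = pointOf ι j ev) :
    (pullForm ι j H = 0 → LefPen.SmoothAt (LefPen.secToSpec ι ({H} : Set (LefPen.Form r k d))) y) ∧
    (pullForm ι j H ≠ 0 →
      (LefPen.SmoothAt (LefPen.secToSpec ι ({H} : Set (LefPen.Form r k d))) y ↔ ¬ Bad ι j ev H)) := by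
  haveI := (lft_secToSpec ι H (n := n)).2.1
  have hj := mem_secOpen_of_eq (n := n) ι H j hpt
  obtain ⟨ev', evC, hev, h0, hpt', hq⟩ := exists_data (n := n) ι H j y hy hj
  have : ev' = ev := pointOf_inj ι (hpt'.symm.trans hpt)
  subst this
  obtain ⟨hsm, hft⟩ := wOpen_smooth (n := n) ι j
  haveI := hft
  have hne : Nontrivial Γ(X, wOpen ι j) := ev'.toRingHom.domain_nontrivial
  obtain ⟨hdom, hdim⟩ := wOpen_dim (n := n) ι j hne
  haveI := hdom
  haveI : (RingHom.ker evC).IsPrime := RingHom.ker_isPrime evC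
  have e1 : LefPen.SmoothAt (LefPen.secToSpec ι ({H} : Set (LefPen.Form r k d))) y ↔
      Algebra.IsSmoothAt k (RingHom.ker evC) := by
    refine Iff.trans Iff.rfl (Iff.trans (SmoothReg.mem_smoothLocus_iff_isSmoothAt
      (LefPen.secToSpec ι ({H} : Set (LefPen.Form r k d))) (isAffine_secOpen ι H j) hj) ?_)
    have : ∀ (q : Ideal Γ(LefPen.Sec ι ({H} : Set (LefPen.Form r k d)), secOpen ι H j)) (_ : q.IsPrime),
        q = RingHom.ker evC → (Algebra.IsSmoothAt k q ↔ Algebra.IsSmoothAt k (RingHom.ker evC)) := by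
      rintro q _ rfl; rfl
    exact this _ inferInstance hq
  refine ⟨fun hh => e1.2 ?_, fun hh => e1.trans (isSmoothAt_iff_not_dblZero n hdim hsm (secRes ι H j)
    (secRes_surjective ι H j) (pullForm ι j H) hh (ker_secRes ι H j) ev' evC hev)⟩
  have hinj : Function.Injective (secRes ι H j) := by
    rw [RingHom.injective_iff_ker_eq_bot, ker_secRes, hh, Ideal.span_singleton_eq_bot]
  haveI := hsm
  haveI : Algebra.Smooth k Γ(LefPen.Sec ι ({H} : Set (LefPen.Form r k d)), secOpen ι H j) :=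
    Algebra.Smooth.of_equiv (AlgEquiv.ofBijective (secRes ι H j) ⟨hinj, secRes_surjective ι H j⟩)
  exact Algebra.FormallySmooth.comp k Γ(LefPen.Sec ι ({H} : Set (LefPen.Form r k d)), secOpen ι H j)
    (Localization.AtPrime (RingHom.ker evC))

/-- Ordinary quadratic singularities of the section. -/
theorem isOrdQuadSing_iff (m : ℕ) (hm : n = m + 1) (y : LefPen.Sec ι ({H} : Set (LefPen.Form r k d)))
    (ev : Γ(X, wOpen ι j) →ₐ[k] k) (hy : IsClosed ({y} : Set _))
    (hpt : LefPen.secι ι ({H} : Set (LefPen.Form r k d)) y = pointOf ι j ev) (hb : Bad ι j ev H) :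
    LefPen.IsOrdQuadSing k m (LefPen.secToSpec ι ({H} : Set (LefPen.Form r k d))) y ↔
      ¬ DegPt ev (pullForm ι j H) := by
  subst hm
  haveI := (lft_secToSpec ι H (n := m + 1)).2.1
  have hj := mem_secOpen_of_eq (n := m + 1) ι H j hpt
  obtain ⟨ev', evC, hev, h0, hpt', hq⟩ := exists_data (n := m + 1) ι H j y hy hj
  have : ev' = ev := pointOf_inj ι (hpt'.symm.trans hpt)
  subst this
  obtain ⟨hsm, hft⟩ := wOpen_smooth (n := m + 1) ι j
  haveI := hft
  have hne : Nontrivial Γ(X, wOpen ι j) := ev'.toRingHom.domain_nontrivial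
  obtain ⟨hdom, hdim⟩ := wOpen_dim (n := m + 1) ι j hne
  haveI := hdom
  let Y := LefPen.Sec ι ({H} : Set (LefPen.Form r k d))
  let g := LefPen.secToSpec ι ({H} : Set (LefPen.Form r k d))
  let R := Y.presheaf.stalk y
  letI : Algebra k R := (LefPen.toStalk k g y).toAlgebra
  letI := Y.presheaf.algebra_section_stalk ⟨y, hj⟩
  haveI : IsScalarTower k Γ(Y, secOpen ι H j) R := IsScalarTower.of_algebraMap_eq fun c => by
    show LefPen.toStalk k g y c = Y.presheaf.germ (secOpen ι H j) y hj (SmoothReg.affMap g (secOpen ι H j) c)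
    change _ = Y.presheaf.germ (secOpen ι H j) y hj (Y.presheaf.map (homOfLE le_top).op _)
    rw [Y.presheaf.germ_res_apply (homOfLE le_top) y hj]
    rfl
  haveI hp : (RingHom.ker evC).IsPrime := RingHom.ker_isPrime evC
  haveI : IsLocalization.AtPrime R (RingHom.ker evC) := by
    have h1 := (isAffine_secOpen ι H j).isLocalization_stalk ⟨y, hj⟩
    have : ∀ (q : Ideal Γ(Y, secOpen ι H j)) (_ : q.IsPrime), q = RingHom.ker evC →
        IsLocalization.AtPrime R q → IsLocalization.AtPrime R (RingHom.ker evC) := by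
      rintro q _ rfl hh; exact hh
    exact this _ inferInstance hq h1
  obtain ⟨hN, ⟨evR, -, hdeg⟩, Q, e, he, hQ⟩ := exists_completion_series (m + 1) hdim hsm (secRes ι H j)
    (secRes_surjective ι H j) (pullForm ι j H) (ker_secRes ι H j) ev' evC hev hb R
  haveI := hN
  rw [← hdeg]
  constructor
  · rintro ⟨-, Q', Q₂, e', he', hs, hq', hnd⟩ hd
    rw [degPt_iff_of_completion evR Q' e' he' (by
      rw [← MvPowerSeries.coeff_zero_eq_constantCoeff_apply]; exact hs 0 (by simp)), degPt_ps_iff Q' Q₂ hs hq'] at hd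
    obtain ⟨u, hu, h1, h2⟩ := hd
    obtain ⟨l, hl⟩ := (nondegQuad_iff Q₂).1 hnd u hu h1
    exact hl (h2 l)
  · intro hd
    let Q₂ : LefPen.Form m k 2 := ofCoeff fun e : Expo m 2 => MvPowerSeries.coeff e.1 Q
    have hq' : LefPen.IsQuadPart k Q Q₂ := fun d hd => coeffL_ofCoeff _ ⟨d, hd⟩
    refine ⟨hy, Q, Q₂, e, he, hQ, hq', (nondegQuad_iff Q₂).2 fun u hu h1 => ?_⟩
    by_contra! hc
    exact hd ((degPt_iff_of_completion evR Q e he (by
      rw [← MvPowerSeries.coeff_zero_eq_constantCoeff_apply]; exact hQ 0 (by simp))).2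
        ((degPt_ps_iff Q Q₂ hQ hq').2 ⟨u, hu, h1, hc⟩))

omit j in
/-- If the form vanishes on one nonempty chart it vanishes on all. -/
theorem pullForm_eq_zero_of (i j : Fin (r + 1)) (hi : (wOpen ι i : Set X).Nonempty) (h0 : pullForm ι i H = 0) :
    pullForm ι j H = 0 := by
  rcases Set.eq_empty_or_nonempty (wOpen ι j : Set X) with hj | hj
  · haveI : Subsingleton Γ(X, wOpen ι j) := by rw [show wOpen ι j = ⊥ from Opens.ext hj]; infer_instance
    exact Subsingleton.elim _ _
  haveI : Smooth (ι ≫ CohB1.ProjSpace.toSpec r k) := SmoothOfRelativeDimension.smooth n _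
  haveI : AlgebraicGeometry.IsReduced X :=
    GrpSchLib.isReduced_of_smooth_field (ι ≫ CohB1.ProjSpace.toSpec r k)
  haveI : IsIntegral X := isIntegral_of_irreducibleSpace_of_isReduced X
  haveI hA : IsDomain Γ(X, wOpen ι j) := @IsIntegral.component_integral X _ _ ⟨⟨_, hj.some_mem⟩⟩
  obtain ⟨-, hft⟩ := wOpen_smooth (n := n) ι j
  haveI := hft
  let y : Γ(X, wOpen ι j) := pullPoly ι j (MvPolynomial.X i)
  have hy : y ≠ 0 := by
    intro h0
    obtain ⟨z, hz1, hz2⟩ := nonempty_preirreducible_inter (wOpen ι j).2 (wOpen ι i).2 hj hi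
    have hyeq : y = ι.app (LefPen.chart r k j)
        ((Proj.awayToSection (CohB1.polyGrading r k) (MvPolynomial.X j)).hom (ZetaLib.coord r k j i)) := by
      show ι.app _ ((Proj.awayToSection _ _).hom (ZetaLib.dehom r k j (MvPolynomial.X i))) = _
      rw [ZetaLib.dehom, MvPolynomial.eval₂Hom_X']
    have hb' : X.basicOpen y = ι ⁻¹ᵁ (LefPen.chart r k j ⊓ LefPen.chart r k i) := by
      rw [hyeq, ← Scheme.preimage_basicOpen, basicOpen_coord]
    have hz : z ∈ X.basicOpen y := by rw [hb']; exact ⟨hz1, hz2⟩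
    rw [h0, Scheme.basicOpen_zero] at hz
    exact hz
  refine (mul_eq_zero.1 (eq_zero_of_forall_point (k := k) (x := y * pullForm ι j H) fun ev => ?_)).resolve_left hy
  rw [map_mul]
  by_cases h1 : ev y = 0
  · rw [h1, zero_mul]
  · obtain ⟨φ, hφ⟩ := exists_change ι i j ev (isUnit_iff_ne_zero.2 h1)
    rw [hφ d H, h0, map_zero, mul_zero, mul_zero]

omit j in
/-- `X ∩ V(H)` has exactly one singular point, an ordinary quadratic one, iff `H` touches `X` at one point only,
nondegenerately. -/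
theorem oneOrdQuad_iff (hn : 1 ≤ n) :
    LefPen.OneOrdQuad k n ι H ↔ ∃ j ev, Bad ι j ev H ∧ ¬ DegPt ev (pullForm ι j H) ∧
      ∀ j' (ev' : Γ(X, wOpen ι j') →ₐ[k] k), Bad ι j' ev' H →
        ∀ l, vec ι j ev l = vec ι j ev j' * vec ι j' ev' l := by
  obtain ⟨m, rfl⟩ : ∃ m, n = m + 1 := ⟨n - 1, by omega⟩
  let Y := LefPen.Sec ι ({H} : Set (LefPen.Form r k d))
  let g := LefPen.secToSpec ι ({H} : Set (LefPen.Form r k d))
  let s := LefPen.secι ι ({H} : Set (LefPen.Form r k d))
  obtain ⟨hl1, hl2, hl3⟩ := lft_secToSpec ι H (n := m + 1)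
  haveI := hl1; haveI := hl2; haveI := hl3
  haveI := LocallyOfFiniteType.jacobsonSpace g
  haveI := LocallyOfFiniteType.jacobsonSpace (ι ≫ CohB1.ProjSpace.toSpec r k)
  have chartOf : ∀ x : X, ∃ j, x ∈ wOpen ι j := fun x => by
    have hy : ι x ∈ (⨆ i, LefPen.chart r k i : (CohB1.ProjSpace r k).Opens) := by rw [iSup_chart]; trivial
    obtain ⟨i, hi⟩ := Opens.mem_iSup.1 hy
    exact ⟨i, hi⟩
  constructor
  · rintro ⟨y, hset, hord⟩
    have hy := hord.1
    have hns : ¬ LefPen.SmoothAt g y := fun h =>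
      (show y ∈ ({y}ᶜ : Set Y) from hset ▸ h) rfl
    obtain ⟨j, hj⟩ := chartOf (s y)
    obtain ⟨ev, evC, -, h0, hpt, -⟩ := exists_data (n := m + 1) ι H j y hy hj
    have hsm := smoothAt_iff (n := m + 1) ι H j y ev hy hpt
    have hh : pullForm ι j H ≠ 0 := fun h => hns (hsm.1 h)
    have hb : Bad ι j ev H := by_contra fun hb => hns ((hsm.2 hh).2 hb)
    refine ⟨j, ev, hb, (isOrdQuadSing_iff ι H j m rfl y ev hy hpt hb).1 hord, fun j' ev' hb' => ?_⟩
    obtain ⟨y', hy', hpt'⟩ := exists_secPoint (n := m + 1) ι H j' ev' hb'.eval_eq_zero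
    have hh' : pullForm ι j' H ≠ 0 := fun h =>
      hh (pullForm_eq_zero_of (n := m + 1) ι H j' j ⟨_, pointOf_mem ι j' ev'⟩ h)
    have hns' : ¬ LefPen.SmoothAt g y' := fun h => ((smoothAt_iff (n := m + 1) ι H j' y' ev' hy' hpt').2 hh').1 h hb'
    have : y' = y := by_contra fun hne => hns' (hset.ge (show y' ∈ ({y}ᶜ : Set Y) from hne))
    subst this
    exact (pointOf_eq_iff ι).1 (hpt.symm.trans hpt')
  · rintro ⟨j, ev, hb, hdeg, huniq⟩
    have hh : pullForm ι j H ≠ 0 := by
      intro h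
      obtain ⟨hsm, hft⟩ := wOpen_smooth (n := m + 1) ι j
      haveI := hft
      obtain ⟨hdom, hdim⟩ := wOpen_dim (n := m + 1) ι j ev.toRingHom.domain_nontrivial
      haveI := hdom
      have hall : ∀ ev'' : Γ(X, wOpen ι j) →ₐ[k] k, ev'' = ev := fun ev'' =>
        point_ext ι j fun l => by
          have h1 := huniq j ev'' (fun φ _ => by rw [h, map_zero]) l
          rw [vec_self, one_mul] at h1
          exact h1.symm
      have hbij : Function.Bijective ev := ⟨fun a b hab => sub_eq_zero.1 (eq_zero_of_forall_point fun ev'' => by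
          rw [hall ev'', map_sub, hab, sub_self]), fun c => ⟨algebraMap k _ c, ev.commutes c⟩⟩
      rw [ringKrullDim_eq_of_ringEquiv (RingEquiv.ofBijective ev.toRingHom hbij), ringKrullDim_eq_zero_of_field] at hdim
      exact absurd hdim.symm (by exact_mod_cast Nat.succ_ne_zero m)
    obtain ⟨y, hy, hpt⟩ := exists_secPoint (n := m + 1) ι H j ev hb.eval_eq_zero
    refine ⟨y, ?_, (isOrdQuadSing_iff ι H j m rfl y ev hy hpt hb).2 hdeg⟩
    have hclosed : ∀ z : Y, IsClosed ({z} : Set Y) → (LefPen.SmoothAt g z ↔ z ≠ y) := by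
      intro z hz
      obtain ⟨j', hj'⟩ := chartOf (s z)
      obtain ⟨ev', evC', -, h0', hpt', -⟩ := exists_data (n := m + 1) ι H j' z hz hj'
      have hh' : pullForm ι j' H ≠ 0 := fun h =>
        hh (pullForm_eq_zero_of (n := m + 1) ι H j' j ⟨_, pointOf_mem ι j' ev'⟩ h)
      rw [(smoothAt_iff (n := m + 1) ι H j' z ev' hz hpt').2 hh']
      constructor
      · rintro hnb rfl
        have hrel := (pointOf_eq_iff ι).1 (hpt'.symm.trans hpt)
        exact hnb (bad_change ι (fun h => one_ne_zero ((vec_self ι j' ev').symm.trans ((hrel j').trans (by rw [h, zero_mul]))))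
          hrel H hb)
      · intro hne hb'
        refine hne (s.isEmbedding.injective (hpt'.trans (Eq.trans ?_ hpt.symm)))
        exact ((pointOf_eq_iff ι).2 (huniq j' ev' hb')).symm
    ext z
    refine ⟨fun hz hzy => ?_, fun hz => ?_⟩
    · rw [Set.mem_singleton_iff] at hzy
      subst hzy
      exact (hclosed z hy).1 hz rfl
    · by_contra hns
      let Z : Set Y := (g.smoothLocus : Set Y)ᶜ
      have hZ : IsClosed Z := g.smoothLocus.2.isClosed_compl
      have hsub : Z ∩ closedPoints Y ⊆ {y} := fun w hw => by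
        by_contra hwy
        exact hw.1 ((hclosed w hw.2).2 hwy)
      have h2 : z ∈ closure (Z ∩ closedPoints Y) := by
        rw [closure_inter_closedPoints hZ]; exact hns
      have h3 := closure_mono hsub h2
      rw [hy.closure_eq] at h3
      exact hz h3

end

end Groth.Agent.LefPenLib
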