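import Groth.Agent.LefPenLib.Open

/-!
# Projections of closed loci along `X`
-/

set_option backward.isDefEq.respectTransparency false
set_option backward.isDefEq.respectTransparency.types false
set_option linter.unusedSectionVars false
set_option linter.style.haveILetI false

universe u

open CategoryTheory AlgebraicGeometry

namespace Groth.Agent.LefPenLib

noncomputable section

variable {r : ℕ} {k : Type u} [Field k] {X : Scheme.{u}} (ι : X ⟶ CohB1.ProjSpace r k)

attribute [local instance] wAlgebra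

/-- A locus in `X × (parameters)` which is closed in each chart has closed projection to the parameters. -/
theorem exists_open_avoid [IsAlgClosed k] [IsClosedImmersion ι] {E : Type}
    (W : ∀ i, (Γ(X, wOpen ι i) →ₐ[k] k) → (E → k) → Prop)
    (hchange : ∀ i j (evj : Γ(X, wOpen ι j) →ₐ[k] k) (evi : Γ(X, wOpen ι i) →ₐ[k] k) (a : E → k),
      vec ι j evj i ≠ 0 → (∀ l, vec ι j evj l = vec ι j evj i * vec ι i evi l) → W j evj a → W i evi a)
    (a0 : E → k)
    (hsep : ∀ (v : Fin (r + 1) → k), v ≠ 0 → ∃ i, v i ≠ 0 ∧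
      ∃ p : MvPolynomial (Fin (r + 1)) (MvPolynomial E k),
        evalAt a0 (fun l => (v i)⁻¹ * v l) p ≠ 0 ∧ ∀ ev a, W i ev a → evalAt a (vec ι i ev) p = 0) :
    ∃ D : MvPolynomial E k, MvPolynomial.eval a0 D ≠ 0 ∧ ∀ a, MvPolynomial.eval a D ≠ 0 → ∀ i ev, ¬ W i ev a := by
  let S : Set (MvPolynomial (Fin (r + 1)) (MvPolynomial E k)) :=
    {P | (∃ m : ℕ, P.IsHomogeneous m) ∧ ∀ j ev a, W j ev a → evalAt a (vec ι j ev) P = 0}
  obtain ⟨D, hD0, hD⟩ := exists_elim S (fun P hP => hP.1) a0 fun v hv => by
    obtain ⟨i, hi, p, hp0, hp⟩ := hsep v hv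
    let w : Fin (r + 1) → k := fun l => (v i)⁻¹ * v l
    refine ⟨homog i p, ⟨⟨_, isHomogeneous_homog i p⟩, fun j ev a hW => ?_⟩, ?_⟩
    · by_cases hji : vec ι j ev i = 0
      · exact evalAt_homog_zero i p _ hji
      · obtain ⟨evi, hrel⟩ := exists_change_point ι i j ev hji
        rw [show vec ι j ev = fun l => vec ι j ev i * vec ι i evi l from funext hrel,
          evalAt_homog i p _ _ (vec_self ι i evi), hp evi a (hchange i j ev evi a hji hrel hW), mul_zero]
    · rw [show v = fun l => v i * w l from funext fun l => by simp only [w]; field_simp,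
        evalAt_homog i p _ _ (inv_mul_cancel₀ hi)]
      exact mul_ne_zero (pow_ne_zero _ hi) hp0
  refine ⟨D, hD0, fun a ha j ev hW => ?_⟩
  have := hD _ (vec ι j ev) ha fun P hP => hP.2 j ev a hW
  exact one_ne_zero ((vec_self ι j ev).symm.trans (congrFun this j))

end

end Groth.Agent.LefPenLib
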