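import Groth.Agent.LefPenLib.PairChart
import Groth.Agent.LefPenLib.Proj
import Groth.Agent.LefPenLib.DegChange

/-!
# Being tangent at exactly one point, nondegenerately, is open
-/

set_option backward.isDefEq.respectTransparency false
set_option backward.isDefEq.respectTransparency.types false
set_option linter.unusedSectionVars false
set_option linter.style.haveILetI false

universe u

open CategoryTheory AlgebraicGeometry

namespace Groth.Agent.LefPenLib

noncomputable section

variable {r : ℕ} {k : Type u} [Field k] {X : Scheme.{u}} (ι : X ⟶ CohB1.ProjSpace r k) {d : ℕ}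

attribute [local instance] wAlgebra

/-- A degenerate tangency, or one of several. -/
def PairBad [IsAffineHom ι] (i : Fin (r + 1)) (ev : Γ(X, wOpen ι i) →ₐ[k] k) (H : LefPen.Form r k d) : Prop :=
  Bad ι i ev H ∧ (DegPt ev (pullForm ι i H) ∨ ∃ i' ev', Bad ι i' ev' H ∧ pointOf ι i' ev' ≠ pointOf ι i ev)

theorem ofCoeff_coeffL (H : LefPen.Form r k d) : ofCoeff (fun e => coeffL e H) = H :=
  Subtype.ext ((coe_ofCoeff _).trans (eq_sum_coeff H).symm)

variable [IsAlgClosed k] [IsClosedImmersion ι] [IrreducibleSpace X] {n : ℕ}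
  [hsmo : SmoothOfRelativeDimension n (ι ≫ CohB1.ProjSpace.toSpec r k)]

include hsmo

/-- Forms near one with a single nondegenerate tangency have at most one tangency, a nondegenerate one. -/
theorem exists_open_oneTangency (H0 : LefPen.Form r k d) (j0 : Fin (r + 1)) (ev0 : Γ(X, wOpen ι j0) →ₐ[k] k)
    (hnd : ¬ DegPt ev0 (pullForm ι j0 H0))
    (huniq : ∀ i ev, Bad ι i ev H0 → pointOf ι i ev = pointOf ι j0 ev0) :
    ∃ D : MvPolynomial (Expo r d) k, MvPolynomial.eval (fun e => coeffL e H0) D ≠ 0 ∧
      ∀ H : LefPen.Form r k d, MvPolynomial.eval (fun e => coeffL e H) D ≠ 0 → ∀ i ev, ¬ PairBad ι i ev H := by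
  classical
  let a0 : Expo r d → k := fun e => coeffL e H0
  obtain ⟨D, hD0, hD⟩ := exists_open_avoid ι (E := Expo r d) (fun i ev a => PairBad ι i ev (ofCoeff a))
    (fun i j evj evi a hne hrel hW => ⟨(bad_change_iff ι hne hrel _).2 hW.1, hW.2.imp (degPt_change ι hne hrel _).2
      fun ⟨i', ev', hb', hne'⟩ => ⟨i', ev', hb', by rwa [← pointOf_eq_of_rel ι hne hrel]⟩⟩) a0 (fun v hv => by
      obtain ⟨i, hi⟩ := Function.ne_iff.1 hv
      change v i ≠ 0 at hi
      refine ⟨i, hi, ?_⟩
      let w : Fin (r + 1) → k := fun l => (v i)⁻¹ * v l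
      by_cases hno : ∀ ev, vec ι i ev = w → ¬ Bad ι i ev H0
      · obtain ⟨p, hp0, hp⟩ := exists_separating (n := n) ι i H0 w hno
        refine ⟨p, hp0, fun ev a hW => ?_⟩
        have := hp ev _ hW.1
        rwa [funext (coeffL_ofCoeff a)] at this
      push Not at hno
      obtain ⟨evx, hevx, hbx⟩ := hno
      have hndx : ¬ DegPt evx (pullForm ι i H0) := by
        have heq := huniq i evx hbx
        have hrel := (pointOf_eq_iff ι).1 heq.symm
        have hne : vec ι j0 ev0 i ≠ 0 := fun h =>
          one_ne_zero ((vec_self ι j0 ev0).symm.trans ((hrel j0).trans (by rw [h, zero_mul])))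
        exact fun h => hnd ((degPt_change ι hne hrel H0).1 h)
      obtain ⟨P, hP0, hP⟩ := exists_pair_poly (n := n) ι i evx H0 hbx hndx
      -- second point: eliminate it
      let a' : (Fin (r + 1) ⊕ Expo r d) → k := Sum.elim w a0
      let S : Set (MvPolynomial (Fin (r + 1)) (MvPolynomial (Fin (r + 1) ⊕ Expo r d) k)) :=
        {Q | (∃ m : ℕ, Q.IsHomogeneous m) ∧ ∀ (ev : Γ(X, wOpen ι i) →ₐ[k] k) (a : Expo r d → k) i' ev',
          Bad ι i ev (ofCoeff a) → Bad ι i' ev' (ofCoeff a) →
          (DegPt ev (pullForm ι i (ofCoeff a)) ∨ pointOf ι i' ev' ≠ pointOf ι i ev) →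
          evalAt (Sum.elim (vec ι i ev) a) (vec ι i' ev') Q = 0}
      obtain ⟨D', hD'0, hD'⟩ := exists_elim S (fun Q hQ => hQ.1) a' (fun v' hv' => by
        obtain ⟨i', hi'⟩ := Function.ne_iff.1 hv'
        change v' i' ≠ 0 at hi'
        let w' : Fin (r + 1) → k := fun l => (v' i')⁻¹ * v' l
        -- a homogenised equation on the chart of the second point
        have mk : ∀ (i' : Fin (r + 1)) (hi' : v' i' ≠ 0) (p : MvPolynomial (Fin (r + 1)) (MvPolynomial (Fin (r + 1) ⊕ Expo r d) k)),
            evalAt a' (fun l => (v' i')⁻¹ * v' l) p ≠ 0 →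
            (∀ (ev : Γ(X, wOpen ι i) →ₐ[k] k) (a : Expo r d → k) (ev' : Γ(X, wOpen ι i') →ₐ[k] k),
              Bad ι i ev (ofCoeff a) → Bad ι i' ev' (ofCoeff a) →
              (DegPt ev (pullForm ι i (ofCoeff a)) ∨ pointOf ι i' ev' ≠ pointOf ι i ev) →
              evalAt (Sum.elim (vec ι i ev) a) (vec ι i' ev') p = 0) →
            ∃ Q ∈ S, evalAt a' v' Q ≠ 0 := by
          intro i' hi' p hp0 hp
          refine ⟨homog i' p, ⟨⟨_, isHomogeneous_homog i' p⟩, fun ev a i'' ev'' hb hb' hor => ?_⟩, ?_⟩
          · by_cases h0 : vec ι i'' ev'' i' = 0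
            · exact evalAt_homog_zero i' p _ h0
            · obtain ⟨evc, hrel⟩ := exists_change_point ι i' i'' ev'' h0
              rw [show vec ι i'' ev'' = fun l => vec ι i'' ev'' i' * vec ι i' evc l from funext hrel,
                evalAt_homog i' p _ _ (vec_self ι i' evc), hp ev a evc hb ((bad_change_iff ι h0 hrel _).2 hb')
                  (by rwa [← pointOf_eq_of_rel ι h0 hrel]), mul_zero]
          · have e : v' = fun l => v' i' * ((v' i')⁻¹ * v' l) := funext fun l => by field_simp
            rw [e, evalAt_homog i' p _ _ (inv_mul_cancel₀ hi')]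
            exact mul_ne_zero (pow_ne_zero _ hi') hp0
        by_cases hno' : ∀ ev', vec ι i' ev' = w' → ¬ Bad ι i' ev' H0
        · obtain ⟨p, hp0, hp⟩ := exists_separating (n := n) ι i' H0 w' hno'
          have hmap : ∀ (u : Fin (r + 1) → k) (a : Expo r d → k) (v : Fin (r + 1) → k),
              evalAt (Sum.elim u a) v (MvPolynomial.map (MvPolynomial.rename (Sum.inr : Expo r d → (Fin (r + 1) ⊕ Expo r d))).toRingHom p) =
                evalAt a v p := fun u a v => by
            rw [evalAt, evalAt, MvPolynomial.map_map]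
            refine congrArg (fun f => MvPolynomial.eval v (MvPolynomial.map f p)) (RingHom.ext fun c => ?_)
            simp [MvPolynomial.eval_rename]
          refine mk i' hi' _ (by rw [hmap]; exact hp0) fun ev a ev' _ hb' _ => ?_
          rw [hmap]
          have := hp ev' _ hb'
          rwa [funext (coeffL_ofCoeff a)] at this
        push Not at hno'
        obtain ⟨ev', hev', hb'⟩ := hno'
        -- the second point is the first one
        have hrel := (pointOf_eq_iff ι).1 ((huniq i' ev' hb').trans (huniq i evx hbx).symm)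
        have hi'' : v' i ≠ 0 := by
          have h1 : vec ι i' ev' i ≠ 0 := fun h =>
            one_ne_zero ((vec_self ι i' ev').symm.trans ((hrel i').trans (by rw [h, zero_mul])))
          rw [hev'] at h1
          exact fun h => h1 (by simp [w', h])
        have hw : (fun l => (v' i)⁻¹ * v' l) = vec ι i evx := by
          funext l
          have hl : ∀ l, v' l = v' i' * vec ι i' ev' l := fun l => by
            rw [hev']; simp only [w']; field_simp
          have h1 : vec ι i' ev' i ≠ 0 := fun h => hi'' (by rw [hl i, h, mul_zero])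
          rw [hl l, hl i, hrel l]
          field_simp
        let p : MvPolynomial (Fin (r + 1)) (MvPolynomial (Fin (r + 1) ⊕ Expo r d) k) := MvPolynomial.eval₂Hom
          (MvPolynomial.C.comp (MvPolynomial.C : k →+* MvPolynomial (Fin (r + 1) ⊕ Expo r d) k))
          (Sum.elim (Sum.elim (fun l => MvPolynomial.C (MvPolynomial.X (Sum.inl l))) MvPolynomial.X)
            fun e => MvPolynomial.C (MvPolynomial.X (Sum.inr e))) P
        have hp : ∀ (u : Fin (r + 1) → k) (a : Expo r d → k) (v : Fin (r + 1) → k),
            evalAt (Sum.elim u a) v p = MvPolynomial.eval (Sum.elim (Sum.elim u v) a) P := fun u a v => by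
          refine DFunLike.congr_fun (f := (MvPolynomial.eval v).comp ((MvPolynomial.map
            (MvPolynomial.eval (Sum.elim u a))).comp (MvPolynomial.eval₂Hom _ _)))
            (g := MvPolynomial.eval (Sum.elim (Sum.elim u v) a)) (MvPolynomial.ringHom_ext (fun c => ?_) fun s => ?_) P
          · simp [RingHom.comp_apply, MvPolynomial.eval₂_C]
          · rcases s with (s | s) | s <;> simp [MvPolynomial.eval₂_C]
        refine mk i hi'' p ?_ fun ev a ev'' hb hb'' hor => ?_
        · rw [hw, hp, ← hevx]; exact hP0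
        · rw [hp]
          have := hP ev ev'' (ofCoeff a) hb hb'' (hor.symm.imp (fun hne h => hne (by rw [h])) id)
          rwa [funext (coeffL_ofCoeff a)] at this)
      -- back to one point
      let p : MvPolynomial (Fin (r + 1)) (MvPolynomial (Expo r d) k) := MvPolynomial.eval₂Hom
        (MvPolynomial.C.comp (MvPolynomial.C : k →+* MvPolynomial (Expo r d) k))
        (Sum.elim MvPolynomial.X fun e => MvPolynomial.C (MvPolynomial.X e)) D'
      have hp : ∀ (u : Fin (r + 1) → k) (a : Expo r d → k), evalAt a u p = MvPolynomial.eval (Sum.elim u a) D' :=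
        fun u a => by
          refine DFunLike.congr_fun (f := (MvPolynomial.eval u).comp ((MvPolynomial.map
            (MvPolynomial.eval a)).comp (MvPolynomial.eval₂Hom _ _)))
            (g := MvPolynomial.eval (Sum.elim u a)) (MvPolynomial.ringHom_ext (fun c => ?_) fun s => ?_) D'
          · simp [RingHom.comp_apply, MvPolynomial.eval₂_C]
          · rcases s with s | s <;> simp [MvPolynomial.eval₂_C]
      refine ⟨p, by rw [hp]; exact hD'0, fun ev a hW => ?_⟩
      rw [hp]
      by_contra hne
      obtain ⟨hb, hdeg | ⟨i', ev', hb', hne'⟩⟩ := hW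
      · exact one_ne_zero ((vec_self ι i ev).symm.trans
          (congrFun (hD' _ (vec ι i ev) hne fun Q hQ => hQ.2 ev a i ev hb hb (Or.inl hdeg)) i))
      · exact one_ne_zero ((vec_self ι i' ev').symm.trans
          (congrFun (hD' _ (vec ι i' ev') hne fun Q hQ => hQ.2 ev a i' ev' hb hb' (Or.inr hne')) i')))
  refine ⟨D, hD0, fun H hH i ev hW => hD _ hH i ev ?_⟩
  rwa [ofCoeff_coeffL]

end

end Groth.Agent.LefPenLib
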