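import Groth.Agent.LefPenLib.PairEqs

/-!
# Two double zeros near a nondegenerate one
-/

set_option backward.isDefEq.respectTransparency false
set_option backward.isDefEq.respectTransparency.types false

universe u

open MvPolynomial

namespace Groth.Agent.LefPenLib

noncomputable section

variable {k : Type u} [Field k] [IsAlgClosed k] {B : Type u} [CommRing B] [Algebra k B] {m : ℕ}

/-- Double zeros which are degenerate or come in pairs are separated from a nondegenerate one. -/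
theorem exists_pair_sep [Algebra.FormallySmooth k B] (b : Module.Basis (Fin m) B Ω[B⁄k]) {N : ℕ}
    (x : Fin (N + 1) → B) (hx : Function.Surjective (aeval x : MvPolynomial (Fin (N + 1)) k →ₐ[k] B))
    {E : Type} [Fintype E] (G : E → B) (ev0 : B →ₐ[k] k) (a0 : E → k)
    (hz : DblZero ev0 (∑ e, a0 e • G e)) (hnd : ¬ DegPt ev0 (∑ e, a0 e • G e)) :
    ∃ π : MvPolynomial ((Fin (N + 1) ⊕ Fin (N + 1)) ⊕ E) k,
      eval (Sum.elim (Sum.elim (fun i => ev0 (x i)) (fun i => ev0 (x i))) a0) π ≠ 0 ∧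
      ∀ (ev ev' : B →ₐ[k] k) (a : E → k), DblZero ev (∑ e, a e • G e) → DblZero ev' (∑ e, a e • G e) →
        (ev ≠ ev' ∨ DegPt ev (∑ e, a e • G e)) →
        eval (Sum.elim (Sum.elim (fun i => ev (x i)) (fun i => ev' (x i))) a) π = 0 := by
  classical
  obtain ⟨τ, hτ⟩ := exists_isTaylor (k := k) b
  obtain ⟨c, g, K, R, hg0, -, hkill, hid⟩ := exists_relations x b hx
  have hlift : ∀ y : B, ∃ p : MvPolynomial (Fin (N + 1)) k, aeval x p = y := hx
  have heC : ∀ (f : MvPolynomial ((Fin (N + 1) ⊕ Fin (N + 1)) ⊕ E) k →+* k) (v : Fin (N + 1) → k) q,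
      eval₂ f v (C q) = f q := fun f v q => eval₂_C f v q
  choose Pg hPg using fun e => hlift (G e)
  choose Kp hKp using fun i a => hlift (K i a)
  choose Tp hTp using fun i l => hlift (frame x b i l)
  choose QP hQP using fun e => exists_d2 (Pg e)
  choose SP hSP _hSP' using fun e i => exists_d1 (pderiv i (Pg e))
  choose Qg hQg using fun a => exists_d2 (g a)
  choose Sg hSg _hSg' using fun a i => exists_d1 (pderiv i (g a))
  choose D1g hD1g hD1g' using fun a => exists_d1 (g a)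
  -- the system of homogeneous equations in `v = y - x`
  let ρ : (MvPolynomial ((Fin (N + 1)) ⊕ (Fin (N + 1))) k) →ₐ[k] (MvPolynomial (((Fin (N + 1)) ⊕ (Fin (N + 1))) ⊕ E) k) := rename Sum.inl
  let lamP : Fin c → (MvPolynomial (((Fin (N + 1)) ⊕ (Fin (N + 1))) ⊕ E) k) := fun a =>
    ∑ e, X (Sum.inr e) * ρ (rename Sum.inl (∑ i, pderiv i (Pg e) * Kp i a))
  let Qt : (Fin (N + 1)) → (Fin (N + 1)) → (MvPolynomial (((Fin (N + 1)) ⊕ (Fin (N + 1))) ⊕ E) k) := fun i l =>
    ∑ e, X (Sum.inr e) * ρ (QP e i l) - ∑ a, lamP a * ρ (Qg a i l)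
  let St : (Fin (N + 1)) → (Fin (N + 1)) → (MvPolynomial (((Fin (N + 1)) ⊕ (Fin (N + 1))) ⊕ E) k) := fun i l =>
    ∑ e, X (Sum.inr e) * ρ (SP e i l) - ∑ a, lamP a * ρ (Sg a i l)
  let EG : Fin c → MvPolynomial (Fin (N + 1)) (MvPolynomial (((Fin (N + 1)) ⊕ (Fin (N + 1))) ⊕ E) k) := fun a => ∑ i, C (ρ (D1g a i)) * X i
  let EQ : MvPolynomial (Fin (N + 1)) (MvPolynomial (((Fin (N + 1)) ⊕ (Fin (N + 1))) ⊕ E) k) := ∑ i, ∑ l, C (Qt i l) * (X i * X l)
  let EL : Fin m → MvPolynomial (Fin (N + 1)) (MvPolynomial (((Fin (N + 1)) ⊕ (Fin (N + 1))) ⊕ E) k) := fun j => ∑ i, (∑ l, C (St i l) * X l) * C (ρ (rename Sum.inr (Tp i j)))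
  let S : Set (MvPolynomial (Fin (N + 1)) (MvPolynomial (((Fin (N + 1)) ⊕ (Fin (N + 1))) ⊕ E) k)) := Set.range EG ∪ {EQ} ∪ Set.range EL
  have hShom : ∀ P ∈ S, ∃ d : ℕ, P.IsHomogeneous d := by
    rintro P ((⟨a, rfl⟩ | rfl) | ⟨j, rfl⟩)
    · exact ⟨1, IsHomogeneous.sum _ _ _ fun i _ => (isHomogeneous_X (MvPolynomial (((Fin (N + 1)) ⊕ (Fin (N + 1))) ⊕ E) k) i).C_mul _⟩
    · exact ⟨2, IsHomogeneous.sum _ _ _ fun i _ => IsHomogeneous.sum _ _ _ fun l _ =>
        ((isHomogeneous_X (MvPolynomial (((Fin (N + 1)) ⊕ (Fin (N + 1))) ⊕ E) k) i).mul (isHomogeneous_X (MvPolynomial (((Fin (N + 1)) ⊕ (Fin (N + 1))) ⊕ E) k) l)).C_mul _⟩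
    · refine ⟨1, IsHomogeneous.sum _ _ _ fun i _ => ?_⟩
      rw [mul_comm]
      exact (IsHomogeneous.sum _ _ _ fun l _ => (isHomogeneous_X (MvPolynomial (((Fin (N + 1)) ⊕ (Fin (N + 1))) ⊕ E) k) l).C_mul _).C_mul _
  let pt : (B →ₐ[k] k) → (Fin (N + 1)) → k := fun ev i => ev (x i)
  let par : (B →ₐ[k] k) → (B →ₐ[k] k) → (E → k) → (((Fin (N + 1)) ⊕ (Fin (N + 1))) ⊕ E) → k := fun ev ev' a =>
    Sum.elim (Sum.elim (pt ev) (pt ev')) a
  let lam : (B →ₐ[k] k) → (E → k) → Fin c → k := fun ev a t =>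
    ∑ e, a e * eval (pt ev) (∑ i, pderiv i (Pg e) * Kp i t)
  -- the corrected polynomial
  let Pc : (B →ₐ[k] k) → (E → k) → MvPolynomial (Fin (N + 1)) k := fun ev a => ∑ e, a e • Pg e - ∑ t, lam ev a t • g t
  let Qc : (B →ₐ[k] k) → (E → k) → (Fin (N + 1)) → (Fin (N + 1)) → (MvPolynomial ((Fin (N + 1)) ⊕ (Fin (N + 1))) k) := fun ev a => ∑ e, a e • QP e - ∑ t, lam ev a t • Qg t
  let Sc : (B →ₐ[k] k) → (E → k) → (Fin (N + 1)) → (Fin (N + 1)) → (MvPolynomial ((Fin (N + 1)) ⊕ (Fin (N + 1))) k) := fun ev a => ∑ e, a e • SP e - ∑ t, lam ev a t • Sg t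
  have hQc : ∀ ev a, IsD2 (Pc ev a) (Qc ev a) := fun ev a =>
    (IsD2.sum _ _ _ hQP a).sub (IsD2.sum _ _ _ hQg _)
  have hSc : ∀ ev a, IsD1d (Pc ev a) (Sc ev a) := fun ev a =>
    (IsD1d.sum _ _ _ hSP a).sub (IsD1d.sum _ _ _ hSg _)
  have hPc : ∀ ev a, aeval x (Pc ev a) = ∑ e, a e • G e := fun ev a => by simp [Pc, hPg, hg0]
  have hgrad : ∀ ev a, DblZero ev (∑ e, a e • G e) → ∀ i', eval (pt ev) (pderiv i' (Pc ev a)) = 0 := by
    intro ev a hb i'
    let w : (Fin (N + 1)) → k := fun i => eval (pt ev) (pderiv i (∑ e, a e • Pg e))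
    have hw : ∀ l, ∑ i, w i * ev (frame x b i l) = 0 := fun l =>
      hb.sum_frame b (by simp [hPg]) l
    have hlam : ∀ t, lam ev a t = ∑ i, w i * ev (K i t) := fun t => by
      simp only [lam, w, map_sum, map_smul, smul_eval, map_mul, Finset.sum_mul, Finset.mul_sum]
      rw [Finset.sum_comm]
      refine Finset.sum_congr rfl fun i _ => Finset.sum_congr rfl fun e _ => ?_
      rw [← hKp i t, ev_aeval, Derivation.map_smul, smul_eval, mul_assoc]
    calc eval (pt ev) (pderiv i' (Pc ev a))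
        = w i' - ∑ t, lam ev a t * eval (pt ev) (pderiv i' (g t)) := by simp [Pc, w, map_sum]
      _ = ∑ i, w i * ev (if i = i' then (1 : B) else 0) - ∑ t, lam ev a t * eval (pt ev) (pderiv i' (g t)) := by
          simp [apply_ite ev, Finset.sum_ite_eq']
      _ = 0 := by
          have h1 : ∀ i, w i * ev (if i = i' then (1 : B) else 0) =
              (∑ l, w i * ev (frame x b i l) * ev (R l i')) + ∑ t, w i * ev (K i t) * eval (pt ev) (pderiv i' (g t)) :=
            fun i => by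
              rw [hid i i', map_add, map_sum, map_sum, mul_add, Finset.mul_sum, Finset.mul_sum]
              simp only [map_mul, ev_aeval, pt, mul_assoc]
          simp only [h1, Finset.sum_add_distrib]
          rw [Finset.sum_comm, Finset.sum_eq_zero fun l _ => by rw [← Finset.sum_mul, hw l, zero_mul], zero_add,
            Finset.sum_comm]
          simp only [hlam, Finset.sum_mul, sub_self]
  have hlamP : ∀ ev ev' a t, eval (par ev ev' a) (lamP t) = lam ev a t := fun ev ev' a t => by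
    simp only [lamP, lam, map_sum, map_mul, eval_X, par, ρ, eval_rename, Sum.elim_comp_inl, Sum.elim_inr]
  have hρ : ∀ ev ev' a (p : (MvPolynomial ((Fin (N + 1)) ⊕ (Fin (N + 1))) k)), eval (par ev ev' a) (ρ p) = eval (Sum.elim (pt ev) (pt ev')) p := fun ev ev' a p => by
    simp only [ρ, par, eval_rename, Sum.elim_comp_inl]
  have hEG : ∀ ev ev' a v t, evalAt (par ev ev' a) v (EG t) =
      ∑ i, eval (Sum.elim (pt ev) (pt ev')) (D1g t i) * v i := fun ev ev' a v t => by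
    simp [EG, evalAt, hρ]
  have hQv : ∀ ev ev' a i l, eval (par ev ev' a) (Qt i l) = eval (Sum.elim (pt ev) (pt ev')) (Qc ev a i l) :=
    fun ev ev' a i l => by
      simp [Qt, Qc, hρ, hlamP, map_sum, Finset.sum_apply, par]
  have hSv : ∀ ev ev' a i l, eval (par ev ev' a) (St i l) = eval (Sum.elim (pt ev) (pt ev')) (Sc ev a i l) :=
    fun ev ev' a i l => by
      simp [St, Sc, hρ, hlamP, map_sum, Finset.sum_apply, par]
  have hEQ : ∀ ev ev' a v, evalAt (par ev ev' a) v EQ =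
      ∑ i, ∑ l, eval (Sum.elim (pt ev) (pt ev')) (Qc ev a i l) * (v i * v l) := fun ev ev' a v => by
    simp [EQ, evalAt, hQv, map_sum]
  have hEL : ∀ ev ev' a v j, evalAt (par ev ev' a) v (EL j) =
      ∑ i, (∑ l, eval (Sum.elim (pt ev) (pt ev')) (Sc ev a i l) * v l) * ev' (frame x b i j) :=
    fun ev ev' a v j => by
      have h1 : ∀ i, eval (par ev ev' a) (ρ (rename Sum.inr (Tp i j))) = ev' (frame x b i j) := fun i => by
        rw [hρ, eval_rename, Sum.elim_comp_inr, ← hTp, ev_aeval]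
      simp [EL, evalAt, hSv, map_sum, h1]
  obtain ⟨D, hD0, hD⟩ := exists_elim S hShom (par ev0 ev0 a0) (by
    intro v hv
    by_contra! hall
    obtain ⟨u, hu⟩ := exists_tangent hx b ev0 v fun p hp => by
      refine Eq.trans ?_ (hkill v ev0 (fun t => ?_) p hp)
      · exact Finset.sum_congr rfl fun i _ => by rw [ev_aeval]
      · rw [← hall (EG t) (Or.inl (Or.inl ⟨t, rfl⟩)), hEG]
        exact Finset.sum_congr rfl fun i _ => by rw [hD1g', ev_aeval]
    obtain rfl : v = fun i => ∑ l, ev0 (frame x b i l) * u l := funext hu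
    obtain ⟨hQ, hL⟩ := diag_eqs hτ (hPc ev0 a0) (hQc ev0 a0) (hSc ev0 a0) ev0 (hgrad ev0 a0 hz) u
    refine hnd ((degPt_iff hτ ev0 _ hz).2 ⟨u, fun h => hv ?_, ?_, fun w' => ?_⟩)
    · funext i; simp [h]
    · rw [← hQ, ← hall EQ (Or.inl (Or.inr rfl)), hEQ]
    · have hj : ∀ j, polarAt ev0.toRingHom u (Pi.single j 1) (τ (∑ e, a0 e • G e)) = 0 := fun j => by
        rw [← hL j, ← hall (EL j) (Or.inr ⟨j, rfl⟩), hEL]
      simp only [polarAt, Pi.single_apply, ite_mul, one_mul, zero_mul, Finset.sum_ite_eq', Finset.mem_univ, if_true] at hj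
      exact Finset.sum_eq_zero fun l _ => by rw [hj l, mul_zero])
  refine ⟨D, hD0, fun ev ev' a hb hb' hor => ?_⟩
  by_contra hne
  by_cases heq : ev = ev'
  · subst heq
    obtain ⟨u, hu, hq, hpol⟩ := (degPt_iff hτ ev _ hb).1 (hor.resolve_left fun h => h rfl)
    obtain ⟨hQ, hL⟩ := diag_eqs hτ (hPc ev a) (hQc ev a) (hSc ev a) ev (hgrad ev a hb) u
    have hv := hD (par ev ev a) (fun i => ∑ l, ev (frame x b i l) * u l) hne (by
      rintro P ((⟨t, rfl⟩ | rfl) | ⟨j, rfl⟩)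
      · rw [hEG]
        simp only [hD1g', Finset.mul_sum]
        rw [Finset.sum_comm]
        refine Finset.sum_eq_zero fun l _ => ?_
        have := congrArg ev (repr_D_aeval x b (g t) l)
        rw [hg0, map_zero, map_zero, Finsupp.zero_apply, map_zero, map_sum] at this
        simp only [map_mul, ev_aeval] at this
        simp only [pt, ← mul_assoc, ← Finset.sum_mul, ← this, zero_mul]
      · rw [hEQ, hQ]; exact hq
      · rw [hEL, hL]; exact hpol _)
    obtain ⟨y, hy⟩ := exists_sum_ne_zero (b := b) ev hu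
    obtain ⟨p, rfl⟩ := hx y
    refine hy ?_
    simp only [repr_D_aeval, map_sum, map_mul, Finset.sum_mul]
    rw [Finset.sum_comm]
    refine Finset.sum_eq_zero fun i _ => ?_
    simp only [mul_assoc, ← Finset.mul_sum]
    rw [show ∑ l, ev (frame x b i l) * u l = 0 from congrFun hv i, mul_zero]
  · refine heq (AlgHom.ext fun y => ?_)
    obtain ⟨p, rfl⟩ := hx y
    obtain ⟨hQ, hL⟩ := pair_eqs (b := b) (hPc ev a) (hQc ev a) (hSc ev a) ev ev' hb hb' (hgrad ev a hb)
    have hv := hD (par ev ev' a) (fun i => ev' (x i) - ev (x i)) hne (by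
      rintro P ((⟨t, rfl⟩ | rfl) | ⟨j, rfl⟩)
      · rw [hEG]
        have h1 := aeval_d1 (hD1g t) (pt ev) (pt ev')
        simp only [aeval_eq_eval] at h1
        simp only [pt] at h1 ⊢
        rw [← h1, ← ev_aeval, ← ev_aeval, hg0, map_zero, map_zero, sub_zero]
      · rw [hEQ]; exact hQ
      · rw [hEL]; exact hL j)
    rw [ev_aeval, ev_aeval]
    congr 2
    funext i
    exact (sub_eq_zero.1 (congrFun hv i)).symm

end

end Groth.Agent.LefPenLib
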