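import Groth.Agent.LefPenLib.LocalData
import Groth.Agent.LefPenLib.PairAlg

/-!
# Pairs of tangencies in one chart
-/

set_option backward.isDefEq.respectTransparency false
set_option backward.isDefEq.respectTransparency.types false
set_option linter.unusedSectionVars false
set_option linter.style.haveILetI false

universe u

open CategoryTheory AlgebraicGeometry

namespace Groth.Agent.LefPenLib

noncomputable section

variable {r : ℕ} {k : Type u} [Field k] {X : Scheme.{u}} (ι : X ⟶ CohB1.ProjSpace r k)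

attribute [local instance] wAlgebra

/-- Values on a basic open of a chart are rational functions of the coordinates. -/
theorem exists_num [IsClosedImmersion ι] (j : Fin (r + 1)) (F : Γ(X, wOpen ι j)) (y : Localization.Away F) :
    ∃ (q : MvPolynomial (Fin (r + 1)) k) (K : ℕ), ∀ evB : Localization.Away F →ₐ[k] k,
      evB y * (evB.comp (IsScalarTower.toAlgHom k Γ(X, wOpen ι j) (Localization.Away F)) F) ^ K =
        MvPolynomial.eval (vec ι j (evB.comp (IsScalarTower.toAlgHom k Γ(X, wOpen ι j) (Localization.Away F)))) q := by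
  obtain ⟨K, a, ha⟩ := IsLocalization.Away.surj F y
  obtain ⟨q, rfl⟩ := pullPoly_surjective ι j a
  refine ⟨q, K, fun evB => ?_⟩
  rw [← eval_pullPoly, AlgHom.comp_apply, AlgHom.comp_apply, IsScalarTower.coe_toAlgHom', ← ha, map_mul, map_pow]

variable [IsAlgClosed k] [IsClosedImmersion ι] [IrreducibleSpace X] {n : ℕ}
  [hsmo : SmoothOfRelativeDimension n (ι ≫ CohB1.ProjSpace.toSpec r k)] {d : ℕ}

include hsmo

/-- Near a nondegenerate tangency there are neither degenerate nor double tangencies. -/
theorem exists_pair_poly (j : Fin (r + 1)) (ev0 : Γ(X, wOpen ι j) →ₐ[k] k) (H0 : LefPen.Form r k d)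
    (hb : Bad ι j ev0 H0) (hnd : ¬ DegPt ev0 (pullForm ι j H0)) :
    ∃ P : MvPolynomial ((Fin (r + 1) ⊕ Fin (r + 1)) ⊕ Expo r d) k,
      MvPolynomial.eval (Sum.elim (Sum.elim (vec ι j ev0) (vec ι j ev0)) fun e => coeffL e H0) P ≠ 0 ∧
      ∀ ev ev' (H : LefPen.Form r k d), Bad ι j ev H → Bad ι j ev' H → (ev ≠ ev' ∨ DegPt ev (pullForm ι j H)) →
        MvPolynomial.eval (Sum.elim (Sum.elim (vec ι j ev) (vec ι j ev')) fun e => coeffL e H) P = 0 := by
  classical
  obtain ⟨F, hF, hstd, evB0, hevB0⟩ := exists_localData (n := n) ι j ev0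
  haveI := hstd
  haveI : Algebra.IsStandardSmooth k (Localization.Away F) := Algebra.IsStandardSmoothOfRelativeDimension.isStandardSmooth n
  haveI : Nontrivial (Localization.Away F) := evB0.toRingHom.domain_nontrivial
  let b : Module.Basis (Fin n) (Localization.Away F) Ω[(Localization.Away F)⁄k] := Module.finBasisOfFinrankEq (Localization.Away F) _ (BertiniAff.finrank_kaehler n)
  obtain ⟨hsm, hft⟩ := wOpen_smooth (n := n) ι j
  haveI := hft
  haveI : Algebra.FiniteType k (Localization.Away F) := Algebra.FiniteType.trans (S := Γ(X, wOpen ι j)) inferInstance inferInstance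
  obtain ⟨N, f, hf⟩ := Algebra.FiniteType.iff_quotient_mvPolynomial''.1 ‹Algebra.FiniteType k (Localization.Away F)›
  let x : Fin (N + 1) → (Localization.Away F) := Fin.cons 0 fun i => f (MvPolynomial.X i)
  have hx : Function.Surjective (MvPolynomial.aeval x : MvPolynomial (Fin (N + 1)) k →ₐ[k] (Localization.Away F)) := by
    intro y
    obtain ⟨p, rfl⟩ := hf y
    refine ⟨MvPolynomial.rename Fin.succ p, ?_⟩
    rw [MvPolynomial.aeval_rename]
    exact DFunLike.congr_fun (MvPolynomial.algHom_ext (f := MvPolynomial.aeval (x ∘ Fin.succ)) (g := f) fun i => by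
      rw [MvPolynomial.aeval_X]; simp [x]) p
  let G : Expo r d → (Localization.Away F) := fun e => algebraMap Γ(X, wOpen ι j) (Localization.Away F) (pullPoly ι j (MvPolynomial.monomial e.1 1))
  have hsum : ∀ H : LefPen.Form r k d, ∑ e, coeffL e H • G e = algebraMap Γ(X, wOpen ι j) (Localization.Away F) (pullForm ι j H) := fun H => by
    rw [pullForm_eq_sum, map_sum]
    exact Finset.sum_congr rfl fun e _ => (map_smul (IsScalarTower.toAlgHom k Γ(X, wOpen ι j) (Localization.Away F)) _ _).symm
  have hbadB : ∀ (evB : (Localization.Away F) →ₐ[k] k) (H : LefPen.Form r k d),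
      DblZero evB (∑ e, coeffL e H • G e) ↔ Bad ι j (evB.comp (IsScalarTower.toAlgHom k Γ(X, wOpen ι j) (Localization.Away F))) H := fun evB H => by
    rw [hsum]; exact dblZero_localization F evB _
  have hdegB : ∀ (evB : (Localization.Away F) →ₐ[k] k) (H : LefPen.Form r k d),
      DegPt evB (∑ e, coeffL e H • G e) ↔ DegPt (evB.comp (IsScalarTower.toAlgHom k Γ(X, wOpen ι j) (Localization.Away F))) (pullForm ι j H) :=
    fun evB H => by
      rw [hsum]
      exact ((isTestEquiv_localization (A := Γ(X, wOpen ι j)) (Submonoid.powers F) evB).degPt (pullForm ι j H)).symm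
  obtain ⟨π, hπ0, hπ⟩ := exists_pair_sep b x hx G evB0 (fun e => coeffL e H0)
    ((hbadB evB0 H0).2 (by rw [hevB0]; exact hb)) (fun h => hnd (by rw [← hevB0]; exact (hdegB evB0 H0).1 h))
  obtain ⟨qF, hqF⟩ := pullPoly_surjective ι j F
  let τ := (Fin (r + 1) ⊕ Fin (r + 1)) ⊕ Expo r d
  let W : ((Localization.Away F) →ₐ[k] k) → ((Localization.Away F) →ₐ[k] k) → (Expo r d → k) → (Fin (r + 1) ⊕ Fin (r + 1)) ⊕ Expo r d → k := fun e e' a =>
    Sum.elim (Sum.elim (vec ι j (e.comp (IsScalarTower.toAlgHom k Γ(X, wOpen ι j) (Localization.Away F)))) (vec ι j (e'.comp (IsScalarTower.toAlgHom k Γ(X, wOpen ι j) (Localization.Away F))))) a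
  let fF : ((Localization.Away F) →ₐ[k] k) → k := fun e => e.comp (IsScalarTower.toAlgHom k Γ(X, wOpen ι j) (Localization.Away F)) F
  have hnum : ∀ p : MvPolynomial ((Fin (N + 1) ⊕ Fin (N + 1)) ⊕ Expo r d) k,
      ∃ (P : MvPolynomial ((Fin (r + 1) ⊕ Fin (r + 1)) ⊕ Expo r d) k) (K : ℕ), ∀ e e' a,
        MvPolynomial.eval (W e e' a) P = (fF e * fF e') ^ K *
          MvPolynomial.eval (Sum.elim (Sum.elim (fun i => e (x i)) (fun i => e' (x i))) a) p := by
    have hFF : ∀ e e' a, MvPolynomial.eval (W e e' a)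
        (MvPolynomial.rename (Sum.inl ∘ Sum.inl) qF * MvPolynomial.rename (Sum.inl ∘ Sum.inr) qF) = fF e * fF e' :=
      fun e e' a => by
        simp only [map_mul, MvPolynomial.eval_rename, W, ← Function.comp_assoc, Sum.elim_comp_inl, Sum.elim_comp_inr,
          ← eval_pullPoly, hqF, fF]
    intro p
    induction p using MvPolynomial.induction_on with
    | C c => exact ⟨MvPolynomial.C c, 0, fun e e' a => by simp⟩
    | add p q hp hq =>
      obtain ⟨P, K, hP⟩ := hp
      obtain ⟨Q, L, hQ⟩ := hq
      let FF : MvPolynomial ((Fin (r + 1) ⊕ Fin (r + 1)) ⊕ Expo r d) k := MvPolynomial.rename (Sum.inl ∘ Sum.inl) qF * MvPolynomial.rename (Sum.inl ∘ Sum.inr) qF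
      refine ⟨FF ^ L * P + FF ^ K * Q, K + L, fun e e' a => ?_⟩
      rw [map_add, map_mul, map_mul, map_pow, map_pow, show MvPolynomial.eval (W e e' a) FF = fF e * fF e' from hFF e e' a,
        hP, hQ, map_add]
      ring
    | mul_X p s hp =>
      obtain ⟨P, K, hP⟩ := hp
      rcases s with (s | s) | s
      · obtain ⟨q, L, hq⟩ := exists_num ι j F (x s)
        refine ⟨P * (MvPolynomial.rename (Sum.inl ∘ Sum.inl) q *
          MvPolynomial.rename (Sum.inl ∘ Sum.inr) qF ^ L), K + L, fun e e' a => ?_⟩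
        simp only [map_mul, map_pow, MvPolynomial.eval_rename, W, ← Function.comp_assoc, Sum.elim_comp_inl,
          Sum.elim_comp_inr, MvPolynomial.eval_X, Sum.elim_inl]
        have h1 := hP e e' a
        simp only [W] at h1
        rw [h1, ← hq e, ← eval_pullPoly, hqF]
        simp only [fF]
        ring
      · obtain ⟨q, L, hq⟩ := exists_num ι j F (x s)
        refine ⟨P * (MvPolynomial.rename (Sum.inl ∘ Sum.inr) q *
          MvPolynomial.rename (Sum.inl ∘ Sum.inl) qF ^ L), K + L, fun e e' a => ?_⟩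
        simp only [map_mul, map_pow, MvPolynomial.eval_rename, W, ← Function.comp_assoc, Sum.elim_comp_inl,
          Sum.elim_comp_inr, MvPolynomial.eval_X, Sum.elim_inl, Sum.elim_inr]
        have h1 := hP e e' a
        simp only [W] at h1
        rw [h1, ← hq e', ← eval_pullPoly, hqF]
        simp only [fF]
        ring
      · refine ⟨P * MvPolynomial.X (Sum.inr s), K, fun e e' a => ?_⟩
        simp only [map_mul, hP, MvPolynomial.eval_X, W, Sum.elim_inr]
        ring
  obtain ⟨P, K, hP⟩ := hnum π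
  refine ⟨P * (MvPolynomial.rename (Sum.inl ∘ Sum.inl) qF * MvPolynomial.rename (Sum.inl ∘ Sum.inr) qF), ?_,
    fun ev ev' H hbev hbev' hor => ?_⟩
  · have h1 := hP evB0 evB0 fun e => coeffL e H0
    simp only [W, hevB0] at h1
    simp only [map_mul, MvPolynomial.eval_rename, ← Function.comp_assoc, Sum.elim_comp_inl, Sum.elim_comp_inr,
      ← eval_pullPoly, hqF, h1, fF, hevB0]
    exact mul_ne_zero (mul_ne_zero (pow_ne_zero _ (mul_ne_zero hF hF)) hπ0) (mul_ne_zero hF hF)
  · simp only [map_mul, MvPolynomial.eval_rename, ← Function.comp_assoc, Sum.elim_comp_inl, Sum.elim_comp_inr,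
      ← eval_pullPoly, hqF]
    by_cases h1 : ev F = 0
    · rw [h1]; ring
    by_cases h2 : ev' F = 0
    · rw [h2]; ring
    obtain ⟨e, he⟩ := exists_extend ev h1
    obtain ⟨e', he'⟩ := exists_extend ev' h2
    have h3 := hP e e' fun t => coeffL t H
    simp only [W, he, he'] at h3
    rw [h3, hπ e e' _ ((hbadB e H).2 (by rw [he]; exact hbev)) ((hbadB e' H).2 (by rw [he']; exact hbev'))
      (hor.imp (fun hne h => hne (by rw [← he, ← he', h])) fun h => (hdegB e H).2 (by rw [he]; exact h)),
      mul_zero, zero_mul]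

end

end Groth.Agent.LefPenLib
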