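import Groth.Agent.LefPenLib.Frame
import Groth.Agent.LefPenLib.Elim

/-!
# The quadratic system attached to a double zero
-/

set_option backward.isDefEq.respectTransparency false
set_option backward.isDefEq.respectTransparency.types false
set_option linter.unusedSectionVars false

universe u

open MvPolynomial

namespace Groth.Agent.LefPenLib

noncomputable section

variable {k : Type u} [Field k] {B : Type u} [CommRing B] [Algebra k B] {m : ℕ} {σ : Type} [Fintype σ]
  [DecidableEq σ] {x : σ → B} {b : Module.Basis (Fin m) B Ω[B⁄k]}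

/-- The second order identity. -/
def IsD2 (P : MvPolynomial σ k) (Q : σ → σ → MvPolynomial (σ ⊕ σ) k) : Prop :=
  rename Sum.inr P - rename Sum.inl P - ∑ i, rename Sum.inl (pderiv i P) * (X (Sum.inr i) - X (Sum.inl i)) =
    ∑ i, ∑ l, Q i l * ((X (Sum.inr i) - X (Sum.inl i)) * (X (Sum.inr l) - X (Sum.inl l)))

/-- The first order identities of the partial derivatives. -/
def IsD1d (P : MvPolynomial σ k) (S : σ → σ → MvPolynomial (σ ⊕ σ) k) : Prop :=
  ∀ i, rename Sum.inr (pderiv i P) - rename Sum.inl (pderiv i P) =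
    ∑ l, S i l * (X (Sum.inr l) - X (Sum.inl l))

theorem IsD2.zero : IsD2 (0 : MvPolynomial σ k) 0 := by simp [IsD2]

theorem IsD2.add {P P' : MvPolynomial σ k} {Q Q' : σ → σ → MvPolynomial (σ ⊕ σ) k} (h : IsD2 P Q) (h' : IsD2 P' Q') :
    IsD2 (P + P') (Q + Q') := by
  unfold IsD2 at *
  simp only [map_add, Pi.add_apply, add_mul, Finset.sum_add_distrib, ← h, ← h']
  ring

theorem IsD2.smul {P : MvPolynomial σ k} {Q : σ → σ → MvPolynomial (σ ⊕ σ) k} (h : IsD2 P Q) (s : k) :
    IsD2 (s • P) (s • Q) := by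
  unfold IsD2 at *
  simp only [map_smul, Derivation.map_smul, Pi.smul_apply, smul_mul_assoc, ← Finset.smul_sum, ← h, ← smul_sub]

theorem IsD2.sum {E : Type} (s : Finset E) (P : E → MvPolynomial σ k) (Q : E → σ → σ → MvPolynomial (σ ⊕ σ) k)
    (h : ∀ e, IsD2 (P e) (Q e)) (a : E → k) : IsD2 (∑ e ∈ s, a e • P e) (∑ e ∈ s, a e • Q e) := by
  classical
  induction s using Finset.induction_on with
  | empty => simpa using IsD2.zero
  | insert e t he ih => rw [Finset.sum_insert he, Finset.sum_insert he]; exact ((h e).smul _).add ih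

theorem IsD1d.sum {E : Type} (s : Finset E) (P : E → MvPolynomial σ k) (S : E → σ → σ → MvPolynomial (σ ⊕ σ) k)
    (h : ∀ e, IsD1d (P e) (S e)) (a : E → k) : IsD1d (∑ e ∈ s, a e • P e) (∑ e ∈ s, a e • S e) := fun i => by
  simp only [map_sum, map_smul, Derivation.map_smul, Finset.sum_apply, Pi.smul_apply, ← Finset.sum_sub_distrib,
    ← smul_sub, Finset.sum_mul, smul_mul_assoc]
  rw [Finset.sum_comm]
  exact Finset.sum_congr rfl fun e _ => by rw [← Finset.smul_sum, h e i]

theorem IsD1d.sub {P P' : MvPolynomial σ k} {S S' : σ → σ → MvPolynomial (σ ⊕ σ) k} (h : IsD1d P S) (h' : IsD1d P' S') :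
    IsD1d (P - P') (S - S') := fun i => by
  simp only [map_sub, Pi.sub_apply, sub_mul, Finset.sum_sub_distrib, ← h i, ← h' i]
  ring

theorem IsD2.sub {P P' : MvPolynomial σ k} {Q Q' : σ → σ → MvPolynomial (σ ⊕ σ) k} (h : IsD2 P Q) (h' : IsD2 P' Q') :
    IsD2 (P - P') (Q - Q') := by
  have := h.add (h'.smul (-1))
  simpa [sub_eq_add_neg] using this

theorem aeval_map_apply {R : Type u} [CommRing R] [Algebra k R] (φ : B →ₐ[k] R) (p : MvPolynomial σ k) :
    aeval (fun i => φ (x i)) p = φ (aeval x p) :=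
  (DFunLike.congr_fun (comp_aeval x φ) p).symm

theorem ev_aeval (ev : B →ₐ[k] k) (p : MvPolynomial σ k) : ev (aeval x p) = eval (fun i => ev (x i)) p :=
  hom_aeval ev x _ (fun _ => rfl) p

theorem DblZero.sum_frame {ev : B →ₐ[k] k} {h : B} (hb : DblZero ev h) (b : Module.Basis (Fin m) B Ω[B⁄k])
    {P : MvPolynomial σ k} (hP : aeval x P = h) (l : Fin m) :
    ∑ i, eval (fun i => ev (x i)) (pderiv i P) * ev (frame x b i l) = 0 := by
  have := ((dblZero_iff b ev _).1 hb).2 l
  rw [← hP, repr_D_aeval, map_sum] at this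
  rw [← this]
  exact Finset.sum_congr rfl fun i _ => by rw [map_mul, ev_aeval]

/-- Two double zeros give a solution of the system. -/
theorem pair_eqs {h : B} {P : MvPolynomial σ k} {Q S : σ → σ → MvPolynomial (σ ⊕ σ) k} (hP : aeval x P = h)
    (hQ : IsD2 P Q) (hS : IsD1d P S) (ev ev' : B →ₐ[k] k) (hb : DblZero ev h) (hb' : DblZero ev' h)
    (hgrad : ∀ i, eval (fun i => ev (x i)) (pderiv i P) = 0) :
    (∑ i, ∑ l, eval (Sum.elim (fun i => ev (x i)) fun i => ev' (x i)) (Q i l) *
      ((ev' (x i) - ev (x i)) * (ev' (x l) - ev (x l))) = 0) ∧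
    ∀ j, ∑ i, (∑ l, eval (Sum.elim (fun i => ev (x i)) fun i => ev' (x i)) (S i l) * (ev' (x l) - ev (x l))) *
      ev' (frame x b i j) = 0 := by
  constructor
  · have h1 := aeval_d2 hQ (fun i => ev (x i)) fun i => ev' (x i)
    simp only [aeval_eq_eval, hgrad, zero_mul, Finset.sum_const_zero, sub_zero] at h1
    rw [← h1, ← ev_aeval, ← ev_aeval, hP, hb'.eval_eq_zero, hb.eval_eq_zero, sub_zero]
  · intro j
    rw [← hb'.sum_frame b hP j]
    refine Finset.sum_congr rfl fun i _ => ?_
    have h1 := aeval_d1 (hS i) (fun i => ev (x i)) fun i => ev' (x i)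
    simp only [aeval_eq_eval, hgrad, sub_zero] at h1
    rw [h1]

/-- The system at a double zero in the directions of the frame is the quadratic part. -/
theorem diag_eqs {τ : B → MvPolynomial (Fin m) B} (hτ : IsTaylor b τ) {h : B} {P : MvPolynomial σ k}
    {Q S : σ → σ → MvPolynomial (σ ⊕ σ) k} (hP : aeval x P = h) (hQ : IsD2 P Q) (hS : IsD1d P S)
    (ev : B →ₐ[k] k) (hgrad : ∀ i, eval (fun i => ev (x i)) (pderiv i P) = 0) (u : Fin m → k) :
    (∑ i, ∑ l, eval (Sum.elim (fun i => ev (x i)) fun i => ev (x i)) (Q i l) *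
      ((∑ s, ev (frame x b i s) * u s) * (∑ s, ev (frame x b l s) * u s))) = partAt ev.toRingHom 2 u (τ h) ∧
    ∀ j, ∑ i, (∑ l, eval (Sum.elim (fun i => ev (x i)) fun i => ev (x i)) (S i l) * ∑ s, ev (frame x b l s) * u s) *
      ev (frame x b i j) = polarAt ev.toRingHom u (Pi.single j 1) (τ h) := by
  have hTev : ∀ (u' : Fin m → k) i, partAt ev.toRingHom 1 u' (τ (x i)) = ∑ s, ev (frame x b i s) * u' s := fun u' i =>
    hτ.part1 _ u' _
  constructor
  · obtain ⟨ψ, hψ⟩ := hτ.sub3 ev u
    have hy : ∀ i, (ψ (x i)).c0 = ev (x i) := fun i => by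
      rw [hψ, subT3_apply]; exact hτ.part0' _ u _
    have hy1 : ∀ i, (ψ (x i)).c1 = ∑ s, ev (frame x b i s) * u s := fun i => by
      rw [hψ, subT3_apply]; exact hTev u i
    have h1 := aeval_T3_c2 hQ (fun i => ev (x i)) (fun i => ψ (x i)) hy
    rw [aeval_map_apply ψ, hP,
      hψ, subT3_apply] at h1
    simp only [hgrad, zero_mul, Finset.sum_const_zero, zero_add, hy1] at h1
    exact h1.symm
  · intro j
    obtain ⟨Φ, hΦ⟩ := hτ.subD ev u (Pi.single j 1)
    have hy : ∀ i, (Φ (x i)).fst.fst = ev (x i) := fun i => by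
      rw [hΦ, subDual_apply]; simpa using hτ.part0' ev.toRingHom u (x i)
    have hy1 : ∀ i, (Φ (x i)).fst.snd = ∑ s, ev (frame x b i s) * u s := fun i => by
      rw [hΦ, subDual_apply]; simpa using hTev u i
    have hy2 : ∀ i, (Φ (x i)).snd.fst = ev (frame x b i j) := fun i => by
      rw [hΦ, subDual_apply]; simpa [Pi.single_apply] using hTev (Pi.single j 1) i
    have h1 := aeval_dual_snd_snd hQ hS (fun i => ev (x i)) (fun i => Φ (x i)) hy
    rw [aeval_map_apply (R := DualNumber (DualNumber k)) Φ, hP,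
      hΦ, subDual_apply] at h1
    simp only [hgrad, zero_mul, Finset.sum_const_zero, zero_add, hy1, hy2] at h1
    simp only [TrivSqZeroExt.snd_add, TrivSqZeroExt.snd_inl, TrivSqZeroExt.snd_inr, zero_add] at h1
    rw [h1]
    exact Finset.sum_congr rfl fun i _ => Finset.sum_mul _ _ _

/-- A vector killed by the gradients of the relations is tangent. -/
theorem exists_tangent (hx : Function.Surjective (aeval x : MvPolynomial σ k →ₐ[k] B))
    (b : Module.Basis (Fin m) B Ω[B⁄k]) (ev : B →ₐ[k] k) (v : σ → k)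
    (hv : ∀ p : MvPolynomial σ k, aeval x p = 0 → ∑ i, eval (fun i => ev (x i)) (pderiv i p) * v i = 0) :
    ∃ u : Fin m → k, ∀ i, v i = ∑ l, ev (frame x b i l) * u l := by
  let inv := Function.surjInv hx
  have hinv : ∀ y, (aeval x : MvPolynomial σ k →ₐ[k] B) (inv y) = y := Function.surjInv_eq hx
  let δ : B → k := fun y => ∑ i, eval (fun i => ev (x i)) (pderiv i (inv y)) * v i
  have hwd : ∀ p : MvPolynomial σ k, δ (aeval x p) = ∑ i, eval (fun i => ev (x i)) (pderiv i p) * v i := fun p => by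
    have h := hv (inv (aeval x p) - p) (by rw [map_sub, hinv, sub_self])
    simpa [map_sub, sub_mul, sub_eq_zero, δ] using h
  obtain ⟨u, hu⟩ := tangent_eq (b := b) ev
    (homOfDeriv ev δ
      (fun y z => by
        obtain ⟨p, rfl⟩ := hx y; obtain ⟨q, rfl⟩ := hx z
        rw [← map_add, hwd, hwd, hwd, ← Finset.sum_add_distrib]
        exact Finset.sum_congr rfl fun i _ => by rw [map_add, map_add, add_mul])
      (fun y z => by
        obtain ⟨p, rfl⟩ := hx y; obtain ⟨q, rfl⟩ := hx z
        rw [← map_mul, hwd, hwd, hwd, ev_aeval, ev_aeval, Finset.mul_sum, Finset.mul_sum, ← Finset.sum_add_distrib]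
        exact Finset.sum_congr rfl fun i _ => by rw [pderiv_mul, map_add, map_mul, map_mul]; ring)
      (fun s => by rw [← AlgHom.commutes (aeval x : MvPolynomial σ k →ₐ[k] B), hwd]; simp))
    (AlgHom.ext fun y => by simp [homOfDeriv])
  refine ⟨u, fun i => ?_⟩
  have := hu (x i)
  simp only [homOfDeriv, AlgHom.coe_mk, RingHom.coe_mk, MonoidHom.coe_mk, OneHom.coe_mk] at this
  simp only [TrivSqZeroExt.snd_add, TrivSqZeroExt.snd_inl, TrivSqZeroExt.snd_inr, zero_add] at this
  rw [show δ (x i) = v i by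
    have h := hwd (X i)
    rw [aeval_X] at h
    rw [h]
    simp [pderiv_X, Pi.single_apply, apply_ite (eval _)]] at this
  exact this

end

end Groth.Agent.LefPenLib
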