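import Groth.Agent.LefPenLib.Open

/-!
# Parametrisation of the forms tangent to `X` over a chart
-/

set_option backward.isDefEq.respectTransparency false
set_option backward.isDefEq.respectTransparency.types false
set_option linter.unusedSectionVars false
set_option linter.style.haveILetI false

universe u

open CategoryTheory AlgebraicGeometry

namespace Groth.Agent.LefPenLib

noncomputable section

variable {r : ℕ} {k : Type u} [Field k] {X : Scheme.{u}} (ι : X ⟶ CohB1.ProjSpace r k) {d : ℕ}

attribute [local instance] wAlgebra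

section Jet

variable {B : Type u} [CommRing B] [Algebra k B] {m : ℕ} {E : Type} [Fintype E]

/-- Values and partial derivatives of a family of functions. -/
def jetMatrix (b : Module.Basis (Fin m) B Ω[B⁄k]) (g : E → B) : Matrix (Option (Fin m)) E B := fun j e =>
  Option.elim j (g e) (fun l => b.repr (KaehlerDifferential.D k B (g e)) l)

theorem eval_sum (b : Module.Basis (Fin m) B Ω[B⁄k]) (g : E → B) (ev : B →ₐ[k] k) (c : E → k) :
    ev (∑ e, c e • g e) = ((jetMatrix b g).map ev).mulVec c none := by
  simp [Matrix.mulVec, dotProduct, jetMatrix, mul_comm]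

theorem repr_D_sum (b : Module.Basis (Fin m) B Ω[B⁄k]) (g : E → B) (ev : B →ₐ[k] k) (c : E → k) (l : Fin m) :
    ev (b.repr (KaehlerDifferential.D k B (∑ e, c e • g e)) l) = ((jetMatrix b g).map ev).mulVec c (some l) := by
  let L : B →ₗ[k] B := ((b.coord l).restrictScalars k).comp (KaehlerDifferential.D k B).toLinearMap
  show ev (L (∑ e, c e • g e)) = ∑ e, ev (L (g e)) * c e
  rw [map_sum, map_sum]
  exact Finset.sum_congr rfl fun e _ => by rw [map_smul, map_smul, smul_eq_mul, mul_comm]

theorem exists_right_inverse [DecidableEq E] (b : Module.Basis (Fin m) B Ω[B⁄k]) (g : E → B) (e0 : E) (h0 : g e0 = 1)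
    (hspan : ∀ w : Ω[B⁄k], w ∈ Submodule.span B (Set.range fun e => KaehlerDifferential.D k B (g e))) :
    ∃ N : Matrix E (Option (Fin m)) B, jetMatrix b g * N = 1 := by
  refine Matrix.mulVec_surjective_iff_exists_right_inverse.1 fun y => ?_
  obtain ⟨c, hc⟩ := (Submodule.mem_span_range_iff_exists_fun B).1 (hspan (∑ l, y (some l) • b l))
  let δ := y none - ∑ e, g e * c e
  refine ⟨c + Pi.single e0 δ, ?_⟩
  rw [Matrix.mulVec_add, Matrix.mulVec_single]
  funext j
  rcases j with _ | l
  · show ∑ e, g e * c e + g e0 * δ = y none
    rw [h0, one_mul]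
    exact add_sub_cancel _ _
  · show ∑ e, b.repr (KaehlerDifferential.D k B (g e)) l * c e + b.repr (KaehlerDifferential.D k B (g e0)) l * δ =
      y (some l)
    rw [h0, Derivation.map_one_eq_zero, map_zero, Finsupp.zero_apply, zero_mul, add_zero]
    have h := congrArg (b.coord l) hc
    simp only [map_sum, map_smul, Module.Basis.coord_apply, Module.Basis.repr_self, smul_eq_mul] at h
    rw [Finset.sum_eq_single l (fun l' _ hl' => by rw [Finsupp.single_eq_of_ne hl'.symm, mul_zero])
      (fun hl => absurd (Finset.mem_univ l) hl), Finsupp.single_eq_same, mul_one] at h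
    rw [← h]
    exact Finset.sum_congr rfl fun e _ => mul_comm _ _

end Jet

variable {n : ℕ} [hsmo : SmoothOfRelativeDimension n (ι ≫ CohB1.ProjSpace.toSpec r k)]

theorem pullPoly_mul_monomial_self (i : Fin (r + 1)) (l : Fin (r + 1)) (e : ℕ) :
    pullPoly ι i (MvPolynomial.monomial (Finsupp.single l 1 + Finsupp.single i e) 1) =
      pullPoly ι i (MvPolynomial.X l) := by
  rw [show (MvPolynomial.monomial (Finsupp.single l 1 + Finsupp.single i e) (1 : k)) =
      MvPolynomial.X l * MvPolynomial.monomial (Finsupp.single i e) 1 by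
    rw [MvPolynomial.X, MvPolynomial.monomial_mul, one_mul], map_mul, pullPoly_monomial_self, mul_one]

include hsmo in
/-- The forms tangent to `X` at the points of a chart are the values of a family over an integral affine scheme. -/
theorem exists_param [IsAlgClosed k] [IsClosedImmersion ι] [IrreducibleSpace X] (hd : 1 ≤ d) (i : Fin (r + 1))
    (F : Γ(X, wOpen ι i)) [Nontrivial (Localization.Away F)]
    [Algebra.IsStandardSmoothOfRelativeDimension n k (Localization.Away F)] :
    ∃ (R : Type u) (_ : CommRing R) (_ : IsDomain R) (θ : MvPolynomial (Expo r d) k →+* R),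
      (∀ g, θ g = 0 → ∀ ev (H : LefPen.Form r k d), ev F ≠ 0 → Bad ι i ev H →
        MvPolynomial.eval (fun e => coeffL e H) g = 0) ∧
      (∀ g (G : Γ(X, wOpen ι i)), G ≠ 0 → (∀ ev (H : LefPen.Form r k d), ev F ≠ 0 → ev G ≠ 0 → Bad ι i ev H →
        MvPolynomial.eval (fun e => coeffL e H) g = 0) → θ g = 0) := by
  classical
  let A := Γ(X, wOpen ι i)
  let B := Localization.Away F
  have hne : Nontrivial A := (algebraMap A B).domain_nontrivial
  obtain ⟨hsm, hft⟩ := wOpen_smooth (n := n) ι i
  obtain ⟨hdom, -, -, -⟩ := wOpen_domain (n := n) ι i hne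
  haveI := hft
  haveI := hdom
  have hF0 : F ≠ 0 := fun h => by
    have hu : IsUnit (algebraMap A B F) := IsLocalization.Away.algebraMap_isUnit (S := B) F
    exact hu.ne_zero ((congrArg (algebraMap A B) h).trans (map_zero _))
  haveI : IsDomain B :=
    IsLocalization.isDomain_localization (powers_le_nonZeroDivisors_of_noZeroDivisors hF0)
  haveI : Algebra.FiniteType k B := Algebra.FiniteType.trans (S := A) inferInstance inferInstance
  haveI : Algebra.IsStandardSmooth k B := Algebra.IsStandardSmoothOfRelativeDimension.isStandardSmooth n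
  let b : Module.Basis (Fin n) B Ω[B⁄k] := Module.finBasisOfFinrankEq B _ (BertiniAff.finrank_kaehler n)
  let gB : Expo r d → B := fun e => algebraMap A B (pullPoly ι i (MvPolynomial.monomial e.1 1))
  let M : Matrix (Option (Fin n)) (Expo r d) B := jetMatrix b gB
  let e0 : Expo r d := ⟨Finsupp.single i d, Finsupp.degree_single i d⟩
  have hg0 : gB e0 = 1 := by simp only [gB, e0, pullPoly_monomial_self, map_one]
  have hspan : ∀ w : Ω[B⁄k], w ∈ Submodule.span B (Set.range fun e => KaehlerDifferential.D k B (gB e)) := by
    set S := Submodule.span B (Set.range fun e => KaehlerDifferential.D k B (gB e))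
    have h1 : ∀ a : A, KaehlerDifferential.D k B (algebraMap A B a) ∈ S := by
      intro a
      obtain ⟨p, rfl⟩ := pullPoly_surjective ι i a
      induction p using MvPolynomial.induction_on with
      | C c =>
        rw [← MvPolynomial.algebraMap_eq, AlgHom.commutes, ← IsScalarTower.algebraMap_apply, Derivation.map_algebraMap]
        exact S.zero_mem
      | add p q hp hq => rw [map_add, map_add, map_add]; exact S.add_mem hp hq
      | mul_X p l hp =>
        rw [map_mul, map_mul, Derivation.leibniz]
        refine S.add_mem (S.smul_mem _ ?_) (S.smul_mem _ hp)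
        refine Submodule.subset_span ⟨⟨Finsupp.single l 1 + Finsupp.single i (d - 1), ?_⟩, ?_⟩
        · rw [map_add, Finsupp.degree_single, Finsupp.degree_single]; omega
        · simp only [gB, pullPoly_mul_monomial_self]
    intro w
    have hw : w ∈ Submodule.span B (Set.range (KaehlerDifferential.map k k A B ∘ KaehlerDifferential.D k A)) := by
      rw [KaehlerDifferential.span_range_map_derivation_of_isLocalization (R := k) (S := A) (T := B) (Submonoid.powers F)]
      trivial
    refine Submodule.span_le.2 ?_ hw
    rintro _ ⟨a, rfl⟩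
    rw [Function.comp_apply, KaehlerDifferential.map_D]
    exact h1 a
  obtain ⟨N, hN⟩ := exists_right_inverse b gB e0 hg0 hspan
  let P : Matrix (Expo r d) (Expo r d) B := 1 - N * M
  have hMP : M * P = 0 := by rw [Matrix.mul_sub, Matrix.mul_one, ← Matrix.mul_assoc, hN, Matrix.one_mul, sub_self]
  let a : Expo r d → MvPolynomial (Expo r d) B := fun e =>
    ∑ e', MvPolynomial.C (P e e') * MvPolynomial.X e'
  -- second order vanishing at a point in terms of `M`
  have hbad : ∀ (evB : B →ₐ[k] k) (H : LefPen.Form r k d),
      Bad ι i (evB.comp (IsScalarTower.toAlgHom k A B)) H ↔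
        (M.map evB).mulVec (fun e => coeffL e H) = 0 := by
    intro evB H
    rw [Bad, ← dblZero_localization F evB, dblZero_iff b evB]
    have h1 : algebraMap A B (pullForm ι i H) = ∑ e, coeffL e H • gB e := by
      rw [pullForm_eq_sum, map_sum]
      exact Finset.sum_congr rfl fun e _ => map_smul (IsScalarTower.toAlgHom k A B) _ _
    rw [funext_iff, Option.forall]
    have h2 : evB (algebraMap A B (pullForm ι i H)) = (M.map evB).mulVec (fun e => coeffL e H) none := by
      rw [h1]
      exact eval_sum b gB evB (fun e => coeffL e H)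
    have h3 : ∀ l, evB (b.repr (KaehlerDifferential.D k B (algebraMap A B (pullForm ι i H))) l) =
        (M.map evB).mulVec (fun e => coeffL e H) (some l) := fun l => by
      rw [h1]
      exact repr_D_sum b gB evB (fun e => coeffL e H) l
    simp only [← h2, ← h3, Pi.zero_apply]
    exact Iff.rfl
  let θ : MvPolynomial (Expo r d) k →ₐ[k] MvPolynomial (Expo r d) B := MvPolynomial.aeval a
  let χ : (B →ₐ[k] k) → (Expo r d → k) → (MvPolynomial (Expo r d) B →+* k) := fun evB t =>
    (MvPolynomial.eval t).comp (MvPolynomial.map evB.toRingHom)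
  have hχa : ∀ evB t e, χ evB t (a e) = (P.map evB).mulVec t e := by
    intro evB t e
    simp [χ, a, Matrix.mulVec, dotProduct]
  have hχθ : ∀ evB t g, χ evB t (θ g) = MvPolynomial.eval (fun e => χ evB t (a e)) g := by
    intro evB t g
    induction g using MvPolynomial.induction_on with
    | C c => simp [χ, θ]
    | add p q hp hq => rw [map_add, map_add, map_add, hp, hq]
    | mul_X p e hp => rw [map_mul, map_mul, map_mul, hp, MvPolynomial.aeval_X, MvPolynomial.eval_X]
  refine ⟨MvPolynomial (Expo r d) B, inferInstance, inferInstance, θ.toRingHom, fun g hg ev H hF hb => ?_,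
    fun g G hG hg => ?_⟩
  · obtain ⟨evB, hevB⟩ := exists_extend ev hF
    rw [← hevB, hbad] at hb
    have h1 : (fun e => χ evB (fun e => coeffL e H) (a e)) = fun e => coeffL e H := by
      funext e
      rw [hχa, show P.map evB = 1 - N.map evB * M.map evB by
        rw [show P.map evB = evB.toRingHom.mapMatrix (1 - N * M) from rfl, map_sub, map_one]
        congr 1
        exact Matrix.map_mul, Matrix.sub_mulVec, Matrix.one_mulVec, ← Matrix.mulVec_mulVec, hb, Matrix.mulVec_zero]
      simp
    rw [← h1, ← hχθ]
    show χ evB _ (θ.toRingHom g) = 0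
    rw [hg, map_zero]
  · have hGB : algebraMap A B G ≠ 0 := fun h =>
      hG (IsLocalization.injective B (powers_le_nonZeroDivisors_of_noZeroDivisors hF0) (h.trans (map_zero _).symm))
    have hpt : ∀ evB : B →ₐ[k] k, evB (algebraMap A B G) ≠ 0 → ∀ t, χ evB t (θ g) = 0 := by
      intro evB hG' t
      rw [hχθ]
      have h1 : (fun e => χ evB t (a e)) = fun e => coeffL e (ofCoeff ((P.map evB).mulVec t)) :=
        funext fun e => by rw [hχa, coeffL_ofCoeff]
      rw [h1]
      refine hg (evB.comp (IsScalarTower.toAlgHom k A B)) _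
        ((IsLocalization.Away.algebraMap_isUnit (S := B) F).map evB).ne_zero hG' ((hbad evB _).2 ?_)
      rw [funext fun e => coeffL_ofCoeff ((P.map evB).mulVec t) e, Matrix.mulVec_mulVec,
        show M.map evB * P.map evB = 0 by
          rw [← Matrix.map_mul, hMP]
          exact Matrix.map_zero _ (map_zero evB), Matrix.zero_mulVec]
    refine MvPolynomial.ext _ _ fun m => ?_
    rw [MvPolynomial.coeff_zero]
    refine (mul_eq_zero.1 (eq_zero_of_forall_point (k := k) (x := algebraMap A B G * MvPolynomial.coeff m (θ g))
      fun evB => ?_)).resolve_left hGB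
    rw [map_mul]
    by_cases hG' : evB (algebraMap A B G) = 0
    · rw [hG', zero_mul]
    · have h0 : MvPolynomial.map evB.toRingHom (θ g) = 0 := MvPolynomial.funext fun t => by
        rw [map_zero]; exact hpt evB hG' t
      have h2 := congrArg (MvPolynomial.coeff m) h0
      rw [MvPolynomial.coeff_map, MvPolynomial.coeff_zero] at h2
      rw [show evB (MvPolynomial.coeff m (θ g)) = 0 from h2, mul_zero]

end

end Groth.Agent.LefPenLib
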