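import Groth.Agent.LefPenLib.Open

/-!
# Rational points of the charts
-/

set_option backward.isDefEq.respectTransparency false
set_option backward.isDefEq.respectTransparency.types false
set_option linter.unusedSectionVars false
set_option linter.style.haveILetI false

universe u

open CategoryTheory AlgebraicGeometry TopologicalSpace

namespace Groth.Agent.LefPenLib

noncomputable section

variable {k : Type u} [Field k]

theorem isClosed_fromSpec_of_isMaximal {Y : Scheme.{u}} [JacobsonSpace Y] {V : Y.Opens} (hV : IsAffineOpen V)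
    (z : PrimeSpectrum Γ(Y, V)) (hz : z.asIdeal.IsMaximal) : IsClosed ({hV.fromSpec z} : Set Y) := by
  refine isClosed_singleton_of_isLocallyClosed_singleton ?_
  have h1 : IsClosed ({z} : Set (PrimeSpectrum Γ(Y, V))) := (PrimeSpectrum.isClosed_singleton_iff_isMaximal z).2 hz
  have h2 := h1.isLocallyClosed.image hV.fromSpec.isOpenEmbedding.isInducing
    (hV.fromSpec.isOpenEmbedding.isOpen_range.isLocallyClosed)
  rwa [Set.image_singleton] at h2

theorem primeIdealOf_fromSpec {Y : Scheme.{u}} {V : Y.Opens} (hV : IsAffineOpen V) (z : PrimeSpectrum Γ(Y, V))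
    (h : hV.fromSpec z ∈ V) : hV.primeIdealOf ⟨hV.fromSpec z, h⟩ = z :=
  hV.fromSpec.isOpenEmbedding.injective (hV.fromSpec_primeIdealOf ⟨hV.fromSpec z, h⟩)

theorem fromSpec_mem {Y : Scheme.{u}} {V : Y.Opens} (hV : IsAffineOpen V) (z : PrimeSpectrum Γ(Y, V)) :
    hV.fromSpec z ∈ V := hV.opensRange_fromSpec.le ⟨z, rfl⟩

variable {r : ℕ} {X : Scheme.{u}} (ι : X ⟶ CohB1.ProjSpace r k)

attribute [local instance] wAlgebra

/-- The point of `X` given by a point of a chart. -/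
def pointOf [IsAffineHom ι] (j : Fin (r + 1)) (ev : Γ(X, wOpen ι j) →ₐ[k] k) : X :=
  (isAffine_wOpen ι j).fromSpec ⟨RingHom.ker ev, RingHom.ker_isPrime ev⟩

theorem pointOf_mem [IsAffineHom ι] (j : Fin (r + 1)) (ev : Γ(X, wOpen ι j) →ₐ[k] k) :
    pointOf ι j ev ∈ wOpen ι j := fromSpec_mem _ _

theorem ker_inj {A : Type u} [CommRing A] [Algebra k A] {ev ev' : A →ₐ[k] k}
    (h : RingHom.ker ev = RingHom.ker ev') : ev = ev' := AlgHom.ext fun a => by
  have h1 : a - algebraMap k A (ev a) ∈ RingHom.ker ev' := by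
    rw [← h, RingHom.mem_ker, map_sub, AlgHom.commutes, Algebra.algebraMap_self_apply, sub_self]
  rw [RingHom.mem_ker, map_sub, AlgHom.commutes, Algebra.algebraMap_self_apply] at h1
  exact (sub_eq_zero.1 h1).symm

theorem pointOf_inj [IsAffineHom ι] {j : Fin (r + 1)} {ev ev' : Γ(X, wOpen ι j) →ₐ[k] k}
    (h : pointOf ι j ev = pointOf ι j ev') : ev = ev' :=
  ker_inj (congrArg PrimeSpectrum.asIdeal ((isAffine_wOpen ι j).fromSpec.isOpenEmbedding.injective h))

theorem pointOf_eq_of_rel [IsClosedImmersion ι] {j j' : Fin (r + 1)} {ev : Γ(X, wOpen ι j) →ₐ[k] k}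
    {ev' : Γ(X, wOpen ι j') →ₐ[k] k} (hne : vec ι j ev j' ≠ 0)
    (hrel : ∀ l, vec ι j ev l = vec ι j ev j' * vec ι j' ev' l) : pointOf ι j ev = pointOf ι j' ev' := by
  obtain ⟨φ, ψ', hψ, hφ, hform⟩ := exists_change' ι j' j ev (isUnit_iff_ne_zero.2 hne)
  have hφev : φ = ev' := point_ext ι j' fun l => by
    have h1 := hform 1 (lin l)
    rw [pow_one, pullForm_eq, pullForm_eq] at h1
    exact mul_left_cancel₀ hne (h1.symm.trans (hrel l))
  subst hφev
  let V : X.Opens := ι ⁻¹ᵁ (LefPen.chart r k j ⊓ LefPen.chart r k j')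
  have hV : IsAffineOpen V := ((chartAff j).2.inf (chartAff j').2).preimage ι
  let z : PrimeSpectrum Γ(X, V) := ⟨RingHom.ker ψ', RingHom.ker_isPrime ψ'⟩
  have key : ∀ (i : Fin (r + 1)) (hle : V ≤ wOpen ι i) (χ : Γ(X, wOpen ι i) →ₐ[k] k),
      (∀ a, ψ' (X.presheaf.map (homOfLE hle).op a) = χ a) → hV.fromSpec z = pointOf ι i χ := by
    intro i hle χ hχ
    rw [← IsAffineOpen.map_fromSpec (isAffine_wOpen ι i) hV (homOfLE hle).op]
    show (isAffine_wOpen ι i).fromSpec _ = (isAffine_wOpen ι i).fromSpec _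
    refine congrArg _ (PrimeSpectrum.ext (Ideal.ext fun a => ?_))
    show ψ' (X.presheaf.map (homOfLE hle).op a) = 0 ↔ χ a = 0
    rw [hχ]
  rw [← key j (fun _ hx => hx.1) ev hψ, ← key j' (fun _ hx => hx.2) φ hφ]

theorem vec_ne_zero_of_mem [IsAffineHom ι] {j j' : Fin (r + 1)} {ev : Γ(X, wOpen ι j) →ₐ[k] k}
    (h : pointOf ι j ev ∈ wOpen ι j') : vec ι j ev j' ≠ 0 := by
  intro h0
  let y : Γ(X, wOpen ι j) := pullPoly ι j (MvPolynomial.X j')
  have hyeq : y = ι.app (LefPen.chart r k j)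
      ((Proj.awayToSection (CohB1.polyGrading r k) (MvPolynomial.X j)).hom (ZetaLib.coord r k j j')) := by
    show ι.app _ ((Proj.awayToSection _ _).hom (ZetaLib.dehom r k j (MvPolynomial.X j'))) = _
    rw [ZetaLib.dehom, MvPolynomial.eval₂Hom_X']
  have hb : X.basicOpen y = ι ⁻¹ᵁ (LefPen.chart r k j ⊓ LefPen.chart r k j') := by
    rw [hyeq, ← Scheme.preimage_basicOpen, basicOpen_coord]
  have hmem : pointOf ι j ev ∈ X.basicOpen y := by rw [hb]; exact ⟨pointOf_mem ι j ev, h⟩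
  have h2 : (⟨RingHom.ker ev, RingHom.ker_isPrime ev⟩ : PrimeSpectrum Γ(X, wOpen ι j)) ∈
      PrimeSpectrum.basicOpen y :=
    (isAffine_wOpen ι j).fromSpec_preimage_basicOpen y ▸ hmem
  exact h2 h0

/-- Two points of charts give the same point iff their coordinates are proportional. -/
theorem pointOf_eq_iff [IsClosedImmersion ι] {j j' : Fin (r + 1)} {ev : Γ(X, wOpen ι j) →ₐ[k] k}
    {ev' : Γ(X, wOpen ι j') →ₐ[k] k} :
    pointOf ι j ev = pointOf ι j' ev' ↔ ∀ l, vec ι j ev l = vec ι j ev j' * vec ι j' ev' l := by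
  refine ⟨fun h => ?_, fun h => pointOf_eq_of_rel ι (fun h0 => ?_) h⟩
  · have hne := vec_ne_zero_of_mem ι (h ▸ pointOf_mem ι j' ev' : pointOf ι j ev ∈ wOpen ι j')
    obtain ⟨evi, hrel⟩ := exists_change_point ι j' j ev hne
    rwa [pointOf_inj ι ((h.symm.trans (pointOf_eq_of_rel ι hne hrel)))]
  · exact one_ne_zero ((vec_self ι j ev).symm.trans ((h j).trans (by rw [h0, zero_mul])))

variable [IsAlgClosed k]

/-- Every closed point of a chart is a rational point. -/
theorem exists_pointOf_eq [IsClosedImmersion ι] [LocallyOfFiniteType (ι ≫ CohB1.ProjSpace.toSpec r k)]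
    (j : Fin (r + 1)) (x : X) (hx : IsClosed ({x} : Set X)) (hj : x ∈ wOpen ι j) :
    ∃ ev, pointOf ι j ev = x := by
  haveI : Algebra.FiniteType k Γ(X, wOpen ι j) :=
    SmoothReg.finiteType_affMap (ι ≫ CohB1.ProjSpace.toSpec r k) (isAffine_wOpen ι j)
  haveI hm := (isAffine_wOpen ι j).primeIdealOf_isMaximal_of_isClosed ⟨x, hj⟩ hx
  obtain ⟨ev, hev⟩ := exists_point (k := k) ((isAffine_wOpen ι j).primeIdealOf ⟨x, hj⟩).asIdeal hm.ne_top
  refine ⟨ev, ?_⟩
  refine Eq.trans ?_ ((isAffine_wOpen ι j).fromSpec_primeIdealOf ⟨x, hj⟩)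
  exact congrArg _ (PrimeSpectrum.ext (hm.eq_of_le (RingHom.ker_isPrime ev).ne_top fun a ha => hev a ha).symm)

end

end Groth.Agent.LefPenLib
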