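import Groth.Agent.LefPenLib.Exist
import Groth.Agent.LefPenLib.Param

/-!
# Jets of the forms touching at a given point
-/

set_option backward.isDefEq.respectTransparency false
set_option backward.isDefEq.respectTransparency.types false
set_option linter.unusedSectionVars false
set_option linter.style.haveILetI false

universe u

open CategoryTheory AlgebraicGeometry

namespace Groth.Agent.LefPenLib

noncomputable section

variable {r : ℕ} {k : Type u} [Field k] {X : Scheme.{u}} (ι : X ⟶ CohB1.ProjSpace r k) {d : ℕ}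

attribute [local instance] wAlgebra

/-- The product of two forms. -/
def mulForm {a b : ℕ} (p : LefPen.Form r k a) (q : LefPen.Form r k b) (h : a + b = d) : LefPen.Form r k d :=
  ⟨p.1 * q.1, h ▸ MvPolynomial.IsHomogeneous.mul p.2 q.2⟩

theorem pullForm_mulForm (i : Fin (r + 1)) {a b : ℕ} (p : LefPen.Form r k a) (q : LefPen.Form r k b)
    (h : a + b = d) : pullForm ι i (mulForm p q h) = pullForm ι i p * pullForm ι i q := by
  rw [pullForm_eq, pullForm_eq, pullForm_eq]
  exact map_mul _ _ _

theorem dblZero_mul_left {A : Type u} [CommRing A] [Algebra k A] {ev : A →ₐ[k] k} {h : A} (hz : DblZero ev h) (u : A) :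
    DblZero ev (h * u) := fun φ hφ => by rw [map_mul, hz φ hφ, zero_mul]

theorem dblZero_mul_zero {A : Type u} [CommRing A] [Algebra k A] {ev : A →ₐ[k] k} {h u : A} (h0 : ev h = 0)
    (u0 : ev u = 0) : DblZero ev (h * u) := fun φ hφ => by
  have h1 : TrivSqZeroExt.fst (φ h) = 0 := by rw [← h0, ← hφ]; rfl
  have h2 : TrivSqZeroExt.fst (φ u) = 0 := by rw [← u0, ← hφ]; rfl
  refine TrivSqZeroExt.ext ?_ ?_
  · rw [map_mul, TrivSqZeroExt.fst_mul, h1, zero_mul, TrivSqZeroExt.fst_zero]
  · rw [map_mul, TrivSqZeroExt.snd_mul, h1, h2]; simp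

/-- The forms touching at a point. -/
def tanForms (j : Fin (r + 1)) (ev : Γ(X, wOpen ι j) →ₐ[k] k) : Submodule k (LefPen.Form r k d) where
  carrier := {H | Bad ι j ev H}
  zero_mem' := fun φ _ => by
    rw [show pullForm ι j (0 : LefPen.Form r k d) = 0 by rw [pullForm_eq]; exact map_zero _, map_zero]
  add_mem' := fun {H H'} h h' φ hφ => by
    rw [show pullForm ι j (H + H') = pullForm ι j H + pullForm ι j H' by
      rw [pullForm_eq, pullForm_eq, pullForm_eq]; exact map_add _ _ _, map_add, h φ hφ, h' φ hφ, add_zero]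
  smul_mem' := fun c H h φ hφ => by
    rw [show pullForm ι j (c • H) = c • pullForm ι j H by
      rw [pullForm_eq, pullForm_eq]; exact map_smul _ _ _, map_smul, h φ hφ, smul_zero]

theorem mem_tanForms {j : Fin (r + 1)} {ev : Γ(X, wOpen ι j) →ₐ[k] k} {H : LefPen.Form r k d} :
    H ∈ tanForms ι j ev ↔ Bad ι j ev H := Iff.rfl

section Jet

variable {m : ℕ} {i : Fin (r + 1)} {F : Γ(X, wOpen ι i)}
  (b : Module.Basis (Fin m) (Localization.Away F) Ω[Localization.Away F⁄k])
  (evB : Localization.Away F →ₐ[k] k)

/-- Value and derivatives at a point of a chart. -/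
def jet : Γ(X, wOpen ι i) →ₗ[k] (Option (Fin m) → k) :=
  LinearMap.pi fun o => Option.elim o (evB.comp (IsScalarTower.toAlgHom k _ _)).toLinearMap fun l =>
    evB.toLinearMap.comp (((b.coord l).restrictScalars k).comp
      ((KaehlerDifferential.D k (Localization.Away F)).toLinearMap.comp (IsScalarTower.toAlgHom k _ _).toLinearMap))

theorem jet_none (p : Γ(X, wOpen ι i)) :
    jet ι b evB p none = evB (algebraMap _ (Localization.Away F) p) := rfl

theorem jet_some (p : Γ(X, wOpen ι i)) (l : Fin m) :
    jet ι b evB p (some l) = evB (b.repr (KaehlerDifferential.D k (Localization.Away F) (algebraMap _ _ p)) l) := rfl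

theorem jet_mul_none (p q : Γ(X, wOpen ι i)) :
    jet ι b evB (p * q) none = jet ι b evB p none * jet ι b evB q none := by
  simp [jet_none]

theorem jet_mul_some (p q : Γ(X, wOpen ι i)) (l : Fin m) :
    jet ι b evB (p * q) (some l) =
      jet ι b evB p none * jet ι b evB q (some l) + jet ι b evB q none * jet ι b evB p (some l) := by
  rw [jet_some, jet_some, jet_some, jet_none, jet_none, map_mul, Derivation.leibniz, map_add, Finsupp.add_apply,
    map_add, map_smul, map_smul, Finsupp.smul_apply, Finsupp.smul_apply, smul_eq_mul, smul_eq_mul, map_mul, map_mul]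

theorem jet_eq_zero_iff (p : Γ(X, wOpen ι i)) :
    jet ι b evB p = 0 ↔ DblZero (evB.comp (IsScalarTower.toAlgHom k _ _)) p := by
  rw [← dblZero_localization F evB, dblZero_iff b evB, funext_iff, Option.forall]
  exact Iff.rfl

variable [IsAlgClosed k] [IsClosedImmersion ι] [IrreducibleSpace X]

/-- Forms of positive degree realise every jet. -/
theorem exists_jet (e : ℕ) (he : 1 ≤ e) (v : Option (Fin m) → k) :
    ∃ G : LefPen.Form r k e, jet ι b evB (pullForm ι i G) = v := by
  classical
  obtain ⟨c, hc⟩ := exists_lin_jet ι i F b evB fun l => v (some l)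
  let p : MvPolynomial (Fin (r + 1)) k := ∑ l, c l • MvPolynomial.X l
  let c0 : k := v none - evB (algebraMap Γ(X, wOpen ι i) (Localization.Away F) (pullPoly ι i p))
  let P : MvPolynomial (Fin (r + 1)) k := (p + MvPolynomial.C c0 * MvPolynomial.X i) * MvPolynomial.X i ^ (e - 1)
  have hP : P.IsHomogeneous e := by
    have h := (((MvPolynomial.IsHomogeneous.sum Finset.univ (fun l => c l • MvPolynomial.X l) 1 fun l _ => by
      rw [MvPolynomial.smul_eq_C_mul]; exact (MvPolynomial.isHomogeneous_X k l).C_mul _).add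
        ((MvPolynomial.isHomogeneous_X k i).C_mul c0)).mul (MvPolynomial.isHomogeneous_X_pow (R := k) i (e - 1)))
    rwa [show 1 + (e - 1) = e by omega] at h
  refine ⟨⟨P, hP⟩, funext fun o => ?_⟩
  have hpull : pullForm ι i (⟨P, hP⟩ : LefPen.Form r k e) = pullPoly ι i p + algebraMap k _ c0 := by
    rw [pullForm_eq]
    simp only [P, map_mul, map_add, map_pow, pullPoly_X_self, one_pow, mul_one]
    rw [← MvPolynomial.algebraMap_eq, AlgHom.commutes]
  rcases o with _ | l
  · rw [jet_none, hpull, map_add, map_add, ← IsScalarTower.algebraMap_apply, AlgHom.commutes,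
      Algebra.algebraMap_self_apply]
    exact add_sub_cancel _ _
  · rw [jet_some, hpull, map_add, map_add, ← IsScalarTower.algebraMap_apply, Derivation.map_algebraMap, add_zero]
    exact hc l

/-- Away from the zeros of a form touching at `x` all jets are realised by forms touching at `x`. -/
theorem exists_jet_tan (j : Fin (r + 1)) (evx : Γ(X, wOpen ι j) →ₐ[k] k) {e e' : ℕ} (he : e + e' = d) (he' : 1 ≤ e')
    (q : LefPen.Form r k e) (hq : Bad ι j evx q) (hqy : jet ι b evB (pullForm ι i q) none ≠ 0)
    (v : Option (Fin m) → k) : ∃ G ∈ tanForms (d := d) ι j evx, jet ι b evB (pullForm ι i G) = v := by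
  let Jq := jet ι b evB (pullForm ι i q)
  obtain ⟨G', hG'⟩ := exists_jet ι b evB e' he' fun o => Option.elim o (v none / Jq none)
    fun l => (v (some l) - v none / Jq none * Jq (some l)) / Jq none
  refine ⟨mulForm q G' he, ?_, funext fun o => ?_⟩
  · show DblZero evx _
    rw [pullForm_mulForm]
    exact dblZero_mul_left hq _
  · rw [pullForm_mulForm]
    rcases o with _ | l
    · rw [jet_mul_none, hG']
      exact mul_div_cancel₀ _ hqy
    · rw [jet_mul_some, hG']
      show Jq none * ((v (some l) - v none / Jq none * Jq (some l)) / Jq none) + v none / Jq none * Jq (some l) = _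
      rw [mul_div_cancel₀ _ hqy, sub_add_cancel]

/-- Away from `x` the jets of products of two linear forms through `x` fill a hyperplane. -/
theorem exists_jet_tan_two (j : Fin (r + 1)) (evx : Γ(X, wOpen ι j) →ₐ[k] k)
    (l : LefPen.Form r k 1) (hl : evx (pullForm ι j l) = 0) (hly : jet ι b evB (pullForm ι i l) none ≠ 0) :
    ∃ s : Fin m → Option (Fin m), ∀ u : Fin m → k,
      ∃ G ∈ tanForms (d := 2) ι j evx, ∀ t, jet ι b evB (pullForm ι i G) (s t) = u t := by
  classical
  let Jm : LefPen.Form r k 2 →ₗ[k] (Option (Fin m) → k) :=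
    { toFun := fun G => jet ι b evB (pullForm ι i G)
      map_add' := fun G G' => by rw [pullForm_eq, pullForm_eq, pullForm_eq, ← map_add, ← map_add]; rfl
      map_smul' := fun c G => by
        rw [pullForm_eq, pullForm_eq, RingHom.id_apply, ← map_smul, ← map_smul]; rfl }
  let S := Submodule.map Jm (tanForms (d := 2) ι j evx)
  let w := Jm (mulForm l (lin j) rfl)
  have hS : ∀ v, ∃ c : k, v - c • w ∈ S := by
    intro v
    let Jl := jet ι b evB (pullForm ι i l)
    obtain ⟨p, hp⟩ := exists_jet ι b evB 1 le_rfl fun o => Option.elim o (v none / Jl none)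
      fun s => (v (some s) - v none / Jl none * Jl (some s)) / Jl none
    refine ⟨evx (pullForm ι j p), ?_⟩
    refine ⟨mulForm l p rfl - evx (pullForm ι j p) • mulForm l (lin j) rfl, ?_, ?_⟩
    · show DblZero evx _
      rw [show pullForm ι j (mulForm l p rfl - evx (pullForm ι j p) • mulForm l (lin j) rfl) =
          pullForm ι j l * (pullForm ι j p - evx (pullForm ι j p) • pullForm ι j (lin j)) by
        simp only [pullForm_eq, mulForm, Submodule.coe_sub, Submodule.coe_smul_of_tower, map_sub, map_smul, map_mul,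
          mul_sub, mul_smul_comm]]
      refine dblZero_mul_zero hl ?_
      rw [map_sub, map_smul, pullForm_eq ι j (lin j)]
      show _ - _ • evx (pullPoly ι j (MvPolynomial.X j)) = 0
      rw [pullPoly_X_self, map_one, smul_eq_mul, mul_one, sub_self]
    · rw [map_sub, map_smul]
      refine congrArg (· - _) (funext fun o => ?_)
      show jet ι b evB (pullForm ι i (mulForm l p rfl)) o = v o
      rw [pullForm_mulForm]
      rcases o with _ | s
      · rw [jet_mul_none, hp]
        exact mul_div_cancel₀ _ hly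
      · rw [jet_mul_some, hp]
        show Jl none * ((v (some s) - v none / Jl none * Jl (some s)) / Jl none) + v none / Jl none * Jl (some s) = _
        rw [mul_div_cancel₀ _ hly, sub_add_cancel]
  -- drop a coordinate
  obtain ⟨o, ho⟩ : ∃ o : Option (Fin m), ∀ v, ∃ c : k, v - c • (Pi.single o 1 : Option (Fin m) → k) ∈ S := by
    by_cases hw : w ∈ S
    · refine ⟨none, fun v => ⟨0, ?_⟩⟩
      obtain ⟨c, hc⟩ := hS v
      rw [zero_smul, sub_zero]
      simpa using S.add_mem hc (S.smul_mem c hw)
    · obtain ⟨o, ho⟩ : ∃ o : Option (Fin m), (Pi.single o 1 : Option (Fin m) → k) ∉ S := by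
        by_contra! hc
        refine hw ?_
        rw [pi_eq_sum_univ' w]
        exact S.sum_mem fun o _ => S.smul_mem _ (hc o)
      obtain ⟨c, hc⟩ := hS (Pi.single o 1)
      have hc0 : c ≠ 0 := by rintro rfl; rw [zero_smul, sub_zero] at hc; exact ho hc
      refine ⟨o, fun v => ?_⟩
      obtain ⟨c', hc'⟩ := hS v
      refine ⟨c' * c⁻¹, ?_⟩
      have h2 := S.sub_mem hc' (S.smul_mem (c' * c⁻¹) hc)
      rw [smul_sub, smul_smul, inv_mul_cancel_right₀ hc0] at h2
      convert h2 using 1
      module
  let t := Equiv.optionSubtypeNe o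
  let e : {x : Option (Fin m) // x ≠ o} ≃ Fin m := Fintype.equivFinOfCardEq (by
    rw [Fintype.card_subtype_compl, Fintype.card_subtype_eq, Fintype.card_option, Fintype.card_fin, Nat.add_sub_cancel])
  refine ⟨fun q => (e.symm q).1, fun u => ?_⟩
  obtain ⟨c, hc⟩ := ho fun x => if h : x = o then 0 else u (e ⟨x, h⟩)
  obtain ⟨G, hG, hGeq⟩ := hc
  refine ⟨G, hG, fun q => ?_⟩
  show Jm G _ = _
  rw [hGeq]
  simp [(e.symm q).2]

end Jet

/-- Some linear form vanishes at the first point and not at the second. -/
theorem exists_lin_sep [IsClosedImmersion ι] {i j : Fin (r + 1)} (evx : Γ(X, wOpen ι j) →ₐ[k] k)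
    (evy : Γ(X, wOpen ι i) →ₐ[k] k) (hne : pointOf ι j evx ≠ pointOf ι i evy) :
    ∃ l : LefPen.Form r k 1, evx (pullForm ι j l) = 0 ∧ evy (pullForm ι i l) ≠ 0 := by
  by_contra! hc
  refine hne ((pointOf_eq_iff ι).2 fun a => ?_).symm
  have h := hc (lin a - vec ι j evx a • lin j) (by
    simp only [pullForm_eq, Submodule.coe_sub, Submodule.coe_smul_of_tower, lin, map_sub, map_smul, vec,
      pullPoly_X_self, map_one, smul_eq_mul, mul_one, sub_self])
  simp only [pullForm_eq, Submodule.coe_sub, Submodule.coe_smul_of_tower, lin, map_sub, map_smul, smul_eq_mul] at h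
  show evy _ = evy (pullPoly ι i (MvPolynomial.X j)) * vec ι j evx a
  rw [sub_eq_zero.1 h, mul_comm]

end

end Groth.Agent.LefPenLib
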