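import Groth.Agent.BertiniAff.Chart
import Mathlib.Algebra.DualNumber
import Mathlib.RingTheory.Jacobson.Ring
import Mathlib.RingTheory.Nullstellensatz

/-!
# Functions vanishing to second order at a point
-/

open TensorProduct KaehlerDifferential

universe u

namespace Groth.Agent.LefPenLib

noncomputable section

variable {k : Type u} [Field k] {A B : Type u} [CommRing A] [Algebra k A] [CommRing B] [Algebra k B]

/-- `h` vanishes to second order at the point `ev`: every tangent vector at `ev` kills it. -/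
def DblZero (ev : A →ₐ[k] k) (h : A) : Prop :=
  ∀ φ : A →ₐ[k] DualNumber k, (TrivSqZeroExt.fstHom k k k).comp φ = ev → φ h = 0

theorem DblZero.eval_eq_zero {ev : A →ₐ[k] k} {h : A} (H : DblZero ev h) : ev h = 0 := by
  have h1 := H ((Algebra.ofId k (DualNumber k)).comp ev) (AlgHom.ext fun a => by
    show TrivSqZeroExt.fst (TrivSqZeroExt.inl (ev a) : DualNumber k) = ev a
    rw [TrivSqZeroExt.fst_inl])
  exact (FaithfulSMul.algebraMap_eq_zero_iff k (DualNumber k)).1 h1

theorem isUnit_of_fst {φ : A →ₐ[k] DualNumber k} {ev : A →ₐ[k] k}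
    (hφ : (TrivSqZeroExt.fstHom k k k).comp φ = ev) {a : A} (ha : ev a ≠ 0) : IsUnit (φ a) := by
  rw [TrivSqZeroExt.isUnit_iff_isUnit_fst, isUnit_iff_ne_zero]
  rwa [← hφ] at ha

/-- Tangent vectors with respect to a basis of the differentials. -/
def tangentHom {r : ℕ} (b : Module.Basis (Fin r) B Ω[B⁄k]) (ev : B →ₐ[k] k) (l : Fin r) :
    B →ₐ[k] DualNumber k where
  toFun x := TrivSqZeroExt.inl (ev x) + TrivSqZeroExt.inr (ev (b.repr (D k B x) l))
  map_one' := by simp
  map_mul' x y := by
    ext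
    · simp
    · simp [Derivation.leibniz, mul_comm, add_comm]
  map_zero' := by simp
  map_add' x y := by
    ext <;> simp
  commutes' c := by
    ext
    · simp [TrivSqZeroExt.algebraMap_eq_inl]
    · simp [TrivSqZeroExt.algebraMap_eq_inl]

theorem snd_tangentHom {r : ℕ} (b : Module.Basis (Fin r) B Ω[B⁄k]) (ev : B →ₐ[k] k) (l : Fin r) (x : B) :
    TrivSqZeroExt.snd (tangentHom b ev l x) = ev (b.repr (D k B x) l) := by
  show TrivSqZeroExt.snd (TrivSqZeroExt.inl (ev x) + TrivSqZeroExt.inr _ : DualNumber k) = _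
  simp

theorem fst_tangentHom {r : ℕ} (b : Module.Basis (Fin r) B Ω[B⁄k]) (ev : B →ₐ[k] k) (l : Fin r) :
    (TrivSqZeroExt.fstHom k k k).comp (tangentHom b ev l) = ev := AlgHom.ext fun x => by
  show TrivSqZeroExt.fst (TrivSqZeroExt.inl (ev x) + TrivSqZeroExt.inr _ : DualNumber k) = _
  simp

/-- The functional on differentials given by a tangent vector. -/
theorem exists_lift (ev : B →ₐ[k] k) (φ : B →ₐ[k] DualNumber k)
    (hφ : (TrivSqZeroExt.fstHom k k k).comp φ = ev) :
    ∃ L : Ω[B⁄k] →+ k, (∀ (c : B) (w : Ω[B⁄k]), L (c • w) = ev c * L w) ∧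
      ∀ x, L (D k B x) = TrivSqZeroExt.snd (φ x) := by
  letI : Algebra B k := ev.toRingHom.toAlgebra
  haveI : IsScalarTower k B k := IsScalarTower.of_algebraMap_eq fun c => (ev.commutes c).symm
  have hfst : ∀ x, TrivSqZeroExt.fst (φ x) = ev x := fun x => by rw [← hφ]; rfl
  let δ : Derivation k B k :=
    { toLinearMap := (TrivSqZeroExt.sndHom k k).comp φ.toLinearMap
      map_one_eq_zero' := by simp
      leibniz' := fun x y => by
        show TrivSqZeroExt.snd (φ (x * y)) = x • TrivSqZeroExt.snd (φ y) + y • TrivSqZeroExt.snd (φ x)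
        rw [map_mul]
        show _ = ev x * TrivSqZeroExt.snd (φ y) + ev y * TrivSqZeroExt.snd (φ x)
        rw [← hfst, ← hfst, TrivSqZeroExt.snd_mul]
        simp [mul_comm] }
  exact ⟨δ.liftKaehlerDifferential.toAddMonoidHom, fun c w => δ.liftKaehlerDifferential.map_smul c w,
    fun x => δ.liftKaehlerDifferential_comp_D x⟩

/-- Second order vanishing in terms of partial derivatives in a chart. -/
theorem dblZero_iff {r : ℕ} (b : Module.Basis (Fin r) B Ω[B⁄k]) (ev : B →ₐ[k] k) (h : B) :
    DblZero ev h ↔ ev h = 0 ∧ ∀ l, ev (b.repr (D k B h) l) = 0 := by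
  refine ⟨fun H => ⟨H.eval_eq_zero, fun l => ?_⟩, fun H φ hφ => ?_⟩
  · rw [← snd_tangentHom, H _ (fst_tangentHom b ev l), TrivSqZeroExt.snd_zero]
  · obtain ⟨L, hL, hLD⟩ := exists_lift ev φ hφ
    refine TrivSqZeroExt.ext ?_ ?_
    · rw [TrivSqZeroExt.fst_zero, ← H.1, ← hφ]; rfl
    · rw [TrivSqZeroExt.snd_zero, ← hLD, ← b.sum_repr (D k B h), map_sum]
      exact Finset.sum_eq_zero fun l _ => by rw [hL, H.2 l, zero_mul]

theorem dblZero_mul_unit {ev : A →ₐ[k] k} {u h : A} (hu : ev u ≠ 0) : DblZero ev (u * h) ↔ DblZero ev h := by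
  refine ⟨fun H φ hφ => ?_, fun H φ hφ => by rw [map_mul, H φ hφ, mul_zero]⟩
  have h1 := H φ hφ
  rw [map_mul] at h1
  exact (isUnit_of_fst hφ hu).mul_right_eq_zero.1 h1

section Localization

variable [Algebra A B] [IsScalarTower k A B] (F : A) [IsLocalization.Away F B]

include F in
/-- Second order vanishing can be tested on a neighbourhood. -/
theorem dblZero_localization (evB : B →ₐ[k] k) (h : A) :
    DblZero evB (algebraMap A B h) ↔ DblZero (evB.comp (IsScalarTower.toAlgHom k A B)) h := by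
  refine ⟨fun H φ hφ => ?_, fun H φ hφ => H (φ.comp (IsScalarTower.toAlgHom k A B)) (by rw [← AlgHom.comp_assoc, hφ])⟩
  have hF : evB.comp (IsScalarTower.toAlgHom k A B) F ≠ 0 :=
    isUnit_iff_ne_zero.1 ((IsLocalization.Away.algebraMap_isUnit (S := B) F).map evB)
  have hunit : ∀ y : Submonoid.powers F, IsUnit (φ y) := by
    rintro ⟨_, m, rfl⟩
    rw [map_pow]
    exact (isUnit_of_fst hφ hF).pow m
  let ψ : B →ₐ[k] DualNumber k := IsLocalization.liftAlgHom (M := Submonoid.powers F) hunit
  have hψ : ψ.comp (IsScalarTower.toAlgHom k A B) = φ := AlgHom.ext fun a => by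
    show IsLocalization.liftAlgHom (M := Submonoid.powers F) hunit (algebraMap A B a) = φ a
    simp [IsLocalization.liftAlgHom_apply]
  have h2 : (TrivSqZeroExt.fstHom k k k).comp ψ = evB :=
    IsLocalization.algHom_ext (Submonoid.powers F) (by
      show ((TrivSqZeroExt.fstHom k k k).comp ψ).comp (Algebra.algHom k A B) = evB.comp (Algebra.algHom k A B)
      rw [AlgHom.comp_assoc]
      exact (congrArg _ hψ).trans hφ)
  rw [← hψ]
  exact H ψ h2

end Localization

end

end Groth.Agent.LefPenLib
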