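import Groth.Agent.LefPenLib.Test
import Mathlib.RingTheory.Smooth.Basic
import Mathlib.RingTheory.MvPolynomial.Homogeneous
import Mathlib.RingTheory.MvPolynomial.Ideal
import Mathlib.Algebra.MvPolynomial.PDeriv

/-!
# Second order Taylor expansion on a smooth chart
-/

set_option backward.isDefEq.respectTransparency false
set_option backward.isDefEq.respectTransparency.types false

universe u

open MvPolynomial

namespace Groth.Agent.LefPenLib

noncomputable section

variable {k : Type u} [Field k] {B : Type u} [CommRing B] [Algebra k B] {m : ℕ}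

theorem homogeneousComponent_succ_mul_X {R : Type*} [CommRing R] {σ : Type*} (p : MvPolynomial σ R) (s : σ) (n : ℕ) :
    homogeneousComponent (n + 1) (p * X s) = homogeneousComponent n p * X s := by
  classical
  induction p using MvPolynomial.induction_on' with
  | monomial d c =>
    rw [X, monomial_mul, mul_one,
      homogeneousComponent_of_mem (isHomogeneous_monomial c (show (d + Finsupp.single s 1).degree = d.degree + 1 by
        rw [map_add, Finsupp.degree_single])),
      homogeneousComponent_of_mem (isHomogeneous_monomial c rfl)]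
    by_cases h : n = d.degree
    · rw [if_pos (by omega), if_pos h, monomial_mul, mul_one]
    · rw [if_neg (by omega), if_neg h, zero_mul]
  | add p q hp hq => rw [add_mul, map_add, map_add, hp, hq, add_mul]

theorem homogeneousComponent_zero_mul_X {R : Type*} [CommRing R] {σ : Type*} (p : MvPolynomial σ R) (s : σ) :
    homogeneousComponent 0 (p * X s) = 0 := by
  classical
  rw [homogeneousComponent_zero, coeff_mul_X']
  simp

/-- The degree `n` part evaluated at a point. -/
def partAt (ev : B →+* k) (n : ℕ) (u : Fin m → k) (p : MvPolynomial (Fin m) B) : k :=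
  eval u (map ev (homogeneousComponent n p))

theorem partAt_add (ev : B →+* k) (n : ℕ) (u : Fin m → k) (p q : MvPolynomial (Fin m) B) :
    partAt ev n u (p + q) = partAt ev n u p + partAt ev n u q := by simp [partAt]

theorem partAt_C_zero (ev : B →+* k) (u : Fin m → k) (c : B) : partAt ev 0 u (C c) = ev c := by
  simp [partAt, homogeneousComponent_zero]

theorem partAt_C_succ (ev : B →+* k) (n : ℕ) (u : Fin m → k) (c : B) : partAt ev (n + 1) u (C c) = 0 := by
  rw [partAt, homogeneousComponent_of_mem (isHomogeneous_C _ c), if_neg (by omega), map_zero, map_zero]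

theorem partAt_mul_X_zero (ev : B →+* k) (u : Fin m → k) (p : MvPolynomial (Fin m) B) (s : Fin m) :
    partAt ev 0 u (p * X s) = 0 := by rw [partAt, homogeneousComponent_zero_mul_X, map_zero, map_zero]

theorem partAt_mul_X_succ (ev : B →+* k) (n : ℕ) (u : Fin m → k) (p : MvPolynomial (Fin m) B) (s : Fin m) :
    partAt ev (n + 1) u (p * X s) = partAt ev n u p * u s := by
  rw [partAt, homogeneousComponent_succ_mul_X, map_mul, map_X, map_mul, eval_X]
  rfl

/-- The polarisation of the quadratic part. -/
def polarAt (ev : B →+* k) (u w : Fin m → k) (p : MvPolynomial (Fin m) B) : k :=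
  ∑ l, w l * eval u (map ev (pderiv l (homogeneousComponent 2 p)))

theorem polarAt_mul_X (ev : B →+* k) (u w : Fin m → k) (p : MvPolynomial (Fin m) B) (s : Fin m) :
    polarAt ev u w (p * X s) = partAt ev 1 u p * w s + partAt ev 1 w p * u s := by
  classical
  rw [polarAt, homogeneousComponent_succ_mul_X]
  have key : ∀ q : MvPolynomial (Fin m) B,
      ∑ l, w l * eval u (map ev (pderiv l (homogeneousComponent 1 q))) = partAt ev 1 w q := by
    intro q
    induction q using MvPolynomial.induction_on with
    | C c =>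
      rw [homogeneousComponent_of_mem (isHomogeneous_C _ c), if_neg one_ne_zero]
      simp [partAt_C_succ]
    | add p q hp hq => simp only [map_add, mul_add, Finset.sum_add_distrib, hp, hq, partAt_add]
    | mul_X p l _ =>
      rw [homogeneousComponent_succ_mul_X, partAt_mul_X_succ, homogeneousComponent_zero, partAt,
        homogeneousComponent_zero, map_C, eval_C]
      simp [Pi.single_apply, apply_ite, mul_comm]
  rw [← key p]
  simp only [pderiv_mul, pderiv_X, map_add, map_mul, map_X, eval_X, mul_add, Finset.sum_add_distrib]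
  rw [add_comm]
  congr 1
  · simp [partAt, Pi.single_apply, apply_ite, mul_comm, mul_left_comm]
  · rw [Finset.sum_mul]
    exact Finset.sum_congr rfl fun l _ => by ring

theorem polarAt_C (ev : B →+* k) (u w : Fin m → k) (c : B) : polarAt ev u w (C c) = 0 := by
  rw [polarAt, homogeneousComponent_of_mem (isHomogeneous_C _ c), if_neg (by omega)]
  simp

theorem polarAt_add (ev : B →+* k) (u w : Fin m → k) (p q : MvPolynomial (Fin m) B) :
    polarAt ev u w (p + q) = polarAt ev u w p + polarAt ev u w q := by
  simp [polarAt, mul_add, Finset.sum_add_distrib]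

/-- `η ↦ u ε`. -/
def subT3 (ev : B →ₐ[k] k) (u : Fin m → k) : MvPolynomial (Fin m) B →+* T3 k :=
  eval₂Hom ((algebraMap k (T3 k)).comp ev.toRingHom) (fun l => ⟨0, u l, 0⟩)

theorem subT3_apply (ev : B →ₐ[k] k) (u : Fin m → k) (p : MvPolynomial (Fin m) B) :
    subT3 ev u p = ⟨partAt ev.toRingHom 0 u p, partAt ev.toRingHom 1 u p, partAt ev.toRingHom 2 u p⟩ := by
  induction p using MvPolynomial.induction_on with
  | C c => ext <;> simp [subT3, partAt_C_zero, partAt_C_succ]
  | add p q hp hq => rw [map_add, hp, hq]; ext <;> simp [partAt_add]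
  | mul_X p s hp =>
    rw [map_mul, hp, show subT3 ev u (X s) = ⟨0, u s, 0⟩ from eval₂Hom_X' _ _ _]
    ext <;> simp [partAt_mul_X_zero, partAt_mul_X_succ]

/-- `η ↦ u ε + w δ`. -/
def subDual (ev : B →ₐ[k] k) (u w : Fin m → k) :=
  eval₂Hom (S₁ := DualNumber (DualNumber k)) ((algebraMap k (DualNumber (DualNumber k))).comp ev.toRingHom)
    (fun l => TrivSqZeroExt.inl (TrivSqZeroExt.inr (u l)) + TrivSqZeroExt.inr (TrivSqZeroExt.inl (w l)))

theorem subDual_apply (ev : B →ₐ[k] k) (u w : Fin m → k) (p : MvPolynomial (Fin m) B) :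
    subDual ev u w p =
      TrivSqZeroExt.inl (TrivSqZeroExt.inl (partAt ev.toRingHom 0 u p) + TrivSqZeroExt.inr (partAt ev.toRingHom 1 u p)) +
        TrivSqZeroExt.inr (TrivSqZeroExt.inl (partAt ev.toRingHom 1 w p) + TrivSqZeroExt.inr (polarAt ev.toRingHom u w p)) := by
  induction p using MvPolynomial.induction_on with
  | C c => ext <;> simp [subDual, partAt_C_zero, partAt_C_succ, polarAt_C, TrivSqZeroExt.algebraMap_eq_inl']
  | add p q hp hq => rw [map_add, hp, hq]; ext <;> simp [partAt_add, polarAt_add]
  | mul_X p s hp =>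
    rw [map_mul, hp, show subDual ev u w (X s) = _ from eval₂Hom_X' _ _ _]
    have h0 : partAt ev.toRingHom 0 w p = partAt ev.toRingHom 0 u p := by simp [partAt, homogeneousComponent_zero]
    ext <;> simp [partAt_mul_X_zero, partAt_mul_X_succ, polarAt_mul_X] <;>
      first | exact Or.inl h0.symm | ring

/-- Second order Taylor expansion. -/
theorem exists_taylor [Algebra.FormallySmooth k B] (b : Module.Basis (Fin m) B Ω[B⁄k]) :
    ∃ τ : B → MvPolynomial (Fin m) B,
      (∀ (ev : B →ₐ[k] k) (u : Fin m → k), ∃ ψ : B →ₐ[k] T3 k, ∀ x, ψ x = subT3 ev u (τ x)) ∧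
      (∀ (ev : B →ₐ[k] k) (u w : Fin m → k), ∃ Φ : B →ₐ[k] DualNumber (DualNumber k), ∀ x, Φ x = subDual ev u w (τ x)) ∧
      (∀ (ev : B →+* k) (x : B), partAt ev 0 0 (τ x) = ev x) ∧
      (∀ (ev : B →+* k) (u : Fin m → k) (x : B),
        partAt ev 1 u (τ x) = ∑ l, ev (b.repr (KaehlerDifferential.D k B x) l) * u l) := by
  classical
  let I2 : Ideal (MvPolynomial (Fin m) B) := idealOfVars (Fin m) B ^ 2
  let I3 : Ideal (MvPolynomial (Fin m) B) := idealOfVars (Fin m) B ^ 3
  let lin : B → MvPolynomial (Fin m) B := fun x => C x + ∑ l, C (b.repr (KaehlerDifferential.D k B x) l) * X l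
  have hX : ∀ l, (X l : MvPolynomial (Fin m) B) ∈ idealOfVars (Fin m) B := fun l => Ideal.subset_span ⟨l, rfl⟩
  have hlin : ∀ x, lin x - C x ∈ idealOfVars (Fin m) B := fun x => by
    simp only [lin, add_sub_cancel_left]
    exact sum_mem fun l _ => Ideal.mul_mem_left _ _ (hX l)
  let τ1 : B →ₐ[k] MvPolynomial (Fin m) B ⧸ I2 :=
    { toFun := fun x => Ideal.Quotient.mk I2 (lin x)
      map_one' := by simp [lin]
      map_mul' := fun x y => by
        rw [← map_mul, Ideal.Quotient.eq]
        have h : lin x * lin y - lin (x * y) = (lin x - C x) * (lin y - C y) := by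
          simp only [lin, Derivation.leibniz, map_add, map_smul, Finsupp.add_apply, Finsupp.smul_apply, smul_eq_mul,
            map_mul, add_mul, mul_add, Finset.sum_add_distrib, add_sub_cancel_left, Finset.mul_sum, Finset.sum_mul]
          ring_nf
        rw [← neg_sub, h]
        exact neg_mem ((pow_two (idealOfVars (Fin m) B)).symm.le (Ideal.mul_mem_mul (hlin x) (hlin y)))
      map_zero' := by simp [lin]
      map_add' := fun x y => by
        rw [← map_add]
        congr 1
        simp only [lin, map_add, Finsupp.add_apply, add_mul, Finset.sum_add_distrib]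
        abel
      commutes' := fun c => by simp [lin, MvPolynomial.algebraMap_apply]; rfl }
  let g : (MvPolynomial (Fin m) B ⧸ I3) →ₐ[k] MvPolynomial (Fin m) B ⧸ I2 :=
    Ideal.Quotient.factorₐ k (Ideal.pow_le_pow_right (by norm_num))
  have hg : Function.Surjective g := fun y => by
    obtain ⟨p, rfl⟩ := Ideal.Quotient.mk_surjective y
    exact ⟨Ideal.Quotient.mk _ p, rfl⟩
  have hnil : IsNilpotent (RingHom.ker g) := by
    refine ⟨2, le_bot_iff.1 ?_⟩
    refine (Submodule.pow_succ (RingHom.ker g) (n := 1)).le.trans ?_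
    rw [Submodule.pow_one, Ideal.mul_le]
    intro a ha c hc
    obtain ⟨p, rfl⟩ := Ideal.Quotient.mk_surjective a
    obtain ⟨q, rfl⟩ := Ideal.Quotient.mk_surjective c
    have hp : p ∈ I2 := Ideal.Quotient.eq_zero_iff_mem.1 ha
    have hq : q ∈ I2 := Ideal.Quotient.eq_zero_iff_mem.1 hc
    rw [Ideal.mem_bot, ← map_mul, Ideal.Quotient.eq_zero_iff_mem]
    have h4 : I2 * I2 ≤ I3 := by
      rw [← pow_add]; exact Ideal.pow_le_pow_right (by norm_num)
    exact h4 (Ideal.mul_mem_mul hp hq)
  let τ2 : B →ₐ[k] MvPolynomial (Fin m) B ⧸ I3 := Algebra.FormallySmooth.liftOfSurjective τ1 g hg hnil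
  have hτ2 : ∀ x, g (τ2 x) = τ1 x := fun x => DFunLike.congr_fun (Algebra.FormallySmooth.comp_liftOfSurjective τ1 g hg hnil) x
  choose τ hτ using fun x => Ideal.Quotient.mk_surjective (τ2 x)
  have hlow : ∀ (n : ℕ), n < 2 → ∀ x, homogeneousComponent n (τ x) = homogeneousComponent n (lin x) := by
    intro n hn x
    have h1 : τ x - lin x ∈ I2 := by
      rw [← Ideal.Quotient.eq]
      refine Eq.trans ?_ (hτ2 x)
      rw [← hτ x]
      rfl
    rw [← sub_eq_zero, ← map_sub]
    ext d
    rw [coeff_homogeneousComponent, coeff_zero]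
    split_ifs with h
    · exact (mem_pow_idealOfVars_iff' 2 _).1 h1 d (by omega)
    · rfl
  refine ⟨τ, fun ev u => ?_, fun ev u w => ?_, fun ev x => ?_, fun ev u x => ?_⟩
  · have hkill : ∀ p ∈ I3, subT3 ev u p = 0 := fun p hp => by
      rw [subT3_apply]
      have hz : ∀ n, n ≤ 2 → homogeneousComponent n p = 0 := fun n hn => by
        ext d
        rw [coeff_homogeneousComponent, coeff_zero]
        split_ifs with h
        · exact (mem_pow_idealOfVars_iff' 3 _).1 hp d (by omega)
        · rfl
      ext <;> simp [partAt, hz]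
    refine ⟨{ (Ideal.Quotient.lift I3 (subT3 ev u) hkill).comp τ2.toRingHom with commutes' := fun c => ?_ }, fun x => ?_⟩
    · show Ideal.Quotient.lift I3 (subT3 ev u) hkill (τ2 (algebraMap k B c)) = _
      rw [AlgHom.commutes]
      show subT3 ev u (C (algebraMap k B c)) = _
      simp [subT3]
    · show Ideal.Quotient.lift I3 (subT3 ev u) hkill (τ2 x) = _
      rw [← hτ x, Ideal.Quotient.lift_mk]
  · have hkill : ∀ p ∈ I3, subDual ev u w p = 0 := fun p hp => by
      rw [subDual_apply]
      have hz : ∀ n, n ≤ 2 → homogeneousComponent n p = 0 := fun n hn => by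
        ext d
        rw [coeff_homogeneousComponent, coeff_zero]
        split_ifs with h
        · exact (mem_pow_idealOfVars_iff' 3 _).1 hp d (by omega)
        · rfl
      ext <;> simp [partAt, polarAt, hz]
    refine ⟨{ (Ideal.Quotient.lift I3 (subDual ev u w) hkill).comp τ2.toRingHom with commutes' := fun c => ?_ },
      fun x => ?_⟩
    · show Ideal.Quotient.lift I3 (subDual ev u w) hkill (τ2 (algebraMap k B c)) = _
      rw [AlgHom.commutes]
      show subDual ev u w (C (algebraMap k B c)) = _
      simp [subDual]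
    · show Ideal.Quotient.lift I3 (subDual ev u w) hkill (τ2 x) = _
      rw [← hτ x, Ideal.Quotient.lift_mk]
  · rw [partAt, hlow 0 (by norm_num)]
    simp [lin, homogeneousComponent_zero, coeff_sum, coeff_C_mul, coeff_zero_X]
  · rw [partAt, hlow 1 (by norm_num)]
    have h : homogeneousComponent 1 (lin x) = ∑ l, C (b.repr (KaehlerDifferential.D k B x) l) * X l := by
      simp only [lin, map_add, map_sum]
      rw [homogeneousComponent_of_mem (isHomogeneous_C _ x), if_neg (by norm_num), zero_add]
      exact Finset.sum_congr rfl fun l _ => by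
        rw [homogeneousComponent_succ_mul_X, homogeneousComponent_zero, coeff_C, if_pos rfl]
    rw [h, map_sum, map_sum]
    simp

end

end Groth.Agent.LefPenLib
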