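import Groth.Agent.LefPenLib.QuadCone

/-!
# Exact Taylor formulas for polynomials
-/

set_option backward.isDefEq.respectTransparency false
set_option backward.isDefEq.respectTransparency.types false

universe u v

open MvPolynomial

namespace Groth.Agent.LefPenLib

noncomputable section

variable {k : Type u} [Field k] {σ : Type} [Fintype σ] [DecidableEq σ]

/-- First order: `P(y) - P(x) = ∑ D_i(x, y) (y_i - x_i)` with `D_i(x, x) = ∂_i P(x)`. -/
theorem exists_d1 (P : MvPolynomial σ k) :
    ∃ D : σ → MvPolynomial (σ ⊕ σ) k,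
      rename Sum.inr P - rename Sum.inl P = ∑ i, D i * (X (Sum.inr i) - X (Sum.inl i)) ∧
      ∀ (c : σ → k) (i : σ), eval (Sum.elim c c) (D i) = eval c (pderiv i P) := by
  induction P using MvPolynomial.induction_on with
  | C c => exact ⟨0, by simp, fun _ _ => by simp⟩
  | add p q hp hq =>
    obtain ⟨D, hD, hD'⟩ := hp
    obtain ⟨D', hE, hE'⟩ := hq
    refine ⟨D + D', ?_, fun c i => by simp [hD', hE']⟩
    simp only [map_add, Pi.add_apply, add_mul, Finset.sum_add_distrib, ← hD, ← hE]
    ring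
  | mul_X p s hp =>
    obtain ⟨D, hD, hD'⟩ := hp
    refine ⟨fun i => D i * X (Sum.inr s) + if i = s then rename Sum.inl p else 0, ?_, fun c i => ?_⟩
    · simp only [add_mul, ite_mul, zero_mul, Finset.sum_add_distrib, Finset.sum_ite_eq', Finset.mem_univ, if_true,
        map_mul, rename_X]
      rw [Finset.sum_congr rfl fun i _ => mul_right_comm (D i) (X (Sum.inr s)) (X (Sum.inr i) - X (Sum.inl i)),
        ← Finset.sum_mul, ← hD]
      ring
    · by_cases h : i = s
      · subst h
        simp [hD', eval_rename]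
        ring
      · simp [hD', pderiv_X, h, Ne.symm h]
        ring

/-- Second order: `P(y) - P(x) - ∑ ∂_i P(x) v_i = ∑ Q_il(x, y) v_i v_l`. -/
theorem exists_d2 (P : MvPolynomial σ k) :
    ∃ Q : σ → σ → MvPolynomial (σ ⊕ σ) k,
      rename Sum.inr P - rename Sum.inl P - ∑ i, rename Sum.inl (pderiv i P) * (X (Sum.inr i) - X (Sum.inl i)) =
        ∑ i, ∑ l, Q i l * ((X (Sum.inr i) - X (Sum.inl i)) * (X (Sum.inr l) - X (Sum.inl l))) := by
  induction P using MvPolynomial.induction_on with
  | C c => exact ⟨0, by simp⟩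
  | add p q hp hq =>
    obtain ⟨Q, hQ⟩ := hp
    obtain ⟨Q', hQ'⟩ := hq
    refine ⟨Q + Q', ?_⟩
    simp only [map_add, Pi.add_apply, add_mul, Finset.sum_add_distrib, ← hQ, ← hQ']
    ring
  | mul_X p s hp =>
    obtain ⟨Q, hQ⟩ := hp
    refine ⟨fun i l => Q i l * X (Sum.inr s) + if l = s then rename Sum.inl (pderiv i p) else 0, ?_⟩
    let v : σ → MvPolynomial (σ ⊕ σ) k := fun i => X (Sum.inr i) - X (Sum.inl i)
    have h1 : ∀ i, ∑ l, (Q i l * X (Sum.inr s) + if l = s then rename Sum.inl (pderiv i p) else 0) * (v i * v l) =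
        (∑ l, Q i l * (v i * v l)) * X (Sum.inr s) + rename Sum.inl (pderiv i p) * v i * v s := by
      intro i
      simp only [add_mul, ite_mul, zero_mul, Finset.sum_add_distrib, Finset.sum_ite_eq', Finset.mem_univ, if_true,
        Finset.sum_mul]
      congr 1
      · exact Finset.sum_congr rfl fun l _ => by ring
      · ring
    have h2 : ∀ i, rename Sum.inl (pderiv i (p * X s)) * v i =
        rename Sum.inl (pderiv i p) * v i * X (Sum.inl s) + if i = s then rename Sum.inl p * v i else 0 := by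
      intro i
      by_cases h : i = s
      · subst h
        simp [pderiv_mul]
        ring
      · simp [pderiv_mul, pderiv_X, h, Ne.symm h]
        ring
    show rename Sum.inr (p * X s) - rename Sum.inl (p * X s) - ∑ i, rename Sum.inl (pderiv i (p * X s)) * v i = _
    simp only [h2, h1, v, Finset.sum_add_distrib, Finset.sum_ite_eq', Finset.mem_univ, if_true, ← Finset.sum_mul,
      ← hQ, map_mul, rename_X]
    ring

variable {R : Type v} [CommRing R] [Algebra k R]

theorem aeval_d1 {P : MvPolynomial σ k} {D : σ → MvPolynomial (σ ⊕ σ) k}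
    (h : rename Sum.inr P - rename Sum.inl P = ∑ i, D i * (X (Sum.inr i) - X (Sum.inl i))) (x y : σ → R) :
    aeval y P - aeval x P = ∑ i, aeval (Sum.elim x y) (D i) * (y i - x i) := by
  simpa [aeval_rename, map_sum] using congrArg (aeval (Sum.elim x y)) h

theorem aeval_d2 {P : MvPolynomial σ k} {Q : σ → σ → MvPolynomial (σ ⊕ σ) k}
    (h : rename Sum.inr P - rename Sum.inl P - ∑ i, rename Sum.inl (pderiv i P) * (X (Sum.inr i) - X (Sum.inl i)) =
      ∑ i, ∑ l, Q i l * ((X (Sum.inr i) - X (Sum.inl i)) * (X (Sum.inr l) - X (Sum.inl l)))) (x y : σ → R) :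
    aeval y P - aeval x P - ∑ i, aeval x (pderiv i P) * (y i - x i) =
      ∑ i, ∑ l, aeval (Sum.elim x y) (Q i l) * ((y i - x i) * (y l - x l)) := by
  simpa [aeval_rename, map_sum] using congrArg (aeval (Sum.elim x y)) h

theorem aeval_const (c : σ → k) (p : MvPolynomial σ k) :
    aeval (fun i => algebraMap k R (c i)) p = algebraMap k R (eval c p) := by
  induction p using MvPolynomial.induction_on with
  | C a => simp
  | add p q hp hq => simp only [map_add, hp, hq]
  | mul_X p s hp => simp only [map_mul, hp, aeval_X, eval_X]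

theorem hom_aeval {τ : Type} (φ : R →ₐ[k] k) (y : τ → R) (c : τ → k) (hy : ∀ i, φ (y i) = c i) (p : MvPolynomial τ k) :
    φ (aeval y p) = eval c p := by
  induction p using MvPolynomial.induction_on with
  | C a => simp
  | add p q hp hq => simp only [map_add, hp, hq]
  | mul_X p s hp => simp only [map_mul, hp, hy, aeval_X, eval_X]

/-- The quadratic coefficient of the value at a second order point. -/
theorem aeval_T3_c2 {P : MvPolynomial σ k} {Q : σ → σ → MvPolynomial (σ ⊕ σ) k}
    (h : rename Sum.inr P - rename Sum.inl P - ∑ i, rename Sum.inl (pderiv i P) * (X (Sum.inr i) - X (Sum.inl i)) =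
      ∑ i, ∑ l, Q i l * ((X (Sum.inr i) - X (Sum.inl i)) * (X (Sum.inr l) - X (Sum.inl l))))
    (c : σ → k) (y : σ → T3 k) (hy : ∀ i, (y i).c0 = c i) :
    (aeval y P).c2 = ∑ i, eval c (pderiv i P) * (y i).c2 +
      ∑ i, ∑ l, eval (Sum.elim c c) (Q i l) * ((y i).c1 * (y l).c1) := by
  let C2 : T3 k →+ k := ⟨⟨fun t : T3 k => t.c2, rfl⟩, fun _ _ => rfl⟩
  have hx : ∀ p : MvPolynomial σ k, aeval (fun i => algebraMap k (T3 k) (c i)) p = algebraMap k (T3 k) (eval c p) :=
    fun p => aeval_const c p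
  have hQ0 : ∀ i l, (aeval (Sum.elim (fun i => algebraMap k (T3 k) (c i)) y) (Q i l)).c0 =
      eval (Sum.elim c c) (Q i l) := fun i l => by
    refine hom_aeval T3.fstHom _ _ (fun t => ?_) _
    rcases t with t | t
    · rfl
    · exact hy t
  have h1 := congrArg C2 (aeval_d2 h (fun i => algebraMap k (T3 k) (c i)) y)
  simp only [map_sub, map_sum, hx] at h1
  simp [C2, hQ0, hy] at h1
  rw [← h1]
  ring

/-- The mixed coefficient of the value at a point of `DualNumber (DualNumber k)`. -/
theorem aeval_dual_snd_snd {P : MvPolynomial σ k} {Q : σ → σ → MvPolynomial (σ ⊕ σ) k}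
    (h : rename Sum.inr P - rename Sum.inl P - ∑ i, rename Sum.inl (pderiv i P) * (X (Sum.inr i) - X (Sum.inl i)) =
      ∑ i, ∑ l, Q i l * ((X (Sum.inr i) - X (Sum.inl i)) * (X (Sum.inr l) - X (Sum.inl l))))
    {S : σ → σ → MvPolynomial (σ ⊕ σ) k}
    (hS : ∀ i, rename Sum.inr (pderiv i P) - rename Sum.inl (pderiv i P) =
      ∑ l, S i l * (X (Sum.inr l) - X (Sum.inl l)))
    (c : σ → k) (y : σ → DualNumber (DualNumber k)) (hy : ∀ i, (y i).fst.fst = c i) :
    (aeval y P).snd.snd = ∑ i, eval c (pderiv i P) * (y i).snd.snd +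
      ∑ i, ∑ l, eval (Sum.elim c c) (S i l) * (y l).fst.snd * (y i).snd.fst := by
  let x : σ → DualNumber (DualNumber k) := fun i => TrivSqZeroExt.inl (y i).fst
  let x0 : σ → DualNumber k := fun i => algebraMap k (DualNumber k) (c i)
  let y0 : σ → DualNumber k := fun i => (y i).fst
  have hx : ∀ p : MvPolynomial σ k, aeval x p = TrivSqZeroExt.inl (aeval y0 p) := by
    intro p
    induction p using MvPolynomial.induction_on with
    | C c => simp [TrivSqZeroExt.algebraMap_eq_inl']
    | add p q hp hq => rw [map_add, map_add, hp, hq, TrivSqZeroExt.inl_add]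
    | mul_X p s hp => rw [map_mul, map_mul, hp, aeval_X, aeval_X, TrivSqZeroExt.inl_mul]
  have hx0 : ∀ p : MvPolynomial σ k, aeval x0 p = algebraMap k (DualNumber k) (eval c p) :=
    fun p => aeval_const c p
  have hd : ∀ i, y i - x i = TrivSqZeroExt.inr (y i).snd := fun i => by
    refine TrivSqZeroExt.ext ?_ ?_ <;> simp [x]
  have h1 := congrArg TrivSqZeroExt.snd (aeval_d2 h x y)
  simp only [hd, TrivSqZeroExt.inr_mul_inr, mul_zero, Finset.sum_const_zero, TrivSqZeroExt.snd_zero,
    TrivSqZeroExt.snd_sub, hx, TrivSqZeroExt.snd_inl, sub_zero, TrivSqZeroExt.snd_sum, TrivSqZeroExt.inl_mul_inr,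
    TrivSqZeroExt.snd_inr, smul_eq_mul, sub_eq_zero] at h1
  rw [h1, TrivSqZeroExt.snd_sum, ← Finset.sum_add_distrib]
  refine Finset.sum_congr rfl fun i _ => ?_
  have hS0 : ∀ l, (aeval (Sum.elim x0 y0) (S i l)).fst = eval (Sum.elim c c) (S i l) := fun l => by
    refine hom_aeval (TrivSqZeroExt.fstHom k k k) _ _ (fun t => ?_) _
    rcases t with t | t
    · simp [x0, TrivSqZeroExt.algebraMap_eq_inl]
    · exact hy t
  have h2 := aeval_d1 (hS i) x0 y0
  have hf : (aeval y0 (pderiv i P)).fst = eval c (pderiv i P) := hom_aeval (TrivSqZeroExt.fstHom k k k) _ _ hy _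
  have hs : (aeval y0 (pderiv i P)).snd = ∑ l, eval (Sum.elim c c) (S i l) * (y l).fst.snd := by
    have := congrArg TrivSqZeroExt.snd h2
    rw [hx0, TrivSqZeroExt.snd_sub, TrivSqZeroExt.snd_sum] at this
    rw [show (algebraMap k (DualNumber k) (eval c (pderiv i P))).snd = 0 by simp [TrivSqZeroExt.algebraMap_eq_inl],
      sub_zero] at this
    rw [this]
    refine Finset.sum_congr rfl fun l _ => ?_
    have hfst : (y0 l - x0 l).fst = 0 := by simp [x0, y0, hy, TrivSqZeroExt.algebraMap_eq_inl]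
    rw [TrivSqZeroExt.snd_mul, smul_eq_mul, op_smul_eq_smul, smul_eq_mul, hfst, zero_mul, add_zero, hS0]
    simp [x0, y0, TrivSqZeroExt.algebraMap_eq_inl]
  rw [TrivSqZeroExt.snd_mul, smul_eq_mul, op_smul_eq_smul, smul_eq_mul, hf, hs, Finset.mul_sum]
  congr 1
  exact Finset.sum_congr rfl fun l _ => by ring

end

end Groth.Agent.LefPenLib
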