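import Groth.Agent.LefPenLib.Pencil
import Groth.Agent.LefPenLib.BaseBertini
import Groth.Agent.LefPenLib.Infty

/-!
# Pencils through a given transversal member
-/

set_option backward.isDefEq.respectTransparency false
set_option backward.isDefEq.respectTransparency.types false
set_option linter.unusedSectionVars false
set_option linter.style.haveILetI false

universe u

open CategoryTheory AlgebraicGeometry

namespace Groth.Agent.LefPenLib

noncomputable section

variable {r : ℕ} {k : Type u} [Field k] {X : Scheme.{u}} (ι : X ⟶ CohB1.ProjSpace r k) {d : ℕ}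

attribute [local instance] wAlgebra

/-- A degenerate tangency or several tangencies. -/
abbrev WBad [IsAffineHom ι] (H : LefPen.Form r k d) : Prop := ∃ i ev, PairBad ι i ev H

theorem wBad_smul [IsAffineHom ι] {c : k} (hc : c ≠ 0) {H : LefPen.Form r k d} (h : WBad ι H) : WBad ι (c • H) := by
  obtain ⟨i, ev, h⟩ := h
  exact ⟨i, ev, pairBad_smul ι i ev (inv_ne_zero hc) _ (by rwa [smul_smul, inv_mul_cancel₀ hc, one_smul])⟩

variable [IsAlgClosed k] [IsClosedImmersion ι] [IrreducibleSpace X] {n : ℕ}
  [hsmo : SmoothOfRelativeDimension n (ι ≫ CohB1.ProjSpace.toSpec r k)]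

include hsmo

theorem not_wBad_of (hn : 1 ≤ n) (H : LefPen.Form r k d)
    (h : LefPen.Transversal k n 1 (LefPen.secToSpec ι ({H} : Set (LefPen.Form r k d))) ∨ LefPen.OneOrdQuad k n ι H) :
    ¬ WBad ι H := fun hW => by
  obtain ⟨D, hD0, hD⟩ := exists_open_not_pairBad (n := n) ι hn H h
  exact hD0 (hD H hW)

/-- The members of a Lefschetz pencil have no bad tangencies. -/
theorem not_wBad_of_pencil (hn : 1 ≤ n) {F G : LefPen.Form r k d} (h : LefPen.IsLefschetzPencil k n ι d F G)
    (s t : k) (hst : s ≠ 0 ∨ t ≠ 0) : ¬ WBad ι (s • F + t • G) := by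
  have hmem : ∀ H ∈ LefPen.members k F G, ¬ WBad ι H := fun H hH =>
    not_wBad_of (n := n) ι hn H (or_iff_not_imp_left.2 (h.2.2.2 H hH))
  intro hW
  by_cases hs : s = 0
  · have ht : t ≠ 0 := hst.resolve_left fun h => h hs
    refine hmem G (Set.mem_union_left _ rfl) ?_
    have := wBad_smul ι (inv_ne_zero ht) hW
    rwa [hs, zero_smul, zero_add, smul_smul, inv_mul_cancel₀ ht, one_smul] at this
  · refine hmem (F + (s⁻¹ * t) • G) (Set.mem_union_right _ ⟨_, rfl⟩) ?_
    have := wBad_smul ι (inv_ne_zero hs) hW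
    rwa [smul_add, smul_smul, smul_smul, inv_mul_cancel₀ hs, one_smul] at this

/-- There is a line through a good form avoiding the bad forms, if some line avoids them. -/
theorem exists_line_avoid (hn : 1 ≤ n) (H0 F1 G1 : LefPen.Form r k d)
    (h1 : LefPen.IsLefschetzPencil k n ι d F1 G1)
    (h0 : LefPen.Transversal k n 1 (LefPen.secToSpec ι ({H0} : Set (LefPen.Form r k d)))) :
    ∃ G : LefPen.Form r k d, LinearIndependent k ![H0, G] ∧ ∀ s t : k, (s ≠ 0 ∨ t ≠ 0) → ¬ WBad ι (s • H0 + t • G) := by
  classical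
  have hH0 : H0 ≠ 0 := by
    rintro rfl
    haveI : Nonempty X := inferInstance
    haveI : Smooth (ι ≫ CohB1.ProjSpace.toSpec r k) := SmoothOfRelativeDimension.smooth n _
    haveI : LocallyOfFiniteType (ι ≫ CohB1.ProjSpace.toSpec r k) := inferInstance
    haveI := LocallyOfFiniteType.jacobsonSpace (ι ≫ CohB1.ProjSpace.toSpec r k)
    obtain ⟨x, -, hx⟩ := nonempty_inter_closedPoints (X := X) (Z := Set.univ) Set.univ_nonempty isOpen_univ.isLocallyClosed
    have hy : ι x ∈ (⨆ i, LefPen.chart r k i : (CohB1.ProjSpace r k).Opens) := by rw [iSup_chart]; trivial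
    obtain ⟨j, hj⟩ := TopologicalSpace.Opens.mem_iSup.1 hy
    obtain ⟨ev, -⟩ := exists_pointOf_eq ι j x hx hj
    refine (transversal_iff (n := n) ι hn (0 : LefPen.Form r k d)).1 h0 j ev fun φ _ => ?_
    rw [pullForm_eq]
    simp
  have good := not_wBad_of_pencil (n := n) ι hn h1
  by_cases hspan : H0 ∈ Submodule.span k (Set.range ![F1, G1])
  · obtain ⟨c, hc⟩ := (Submodule.mem_span_range_iff_exists_fun k).1 hspan
    rw [Fin.sum_univ_two] at hc
    simp only [Matrix.cons_val_zero, Matrix.cons_val_one] at hc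
    have hli := LinearIndependent.pair_iff.1 h1.1
    obtain ⟨s0, t0, hdet⟩ : ∃ s0 t0 : k, c 0 * t0 - c 1 * s0 ≠ 0 := by
      by_cases h : c 0 = 0
      · refine ⟨1, 0, ?_⟩
        have : c 1 ≠ 0 := fun h' => hH0 (by rw [← hc, h, h', zero_smul, zero_smul, add_zero])
        simpa using this
      · exact ⟨0, 1, by simpa using h⟩
    have key : ∀ s t : k, s • H0 + t • (s0 • F1 + t0 • G1) = (s * c 0 + t * s0) • F1 + (s * c 1 + t * t0) • G1 :=
      fun s t => by rw [← hc]; module
    have hinv : ∀ s t : k, s * c 0 + t * s0 = 0 → s * c 1 + t * t0 = 0 → s = 0 ∧ t = 0 := fun s t e1 e2 => by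
      have hs : s * (c 0 * t0 - c 1 * s0) = 0 := by linear_combination t0 * e1 - s0 * e2
      have ht : t * (c 0 * t0 - c 1 * s0) = 0 := by linear_combination c 0 * e2 - c 1 * e1
      exact ⟨(mul_eq_zero.1 hs).resolve_right hdet, (mul_eq_zero.1 ht).resolve_right hdet⟩
    refine ⟨s0 • F1 + t0 • G1, LinearIndependent.pair_iff.2 fun s t h => ?_, fun s t hst => ?_⟩
    · rw [key] at h
      exact hinv s t (hli _ _ h).1 (hli _ _ h).2
    · rw [key]
      refine good _ _ ?_
      by_contra! hh
      obtain ⟨h1', h2'⟩ := hinv s t hh.1 hh.2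
      exact hst.elim (fun h => h h1') (fun h => h h2')
  · let Z : Set (Fin 2 → k) := {z | WBad ι (H0 + z 0 • F1 + z 1 • G1)}
    have hfin : Z.Finite := by
      refine finite_of_no_zero_at_infty Z fun v hv => ?_
      obtain ⟨l, hl⟩ := Function.ne_iff.1 hv
      change v l ≠ 0 at hl
      have hv' : v 0 ≠ 0 ∨ v 1 ≠ 0 := by
        fin_cases l
        · exact Or.inl hl
        · exact Or.inr hl
      let w : Fin 2 → k := fun m => (v l)⁻¹ * v m
      have hw' : w 0 ≠ 0 ∨ w 1 ≠ 0 := hv'.imp (fun h => mul_ne_zero (inv_ne_zero hl) h) (fun h => mul_ne_zero (inv_ne_zero hl) h)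
      let H := w 0 • F1 + w 1 • G1
      have hmem : ∃ D : MvPolynomial (Expo r d) k, MvPolynomial.eval (fun e => coeffL e H) D ≠ 0 ∧
          ∀ H', WBad ι H' → MvPolynomial.eval (fun e => coeffL e H') D = 0 := by
        refine exists_open_not_pairBad (n := n) ι hn H ?_
        by_cases ht : LefPen.Transversal k n 1 (LefPen.secToSpec ι ({H} : Set (LefPen.Form r k d)))
        · exact Or.inl ht
        · exact Or.inr (oneOrdQuad_of_not_pairBad (n := n) ι hn H ht (good _ _ hw'))
      obtain ⟨D, hD0, hD⟩ := hmem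
      let lf : Expo r d → MvPolynomial (Fin (2 + 1)) k := fun e =>
        MvPolynomial.C (coeffL e H0) * MvPolynomial.X 0 +
          (MvPolynomial.C (coeffL e F1) * MvPolynomial.X 1 + MvPolynomial.C (coeffL e G1) * MvPolynomial.X 2)
      let p : MvPolynomial (Fin (2 + 1)) k := MvPolynomial.aeval lf D
      let P0 : MvPolynomial (Fin (2 + 1)) (MvPolynomial (Fin 0) k) :=
        homog l.succ (MvPolynomial.map MvPolynomial.C p)
      let P : MvPolynomial (Fin (2 + 1)) k := MvPolynomial.map (MvPolynomial.eval Fin.elim0) P0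
      have hp : ∀ u : Fin (2 + 1) → k, MvPolynomial.eval u p =
          MvPolynomial.eval (fun e => coeffL e (u 0 • H0 + (u 1 • F1 + u 2 • G1))) D := fun u => by
        refine Eq.trans (congrFun (MvPolynomial.aeval_eq_eval u).symm p) (hom_aeval (MvPolynomial.aeval u) lf _ (fun e => ?_) D)
        simp [lf, mul_comm]
      have hP : ∀ u, MvPolynomial.eval u P = evalAt Fin.elim0 u P0 := fun u => rfl
      refine ⟨_, P, (isHomogeneous_homog l.succ _).map _, ?_, fun z hz => ?_⟩
      · rw [hP, show (Fin.cons 0 v : Fin (2 + 1) → k) = fun m => v l * (Fin.cons 0 w : Fin (2 + 1) → k) m from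
            funext fun m => by
              refine Fin.cases ?_ (fun m => ?_) m
              · simp
              · simp [w]; field_simp]
        rw [evalAt_homog l.succ _ Fin.elim0 _ (by simp [w, inv_mul_cancel₀ hl]), evalAt_C_map, hp]
        refine mul_ne_zero (pow_ne_zero _ hl) ?_
        simpa [H, show (Fin.cons 0 w : Fin 3 → k) 2 = w 1 from rfl] using hD0
      · rw [hP]
        by_cases hzl : z l = 0
        · exact evalAt_homog_zero l.succ _ _ (by simpa using hzl)
        rw [show (Fin.cons 1 z : Fin (2 + 1) → k) = fun m => z l * ((z l)⁻¹ * (Fin.cons 1 z : Fin (2 + 1) → k) m) from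
          funext fun m => by field_simp, evalAt_homog l.succ _ Fin.elim0 _ (by simp [inv_mul_cancel₀ hzl]),
          evalAt_C_map, hp, hD _ ?_, mul_zero]
        have hb := wBad_smul ι (inv_ne_zero hzl) hz
        convert hb using 2
        show ((z l)⁻¹ * (Fin.cons 1 z : Fin (2 + 1) → k) 0) • H0 + (((z l)⁻¹ * (Fin.cons 1 z : Fin (2 + 1) → k) 1) • F1 +
          ((z l)⁻¹ * (Fin.cons 1 z : Fin (2 + 1) → k) 2) • G1) = _
        simp only [Fin.cons_zero, Fin.cons_one, show (Fin.cons 1 z : Fin (2 + 1) → k) 2 = z 1 from rfl]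
        module
    obtain ⟨m, hm⟩ := (hfin.image (fun z => z 1 / z 0)).exists_notMem
    refine ⟨F1 + m • G1, LinearIndependent.pair_iff.2 fun s t h => ?_, fun s t hst hW => ?_⟩
    · by_cases hs : s = 0
      · refine ⟨hs, by_contra fun ht => ?_⟩
        rw [hs, zero_smul, zero_add, smul_eq_zero] at h
        have := (LinearIndependent.pair_iff.1 h1.1) 1 m (by rw [one_smul]; exact h.resolve_left ht)
        exact one_ne_zero this.1
      · refine absurd ?_ hspan
        refine (Submodule.mem_span_range_iff_exists_fun k).2 ⟨![-(s⁻¹ * t), -(s⁻¹ * t * m)], ?_⟩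
        rw [Fin.sum_univ_two]
        simp only [Matrix.cons_val_zero, Matrix.cons_val_one]
        have h' := congrArg (fun x => s⁻¹ • x) h
        simp only [smul_add, smul_smul, inv_mul_cancel₀ hs, one_smul, smul_zero] at h'
        rw [eq_comm, ← sub_eq_zero, ← h']
        module
    · by_cases hs : s = 0
      · have ht : t ≠ 0 := hst.resolve_left fun h => h hs
        refine good t (t * m) (Or.inl ht) ?_
        rwa [hs, zero_smul, zero_add, smul_add, smul_smul] at hW
      · have hmem : (![s⁻¹ * t, s⁻¹ * t * m] : Fin 2 → k) ∈ Z := by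
          show WBad ι _
          have hb := wBad_smul ι (inv_ne_zero hs) hW
          convert hb using 2
          rw [smul_add, smul_smul, inv_mul_cancel₀ hs, one_smul]
          simp only [Matrix.cons_val_zero, Matrix.cons_val_one]
          module
        by_cases ht : t = 0
        · refine not_wBad_of (n := n) ι hn H0 (Or.inl h0) ?_
          have hb := wBad_smul ι (inv_ne_zero hs) hW
          rwa [ht, zero_smul, add_zero, smul_smul, inv_mul_cancel₀ hs, one_smul] at hb
        · refine hm ⟨_, hmem, ?_⟩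
          simp only [Matrix.cons_val_zero, Matrix.cons_val_one]
          field_simp

/-- The Lefschetz pencils through a transversal member are generic, given one line avoiding bad forms. -/
theorem isGeneric_through_of_line (hn : 1 ≤ n) (hd : 1 ≤ d) (H0 G' : LefPen.Form r k d)
    (h0 : LefPen.Transversal k n 1 (LefPen.secToSpec ι ({H0} : Set (LefPen.Form r k d))))
    (hli : LinearIndependent k ![H0, G']) (hG' : ∀ s t : k, (s ≠ 0 ∨ t ≠ 0) → ¬ WBad ι (s • H0 + t • G')) :
    LefPen.IsGeneric k {G : LefPen.Form r k d | LefPen.IsLefschetzPencil k n ι d H0 G} := by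
  classical
  obtain ⟨gB, hgB0, hgB⟩ := exists_generic_base (n := n) ι hn hd H0 h0
  let sub : MvPolynomial (Expo r d ⊕ Expo r d) k →ₐ[k] MvPolynomial (Expo r d) k :=
    MvPolynomial.aeval (Sum.elim (fun e => MvPolynomial.C (coeffL e H0)) MvPolynomial.X)
  have hsub : ∀ (G : LefPen.Form r k d) p, MvPolynomial.eval (fun e => coeffL e G) (sub p) =
      MvPolynomial.eval (coeffPair (H0, G)) p := fun G p => by
    refine Eq.trans (congrFun (MvPolynomial.aeval_eq_eval _).symm _) (hom_aeval (MvPolynomial.aeval fun e => coeffL e G) _ _ (fun e => ?_) p)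
    rcases e with e | e <;> simp [coeffPair]
  obtain ⟨D3, hD30, hD3⟩ := exists_member_poly (n := n) ι (WBad ι) (fun H h c hc => wBad_smul ι hc h)
    (coeffPair (H0, G')) (fun H ⟨s, t, hst, hH⟩ => by
      rw [pairOf_coeffPair] at hH
      subst hH
      refine exists_open_not_pairBad (n := n) ι hn _ ?_
      by_cases ht : LefPen.Transversal k n 1 (LefPen.secToSpec ι ({s • H0 + t • G'} : Set (LefPen.Form r k d)))
      · exact Or.inl ht
      · exact Or.inr (oneOrdQuad_of_not_pairBad (n := n) ι hn _ ht (hG' s t hst)))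
  -- a minor
  obtain ⟨J, hJ, hdet⟩ := exists_minor_of_linearIndependent
    (Matrix.of fun (m : Fin 2) (e : Expo r d) => coeffL e (![H0, G'] m)) (by
      rw [Fintype.linearIndependent_iff]
      intro c hc
      refine Fintype.linearIndependent_iff.1 hli c ?_
      refine (ofCoeff_coeffL _).symm.trans ?_
      refine Eq.trans (congrArg ofCoeff (funext fun e => ?_)) (ofCoeff_coeffL (0 : LefPen.Form r k d))
      rw [map_sum, map_zero]
      simpa [Matrix.row] using congrFun hc e)
  let D1 : MvPolynomial (Expo r d ⊕ Expo r d) k :=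
    (Matrix.of fun (m m' : Fin 2) => MvPolynomial.X (![Sum.inl (J m'), Sum.inr (J m')] m)).det
  have hD1 : ∀ G : LefPen.Form r k d, MvPolynomial.eval (coeffPair (H0, G)) D1 =
      (Matrix.of fun (m m' : Fin 2) => coeffL (J m') (![H0, G] m)).det := fun G => by
    rw [show D1 = (Matrix.of fun (m m' : Fin 2) => MvPolynomial.X (![Sum.inl (J m'), Sum.inr (J m')] m)).det from rfl,
      RingHom.map_det]
    congr 1
    ext m m'
    fin_cases m <;> simp [coeffPair]
  -- a transversal member near `H0`
  obtain ⟨f, hf, hf0, hfH⟩ := isZOpen_transversal (n := n) ι hn _ h0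
  refine ⟨_, isPolyFun_eval_coeff (sub D1 * sub D3 * gB), ?_, fun G hne => ?_⟩
  · have h1 : sub D1 ≠ 0 := fun h => by
      have := congrArg (MvPolynomial.eval fun e => coeffL e G') h
      rw [hsub, hD1, map_zero] at this
      exact hdet this
    have h3 : sub D3 ≠ 0 := fun h => by
      have := congrArg (MvPolynomial.eval fun e => coeffL e G') h
      rw [hsub, map_zero] at this
      exact hD30 this
    by_contra! hc
    refine mul_ne_zero (mul_ne_zero h1 h3) hgB0 (MvPolynomial.funext fun a => ?_)
    rw [map_zero, ← hc (ofCoeff a), funext (coeffL_ofCoeff a)]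
  simp only [map_mul, mul_ne_zero_iff, hsub, hD1] at hne
  obtain ⟨⟨h1, h3⟩, hB⟩ := hne
  have h3' := hD3 _ h3
  rw [pairOf_coeffPair] at h3'
  refine ⟨?_, (transversal_pair_iff (n := n) ι hn H0 G).2 (hgB G hB), ?_, fun H hH hnt =>
    oneOrdQuad_of_not_pairBad (n := n) ι hn H hnt ?_⟩
  · rw [Fintype.linearIndependent_iff]
    intro c hc
    have hrow : Matrix.vecMul c (Matrix.of fun (m m' : Fin 2) => coeffL (J m') (![H0, G] m)) = 0 := by
      funext m'
      have := congrArg (coeffL (J m')) hc
      rw [map_sum, map_zero] at this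
      simpa [Matrix.vecMul, dotProduct, map_smul] using this
    have := Matrix.vecMul_injective_of_isUnit ((Matrix.isUnit_iff_isUnit_det _).2 (isUnit_iff_ne_zero.2 h1))
      (hrow.trans (Matrix.zero_vecMul _).symm)
    exact congrFun this
  · obtain ⟨g', hg'⟩ := exists_eval_of_isPolyFun hf
    let q : Polynomial k := substComb Polynomial.C 1 Polynomial.X (fun e => Polynomial.C (coeffL e H0)) (fun e => Polynomial.C (coeffL e G)) g'
    have hq : ∀ c, q.eval c = f (H0 + c • G) := fun c => by
      rw [hg']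
      refine (ringHom_substComb _ (Polynomial.evalRingHom c) (fun c' => by simp) _ _ _ _ g').trans ?_
      congr 2
      funext e
      simp
    have hq0 : q ≠ 0 := fun h => hf0 (by
      rw [show f H0 = f (H0 + (0 : k) • G) by rw [zero_smul, add_zero], ← hq, h, Polynomial.eval_zero])
    refine (Polynomial.finite_setOfPred_isRoot hq0).subset fun c hc => ?_
    by_contra hr
    exact hc (hfH _ (by rw [← hq]; exact hr))
  · rcases hH with hH | ⟨c, rfl⟩
    · have := h3' 0 1 (Or.inr one_ne_zero)
      rw [zero_smul, zero_add, one_smul] at this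
      rwa [Set.mem_singleton_iff.1 hH]
    · have := h3' 1 c (Or.inl one_ne_zero)
      rwa [one_smul] at this

/-- The Lefschetz pencils through a transversal member are generic. -/
theorem isGeneric_through (hn : 1 ≤ n) (hd : 1 ≤ d) (hL : LefPen.IsLefschetzEmb k n ι d) (H0 : LefPen.Form r k d)
    (h0 : LefPen.Transversal k n 1 (LefPen.secToSpec ι ({H0} : Set (LefPen.Form r k d)))) :
    LefPen.IsGeneric k {G : LefPen.Form r k d | LefPen.IsLefschetzPencil k n ι d H0 G} := by
  obtain ⟨fL, -, ⟨⟨F1, G1⟩, hv⟩, hfL⟩ := hL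
  have hp := hfL _ hv
  rw [Set.mem_ofPred_eq] at hp
  dsimp only at hp
  obtain ⟨G', hli, hG'⟩ := exists_line_avoid (n := n) ι hn H0 F1 G1 hp h0
  exact isGeneric_through_of_line (n := n) ι hn hd H0 G' h0 hli hG'

end

end Groth.Agent.LefPenLib
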